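import Groth.Agent.CohqA.PullbackQCoh
import Groth.Agent.EGA2.K34.OpenMap

/-!
# Universality of `L ⟶ g_* L'` is local on the source
-/

set_option autoImplicit false
universe u v

open CategoryTheory CategoryTheory.Limits AlgebraicGeometry TopologicalSpace Opposite

noncomputable section

namespace K40.UnivLoc

open Groth.Agent.CohqA.PullbackSections Groth.Agent.CohqA.PullbackUniv Groth.Agent.CohqA.PullbackQCoh K34.OpenMap AlgebraicGeometry.Scheme.Modules

variable {P P' Z : Scheme.{u}}

/-- A morphism `L ⟶ j_* T` which is bijective on sections over the opens in the range of the open immersion `j` is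
universal. -/
theorem isUniv_of_bijective (j : Z ⟶ P) [IsOpenImmersion j] {L : P.Modules} {T : Z.Modules}
    (lam : L ⟶ (pushforward j).obj T) (h : ∀ W : P.Opens, W ≤ j.opensRange → Function.Bijective (lam.app W)) :
    IsUniv j lam := by
  have e : lam = (restrictAdjunction j).unit.app L ≫ (pushforward j).map (restrictIso j lam h).hom := by
    have h1 := (restrictAdjunction j).homEquiv_unit (X := L) (Y := T) (f := (restrictIso j lam h).hom)
    rw [← h1]
    have h2 : (restrictIso j lam h).hom = ((restrictAdjunction j).homEquiv L T).symm lam := by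
      rw [Adjunction.homEquiv_counit]; rfl
    rw [h2, Equiv.apply_symm_apply]
  rw [e]
  exact (isUniv_restrict j L).comp_iso _

/-- Conversely. -/
theorem bijective_of_isUniv (j : Z ⟶ P) [IsOpenImmersion j] {L : P.Modules} {T : Z.Modules}
    (lam : L ⟶ (pushforward j).obj T) (h : IsUniv j lam) (W : P.Opens) (hW : W ≤ j.opensRange) :
    Function.Bijective (lam.app W) := by
  obtain ⟨e, he, -⟩ := (isUniv_restrict j L).exists_iso h
  rw [← he]
  have h1 : Function.Bijective (((restrictAdjunction j).unit.app L).app W) := by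
    rw [restrictAdjunction_unit_app_app]
    have e' : j ''ᵁ (j ⁻¹ᵁ W) = W := by
      rw [Scheme.Hom.image_preimage_eq_opensRange_inf]
      exact inf_eq_right.2 hW
    have h5 : IsIso (homOfLE (j.image_preimage_le W)).op := by
      have h6 : (homOfLE (j.image_preimage_le W)).op = (eqToHom e').op := rfl
      rw [h6]
      infer_instance
    exact ConcreteCategory.bijective_of_isIso (L.presheaf.map (homOfLE (j.image_preimage_le W)).op)
  have h2 : IsIso (((pushforward j).map e.hom).app W) := inferInstance
  have h3 : Function.Bijective (((pushforward j).map e.hom).app W) := ConcreteCategory.bijective_of_isIso _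
  exact h3.comp h1

theorem compMap_comp_left {g : P' ⟶ P} {h : Z ⟶ P'} {M : P.Modules} {N N' : P'.Modules} {Q : Z.Modules}
    (a : M ⟶ (pushforward g).obj N) (φ : N ⟶ N') (b : N' ⟶ (pushforward h).obj Q) :
    compMap (a ≫ (pushforward g).map φ) b = compMap a (φ ≫ b) := by
  simp only [compMap, Category.assoc, Functor.map_comp]

/-- Universality of `θ : L ⟶ g_* L'` can be checked after composition with universal maps for open immersions covering
the source of `g`. -/
theorem isUniv_of_cover (g : P' ⟶ P) {L : P.Modules} {L' : P'.Modules} (θ : L ⟶ (pushforward g).obj L') {ι : Type v}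
    {Z : ι → Scheme.{u}} (j : ∀ i, Z i ⟶ P') [∀ i, IsOpenImmersion (j i)] (hcov : ∀ x : P', ∃ i, x ∈ (j i).opensRange)
    {T : ∀ i, (Z i).Modules} (b : ∀ i, L' ⟶ (pushforward (j i)).obj (T i)) (hb : ∀ i, IsUniv (j i) (b i))
    (h : ∀ i, IsUniv (j i ≫ g) (compMap θ (b i))) : IsUniv g θ := by
  obtain ⟨φ, hφ⟩ := (isUniv_pbUnit g L L').2 θ
  dsimp only at hφ
  have hloc : ∀ (i : ι) (W : P'.Opens), W ≤ (j i).opensRange → Function.Bijective (φ.app W) := by
    intro i W hW
    have h1 := h i
    rw [← hφ, compMap_comp_left, isUniv_compMap_iff (isUniv_pbUnit g L)] at h1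
    have h2 := bijective_of_isUniv (j i) _ h1 W hW
    have h3 := bijective_of_isUniv (j i) _ (hb i) W hW
    have h4 : Function.Bijective ((b i).app W ∘ φ.app W) := h2
    exact (Function.Bijective.of_comp_iff' h3 _).1 h4
  have : IsIso φ := by
    refine isIso_of_bijective_basis φ (ι := {W : P'.Opens // ∃ i, W ≤ (j i).opensRange}) Subtype.val ?_ ?_
    · rw [Subtype.range_coe_subtype, Opens.isBasis_iff_nbhd]
      intro V x hx
      obtain ⟨i, hi⟩ := hcov x
      exact ⟨V ⊓ (j i).opensRange, ⟨i, inf_le_right⟩, ⟨hx, hi⟩, inf_le_left⟩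
    · rintro ⟨W, i, hW⟩
      exact hloc i W hW
  have h3 := (isUniv_pbUnit g L).comp_iso (asIso φ)
  rw [← hφ]
  exact h3

end K40.UnivLoc

end
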