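import Groth.Agent.EGA2.K40.RelMul
import Groth.Agent.EGA2.K43.RelTw

/-!
# The structure sheaf is `O_P(0)`
-/

set_option autoImplicit false
universe u

open CategoryTheory CategoryTheory.Limits AlgebraicGeometry TopologicalSpace Opposite
open scoped HomogeneousIdeal

noncomputable section

namespace K40.RelZero

open K34.OpenMap K40.RelSec K40.GrMul RelProj K43.GrFrac
open Groth.Agent.Fdesc.LocGen hiding sec res_sec

variable {S P : Scheme.{u}} {𝒮 : RelProj.QCGrAlg S} {p : P ⟶ S}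
  {chart : ∀ (U : S.Opens) (hU : IsAffineOpen U), (((p ⁻¹ᵁ U : P.Opens) : Scheme.{u}) ≅ Proj (𝒮.deg U hU))}

section ring

variable {A σ : Type u} [CommRing A] [SetLike σ A] [AddSubgroupClass σ A] {𝒜 : ℕ → σ} [GradedRing 𝒜]

/-- The section `1` of `O(0)`. -/
def one0 (U : (Proj 𝒜).Opens) : Γ(GrTwist.twist 𝒜 0, U) :=
  globSec (i := 0) (by simp) ⟨1, SetLike.GradedOne.one_mem⟩ U

theorem res_one0 {U V : (Proj 𝒜).Opens} (h : V ≤ U) : res (GrTwist.twist 𝒜 0) h (one0 U) = one0 V := rfl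

theorem isGen_one0 (U : (Proj 𝒜).Opens) : IsGen (one0 (𝒜 := 𝒜) U) :=
  isGen_globSec _ _ _ fun x _ => one_notMem x

theorem val_one0 (U : (Proj 𝒜).Opens) (y : U) : GrTwist.val (one0 (𝒜 := 𝒜) U) y = 1 := by
  refine (val_globSec _ _ _ _).trans ?_
  exact Localization.mk_one

theorem val_smul_one0 (U : (Proj 𝒜).Opens) (c : Γ(Proj 𝒜, U)) (y : U) :
    GrTwist.val (c • one0 (𝒜 := 𝒜) U) y = ((show GrTwist.O (𝒜 := 𝒜) (op U) from c).1 y).val := by
  refine (val_smul c (one0 U) y).trans ?_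
  rw [val_one0, mul_one]

end ring

variable (p chart) in
/-- The chart of the identification of the structure sheaf with `O_P(0)`. -/
def lam0 (U : S.Opens) (hU : IsAffineOpen U) :
    Coh.structureModule P ⟶ (Scheme.Modules.pushforward (emb p chart U hU)).obj (GrTwist.twist (𝒮.deg U hU) 0) :=
  Groth.Agent.Ega2.TensHom.unitHom _
    (show Γ((Scheme.Modules.pushforward (emb p chart U hU)).obj (GrTwist.twist (𝒮.deg U hU) 0), ⊤) from
      one0 (emb p chart U hU ⁻¹ᵁ ⊤))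

theorem lam0_app (U : S.Opens) (hU : IsAffineOpen U) (W : P.Opens) (c : Γ(P, W)) :
    sec (emb p chart U hU) (lam0 p chart U hU) W (show Γ(Coh.structureModule P, W) from c) =
      ((emb p chart U hU).app W c : Γ(Proj (𝒮.deg U hU), emb p chart U hU ⁻¹ᵁ W)) •
        one0 (emb p chart U hU ⁻¹ᵁ W) := rfl

theorem app_val (hP : IsRelProj 𝒮 p chart) (U : S.Opens) (hU : IsAffineOpen U) (r : Γ(S, U)) (W : P.Opens)
    (c : Γ(P, W)) (y : ProjectiveSpectrum (𝒮.deg (S.basicOpen r) (hU.basicOpen r)))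
    (hy : (emb p chart (S.basicOpen r) (hU.basicOpen r)).base y ∈ W)
    (hy' : (emb p chart U hU).base (ProjectiveSpectrum.comap
      (𝒮.res hU (hU.basicOpen r) (S.basicOpen_le r)) (𝒮.irrelevant_le_map U hU r) y) ∈ W) :
    ((show GrTwist.O (𝒜 := 𝒮.deg (S.basicOpen r) (hU.basicOpen r)) (op (emb p chart (S.basicOpen r) (hU.basicOpen r) ⁻¹ᵁ W))
      from (emb p chart (S.basicOpen r) (hU.basicOpen r)).app W c).1 ⟨y, hy⟩).val =
      GrTwist.locMap (𝒮.res hU (hU.basicOpen r) (S.basicOpen_le r)) (𝒮.irrelevant_le_map U hU r) y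
      ((show GrTwist.O (𝒜 := 𝒮.deg U hU) (op (emb p chart U hU ⁻¹ᵁ W))
        from (emb p chart U hU).app W c).1 ⟨_, hy'⟩).val := by
  have e := Scheme.Hom.congr_app (map_res_emb hP U hU r).symm W
  have e1 : (emb p chart (S.basicOpen r) (hU.basicOpen r)).app W c =
    ((Proj.map (𝒮.res hU (hU.basicOpen r) (S.basicOpen_le r)) (𝒮.irrelevant_le_map U hU r) ≫ emb p chart U hU).app W ≫
      (Proj (𝒮.deg (S.basicOpen r) (hU.basicOpen r))).presheaf.map (eqToHom (by rw [map_res_emb hP])).op) c :=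
    congr($e c)
  rw [e1]
  exact HomogeneousLocalization.val_localRingHom _

theorem isRelTwist_zero (hP : IsRelProj 𝒮 p chart) :
    IsRelTwist 𝒮 p chart 0 (Coh.structureModule P) (lam0 p chart) where
  bijective U hU W hW := by
    have h1 : Function.Bijective ((emb p chart U hU).app W) := by
      rw [← K35.RelProjBasic.opensRange_emb (chart := chart) U hU] at hW
      exact K43.RelTw.bijective_app _ hW
    have h2 := (isGen_one0 (𝒜 := 𝒮.deg U hU) (emb p chart U hU ⁻¹ᵁ W)).bijective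
    exact h2.comp h1
  compat U hU r W s y hy hy' := by
    refine (val_smul_one0 _ ((emb p chart (S.basicOpen r) (hU.basicOpen r)).app W s) ⟨y, hy⟩).trans ?_
    refine Eq.trans ?_ (congrArg _ (val_smul_one0 _ ((emb p chart U hU).app W s) ⟨_, hy'⟩).symm)
    exact app_val hP U hU r W s y hy hy'

section restrict

variable {X Z : Scheme.{u}} (j : Z ⟶ X) [IsOpenImmersion j] {M N : X.Modules}

omit [IsOpenImmersion j] in
theorem fun_smul_eq (W : X.Opens) (a b : Γ(X, W)) :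
    (a • (show Γ(Coh.structureModule X, W) from b) : Γ(Coh.structureModule X, W)) =
      (show Γ(Coh.structureModule X, W) from (a * b : Γ(X, W))) := rfl

theorem appIso_hom_inv_mul (W : Z.Opens) (c : Γ(Z, W)) (b : Γ(X, j ''ᵁ W)) :
    (j.appIso W).hom ((j.appIso W).inv c * b) = c * (j.appIso W).hom b := by
  rw [map_mul]
  congr 1
  exact congr($((j.appIso W).inv_hom_id) c)

/-- A pairing with values in functions, restricted along an open immersion. -/
def restrictPairing (ν : ∀ W : X.Opens, Γ(M, W) →ₗ[Γ(X, W)] Γ(N, W) →ₗ[Γ(X, W)] Γ(Coh.structureModule X, W))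
    (W : Z.Opens) :
    Γ(M.restrict j, W) →ₗ[Γ(Z, W)] Γ(N.restrict j, W) →ₗ[Γ(Z, W)] Γ(Coh.structureModule Z, W) :=
  LinearMap.mk₂ Γ(Z, W)
    (fun m n => (show Γ(Coh.structureModule Z, W) from
      (j.appIso W).hom (show Γ(X, j ''ᵁ W) from
        ν (j ''ᵁ W) (show Γ(M, j ''ᵁ W) from m) (show Γ(N, j ''ᵁ W) from n))))
    (fun m m' n => by
      refine Eq.trans ?_ (map_add (j.appIso W).hom.hom _ _)
      exact congrArg (j.appIso W).hom.hom (LinearMap.map_add₂ (ν (j ''ᵁ W)) _ _ _))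
    (fun c m n => by
      refine Eq.trans ?_ (appIso_hom_inv_mul j W c _)
      exact congrArg (j.appIso W).hom.hom (LinearMap.map_smul₂ (ν (j ''ᵁ W)) ((j.appIso W).inv c) _ _))
    (fun m n n' => by
      refine Eq.trans ?_ (map_add (j.appIso W).hom.hom _ _)
      exact congrArg (j.appIso W).hom.hom ((ν (j ''ᵁ W) (show Γ(M, j ''ᵁ W) from m)).map_add _ _))
    (fun c m n => by
      refine Eq.trans ?_ (appIso_hom_inv_mul j W c _)
      exact congrArg (j.appIso W).hom.hom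
        ((ν (j ''ᵁ W) (show Γ(M, j ''ᵁ W) from m)).map_smul ((j.appIso W).inv c) _))

theorem restrictPairing_res
    (ν : ∀ W : X.Opens, Γ(M, W) →ₗ[Γ(X, W)] Γ(N, W) →ₗ[Γ(X, W)] Γ(Coh.structureModule X, W))
    (hν : ∀ (W V : X.Opens) (i : W ⟶ V) (m : Γ(M, V)) (n : Γ(N, V)),
        (Coh.structureModule X).presheaf.map i.op (ν V m n) = ν W (M.presheaf.map i.op m) (N.presheaf.map i.op n))
    (W V : Z.Opens) (i : W ⟶ V) (m : Γ(M.restrict j, V)) (n : Γ(N.restrict j, V)) :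
    (Coh.structureModule Z).presheaf.map i.op (restrictPairing j ν V m n) =
      restrictPairing j ν W ((M.restrict j).presheaf.map i.op m) ((N.restrict j).presheaf.map i.op n) := by
  have h1 := hν _ _ (j.opensFunctor.map i) (show Γ(M, j ''ᵁ V) from m) (show Γ(N, j ''ᵁ V) from n)
  have h2 : ∀ b : Γ(X, j ''ᵁ V), Z.presheaf.map i.op ((j.appIso V).hom b) =
      (j.appIso W).hom (X.presheaf.map (j.opensFunctor.map i).op b) := by
    intro b
    rw [← ConcreteCategory.comp_apply, ← ConcreteCategory.comp_apply]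
    congr 1
    simp [Scheme.Hom.appIso_hom']
  exact (h2 _).trans (congrArg (j.appIso W).hom.hom h1)

theorem isGen_restrict {V : Z.Opens} {e : Γ(M, j ''ᵁ V)} (he : IsGen e) :
    IsGen (M := M.restrict j) (U := V) (show Γ(M.restrict j, V) from e) := by
  intro V' hV'
  have h1 := he (j ''ᵁ V') (j.image_mono hV')
  have h2 : Function.Bijective (j.appIso V').inv := ConcreteCategory.bijective_of_isIso _
  exact h1.comp h2

end restrict

/-- `O_P(n)|_U ⊗ O_P(-n)|_U ≅ O_U` if `U` is covered by opens where homogeneous elements of degrees dividing `n` do not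
vanish. -/
theorem nonempty_iso_of_cover (hP : IsRelProj 𝒮 p chart) {n : ℤ} {L L' : P.Modules}
    {lam : ∀ (U : S.Opens) (hU : IsAffineOpen U),
      L ⟶ (Scheme.Modules.pushforward (emb p chart U hU)).obj (GrTwist.twist (𝒮.deg U hU) n)}
    {lam' : ∀ (U : S.Opens) (hU : IsAffineOpen U),
      L' ⟶ (Scheme.Modules.pushforward (emb p chart U hU)).obj (GrTwist.twist (𝒮.deg U hU) (-n))}
    (hL : IsRelTwist 𝒮 p chart n L lam) (hL' : IsRelTwist 𝒮 p chart (-n) L' lam') (U : P.Opens)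
    (h : ∀ x ∈ U, ∃ (V : S.Opens) (hV : IsAffineOpen V) (d : ℕ) (f : 𝒮.deg V hV d) (W : P.Opens),
      (d : ℤ) ∣ n ∧ x ∈ W ∧ W ≤ p ⁻¹ᵁ V ∧
        ∀ y ∈ emb p chart V hV ⁻¹ᵁ W, f.1 ∉ (y : ProjectiveSpectrum (𝒮.deg V hV)).asHomogeneousIdeal) :
    Nonempty (CohB1.tensorMod (L.restrict U.ι) (L'.restrict U.ι) ≅ Coh.structureModule (U : Scheme.{u})) := by
  obtain ⟨ν, hν, hν'⟩ := K40.RelMul.exists_mul hP (add_neg_cancel n) hL hL' (isRelTwist_zero hP)
  have : IsIso (Groth.Agent.Ega2.TensHom.tensDesc (restrictPairing U.ι ν) (restrictPairing_res U.ι ν hν)) := by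
    refine K31.TildeMul.isIso_tensDesc_right _ _ fun x => ?_
    obtain ⟨V, hV, d, f, W, ⟨l, hl⟩, hxW, hWV, hW⟩ := h x.1 x.2
    have hW' : U.ι ''ᵁ (U.ι ⁻¹ᵁ W) ≤ W := U.ι.image_preimage_le W
    obtain ⟨e, he, hg⟩ := K40.RelMul.exists_powFrac hL' V hV f (-l) (by rw [hl]; ring) (U.ι ''ᵁ (U.ι ⁻¹ᵁ W))
      (hW'.trans hWV) (fun y hy => hW y (hW' hy))
    refine ⟨U.ι ⁻¹ᵁ W, e, hxW, isGen_restrict U.ι hg, fun V' hV' => ?_⟩
    · have h2 : Function.Bijective (U.ι.appIso V').hom := ConcreteCategory.bijective_of_isIso _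
      refine h2.comp ?_
      refine K40.RelMul.bijective_mul hL (isRelTwist_zero hP) (add_neg_cancel n) ν hν' V hV f (-l)
        (by rw [hl]; ring) (U.ι ''ᵁ V') (((U.ι.image_mono hV').trans hW').trans hWV)
        (fun y hy => hW y (hW' (U.ι.image_mono hV' hy))) _ ?_
      change sec (emb p chart V hV) (lam' V hV) (U.ι ''ᵁ V') (res L' (U.ι.image_mono hV') e) = _
      rw [← res_sec, he]
      rfl
  exact ⟨asIso (Groth.Agent.Ega2.TensHom.tensDesc (restrictPairing U.ι ν) (restrictPairing_res U.ι ν hν))⟩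

variable (p chart) in
/-- A quasi-compact open of `P` is covered by opens where homogeneous elements of degree dividing a fixed `d > 0` do not
vanish. -/
theorem exists_period (U : P.Opens) (hU : IsCompact (U : Set P)) : ∃ d : ℕ, 0 < d ∧
    ∀ x ∈ U, ∃ (V : S.Opens) (hV : IsAffineOpen V) (e : ℕ) (f : 𝒮.deg V hV e) (W : P.Opens),
      e ∣ d ∧ x ∈ W ∧ W ≤ p ⁻¹ᵁ V ∧
        ∀ y ∈ emb p chart V hV ⁻¹ᵁ W, f.1 ∉ (y : ProjectiveSpectrum (𝒮.deg V hV)).asHomogeneousIdeal := by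
  classical
  choose V hV e f W he hxW hWV hW using fun x : P => K40.RelMul.exists_notMem (chart := chart) x
  obtain ⟨t, ht⟩ := hU.elim_finite_subcover (fun x : P => (W x : Set P)) (fun x => (W x).isOpen)
    (fun x _ => Set.mem_iUnion.2 ⟨x, hxW x⟩)
  refine ⟨∏ x ∈ t, e x, Finset.prod_pos fun x _ => he x, fun x hx => ?_⟩
  obtain ⟨z, hz, hxz⟩ := Set.mem_iUnion₂.1 (ht hx)
  exact ⟨V z, hV z, e z, f z, W z, Finset.dvd_prod_of_mem e hz, hxz, hWV z, hW z⟩

end K40.RelZero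

end
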