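import Groth.Agent.EGA2.K40.GlueHom
import Groth.Agent.EGA2.K42.DomMap

/-!
# Existence of `Proj(u)` on its open of definition
-/

set_option autoImplicit false
universe u
open CategoryTheory CategoryTheory.Limits AlgebraicGeometry TopologicalSpace Opposite
open scoped HomogeneousIdeal
noncomputable section

namespace K40.QGlue
open K42.DomQ K42.DomMap K40.GlueHom HomogeneousLocalization

section ring

variable {A σ : Type u} [CommRing A] [SetLike σ A] [AddSubgroupClass σ A] {𝒜 : ℕ → σ} [GradedRing 𝒜]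
variable {B τ : Type u} [CommRing B] [SetLike τ B] [AddSubgroupClass τ B] {ℬ : ℕ → τ} [GradedRing ℬ]
variable {C υ : Type u} [CommRing C] [SetLike υ C] [AddSubgroupClass υ C] {𝒞 : ℕ → υ} [GradedRing 𝒞]

/-- `awayMap` is natural. -/
theorem map_comp_awayMap (ψ : 𝒜 →+*ᵍ ℬ) {d e : ℕ} {f h x : A} (hf : f ∈ 𝒜 d) (hh : h ∈ 𝒜 e) (hx : x = f * h)
    (hx' : ψ x = ψ f * ψ h) :
    (Away.map ψ x).comp (awayMap 𝒜 hh hx) = (awayMap ℬ (ψ.map_mem hh) hx').comp (Away.map ψ f) := by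
  ext z
  obtain ⟨k, b, hb, rfl⟩ := Away.mk_surjective 𝒜 hf z
  rw [RingHom.comp_apply, RingHom.comp_apply, awayMap_mk, Away.map_mk, Away.map_mk, awayMap_mk]
  simp

/-- Shrinking the standard open. -/
theorem refine_mul (ψ : 𝒜 →+*ᵍ ℬ) {d e : ℕ} (hd : 0 < d) {f h : A} (hf : f ∈ 𝒜 d) (hh : h ∈ 𝒜 e)
    (hde : 0 < d + e) (hfh : f * h ∈ 𝒜 (d + e)) :
    ∃ k : Spec (.of (Away ℬ (ψ (f * h)))) ⟶ Spec (.of (Away ℬ (ψ f))),
      k ≫ Proj.awayι ℬ (ψ f) (ψ.map_mem hf) hd = Proj.awayι ℬ (ψ (f * h)) (ψ.map_mem hfh) hde ∧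
      k ≫ Spec.map (CommRingCat.ofHom (Away.map ψ f)) ≫ Proj.awayι 𝒜 f hf hd =
        Spec.map (CommRingCat.ofHom (Away.map ψ (f * h))) ≫ Proj.awayι 𝒜 (f * h) hfh hde := by
  refine ⟨Spec.map (CommRingCat.ofHom (awayMap ℬ (ψ.map_mem hh) (map_mul ψ f h))), ?_, ?_⟩
  · exact Proj.SpecMap_awayMap_awayι ℬ (ψ.map_mem hf) hd (ψ.map_mem hh) (map_mul ψ f h)
  · rw [← Spec.map_comp_assoc, ← CommRingCat.ofHom_comp, ← map_comp_awayMap ψ hf hh rfl (map_mul ψ f h),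
      CommRingCat.ofHom_comp, Spec.map_comp, Category.assoc,
      Proj.SpecMap_awayMap_awayι 𝒜 hf hd hh rfl]

/-- Shrinking the target ring. -/
theorem refine_target (ψ : 𝒜 →+*ᵍ ℬ) (ρ : ℬ →+*ᵍ 𝒞) (hρ : 𝒞₊ ≤ (ℬ₊).map ρ) (θ : 𝒜 →+*ᵍ 𝒞)
    (hθ : ρ.comp ψ = θ) {d : ℕ} (hd : 0 < d) {f : A} (hf : f ∈ 𝒜 d) :
    ∃ k : Spec (.of (Away 𝒞 (θ f))) ⟶ Spec (.of (Away ℬ (ψ f))),
      k ≫ Proj.awayι ℬ (ψ f) (ψ.map_mem hf) hd =
        Proj.awayι 𝒞 (θ f) (θ.map_mem hf) hd ≫ Proj.map ρ hρ ∧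
      k ≫ Spec.map (CommRingCat.ofHom (Away.map ψ f)) = Spec.map (CommRingCat.ofHom (Away.map θ f)) := by
  subst hθ
  refine ⟨Spec.map (CommRingCat.ofHom (Away.map ρ (ψ f))), ?_, ?_⟩
  · exact (Proj.awayι_comp_map ρ hρ hd (ψ f) (ψ.map_mem hf)).symm
  · rw [← Spec.map_comp]
    exact congrArg (fun z => Spec.map (CommRingCat.ofHom z)) (Away.map_comp ψ ρ f).symm

/-- Shrinking the source ring. -/
theorem refine_source (ρ : 𝒜 →+*ᵍ ℬ) (hρ : ℬ₊ ≤ (𝒜₊).map ρ) (ψ : ℬ →+*ᵍ 𝒞) (θ : 𝒜 →+*ᵍ 𝒞)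
    (hθ : ψ.comp ρ = θ) {d : ℕ} (hd : 0 < d) {f : A} (hf : f ∈ 𝒜 d) :
    ∃ k : Spec (.of (Away 𝒞 (ψ (ρ f)))) ⟶ Spec (.of (Away 𝒞 (θ f))),
      k ≫ Proj.awayι 𝒞 (θ f) (θ.map_mem hf) hd =
        Proj.awayι 𝒞 (ψ (ρ f)) (ψ.map_mem (ρ.map_mem hf)) hd ∧
      k ≫ Spec.map (CommRingCat.ofHom (Away.map θ f)) ≫ Proj.awayι 𝒜 f hf hd =
        Spec.map (CommRingCat.ofHom (Away.map ψ (ρ f))) ≫ Proj.awayι ℬ (ρ f) (ρ.map_mem hf) hd ≫
          Proj.map ρ hρ := by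
  subst hθ
  refine ⟨𝟙 _, Category.id_comp _, ?_⟩
  refine (Category.id_comp _).trans ?_
  rw [Proj.awayι_comp_map ρ hρ hd f hf, ← Spec.map_comp_assoc]
  exact congrArg (fun z => Spec.map (CommRingCat.ofHom z) ≫ Proj.awayι 𝒜 f hf hd) (Away.map_comp ρ ψ f)

end ring

section

variable {S S' : Scheme.{u}} {g : S' ⟶ S} {𝒮 : RelProj.QCGrAlg S} {𝒮' : RelProj.QCGrAlg S'} (u : RelProj.QGrHom g 𝒮 𝒮')
  {P : Scheme.{u}} (p : P ⟶ S)
  (chart : ∀ (U : S.Opens) (hU : IsAffineOpen U), (((p ⁻¹ᵁ U : P.Opens) : Scheme.{u}) ≅ Proj (𝒮.deg U hU)))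
  {P' : Scheme.{u}} (p' : P' ⟶ S')
  (chart' : ∀ (U' : S'.Opens) (hU' : IsAffineOpen U'), (((p' ⁻¹ᵁ U' : P'.Opens) : Scheme.{u}) ≅ Proj (𝒮'.deg U' hU')))

/-- The indices of the standard affine charts. -/
structure Idx {S S' : Scheme.{u}} {g : S' ⟶ S} {𝒮 : RelProj.QCGrAlg S} {𝒮' : RelProj.QCGrAlg S'}
    (u : RelProj.QGrHom g 𝒮 𝒮') where
  U : S.Opens
  hU : IsAffineOpen U
  U' : S'.Opens
  hU' : IsAffineOpen U'
  hle : U' ≤ g ⁻¹ᵁ U
  d : ℕ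
  hd : 0 < d
  f : 𝒮.presheaf.obj (op U)
  hf : f ∈ 𝒮.deg U hU d

variable {u}

/-- The source of the standard chart. -/
abbrev Z (a : Idx u) : Scheme.{u} :=
  Spec (CommRingCat.of (Away (𝒮'.deg a.U' a.hU') (u.gradedAt a.U a.hU a.U' a.hU' a.hle a.f)))

/-- The standard chart. -/
def ch (a : Idx u) : Z a ⟶ ((RelProj.domQ u p' chart' : P'.Opens) : Scheme.{u}) :=
  affOn u p' chart' a.U a.hU a.U' a.hU' a.hle a.hd a.f a.hf

instance (a : Idx u) : IsOpenImmersion (ch p' chart' a) :=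
  (inferInstance : IsOpenImmersion (affOn u p' chart' a.U a.hU a.U' a.hU' a.hle a.hd a.f a.hf))

/-- The morphism on the standard chart. -/
def phi (a : Idx u) : Z a ⟶ P :=
  Spec.map (CommRingCat.ofHom (Away.map (u.gradedAt a.U a.hU a.U' a.hU' a.hle) a.f)) ≫ aff p chart a.U a.hU a.hd a.f a.hf

theorem ch_ι (a : Idx u) : ch p' chart' a ≫ (RelProj.domQ u p' chart').ι =
    Proj.awayι (𝒮'.deg a.U' a.hU') (u.gradedAt a.U a.hU a.U' a.hU' a.hle a.f)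
      ((u.gradedAt a.U a.hU a.U' a.hU' a.hle).map_mem a.hf) a.hd ≫ RelProj.emb p' chart' a.U' a.hU' :=
  affOn_ι _ _ _ _ _ _ _ _

theorem mem_range_ch_iff (a : Idx u) (x : ((RelProj.domQ u p' chart' : P'.Opens) : Scheme.{u})) :
    x ∈ Set.range (ch p' chart' a).base ↔
      x.1 ∈ std p' chart' a.U' a.hU' (u.gradedAt a.U a.hU a.U' a.hU' a.hle a.f) := by
  change x ∈ (affOn u p' chart' a.U a.hU a.U' a.hU' a.hle a.hd a.f a.hf).opensRange ↔ _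
  rw [opensRange_affOn]
  rfl

variable {p chart p' chart'}

/-- The refinement relation. -/
abbrev Ref (p : P ⟶ S)
    (chart : ∀ (U : S.Opens) (hU : IsAffineOpen U), (((p ⁻¹ᵁ U : P.Opens) : Scheme.{u}) ≅ Proj (𝒮.deg U hU)))
    (p' : P' ⟶ S')
    (chart' : ∀ (U' : S'.Opens) (hU' : IsAffineOpen U'), (((p' ⁻¹ᵁ U' : P'.Opens) : Scheme.{u}) ≅ Proj (𝒮'.deg U' hU')))
    (c a : Idx u) : Prop :=
  Refines (Z (u := u)) (ch p' chart') (phi p chart) c a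

theorem ref_mul (a : Idx u) {e : ℕ} (h : 𝒮.presheaf.obj (op a.U)) (hh : h ∈ 𝒮.deg a.U a.hU e)
    (hfh : a.f * h ∈ 𝒮.deg a.U a.hU (a.d + e)) (c : Idx u)
    (hc : c = ⟨a.U, a.hU, a.U', a.hU', a.hle, a.d + e, Nat.add_pos_left a.hd e, a.f * h, hfh⟩) :
    Ref p chart p' chart' c a := by
  subst hc
  obtain ⟨k, hk1, hk2⟩ := refine_mul (u.gradedAt a.U a.hU a.U' a.hU' a.hle) a.hd a.hf hh
    (Nat.add_pos_left a.hd e) hfh
  refine ⟨k, ?_, ?_⟩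
  · rw [← cancel_mono (RelProj.domQ u p' chart').ι]
    refine (Category.assoc _ _ _).trans ?_
    refine Eq.trans ?_ (ch_ι p' chart' _).symm
    refine (congrArg (k ≫ ·) (ch_ι p' chart' a)).trans ?_
    exact (reassoc_of% hk1) _
  · exact (reassoc_of% hk2) _

theorem ref_target (hP' : RelProj.IsRelProj 𝒮' p' chart') (a : Idx u) (V' : S'.Opens) (hV' : IsAffineOpen V')
    (r' : Γ(S', a.U')) (e : V' = S'.basicOpen r') (hle' : V' ≤ g ⁻¹ᵁ a.U) (c : Idx u)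
    (hc : c = ⟨a.U, a.hU, V', hV', hle', a.d, a.hd, a.f, a.hf⟩) :
    Ref p chart p' chart' c a := by
  subst hc e
  have hcomp : ((𝒮'.res a.hU' (a.hU'.basicOpen r') (S'.basicOpen_le r')).comp
      (u.gradedAt a.U a.hU a.U' a.hU' a.hle)) = u.gradedAt a.U a.hU (S'.basicOpen r') hV' hle' := by
    ext x
    change (𝒮'.presheaf.map (homOfLE (S'.basicOpen_le r')).op).hom ((u.appLE a.U a.U' a.hle).hom x) =
      (u.appLE a.U _ hle').hom x
    rw [← CommRingCat.comp_apply, u.toQHom.appLE_map]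
  obtain ⟨k, hk1, hk2⟩ := refine_target (u.gradedAt a.U a.hU a.U' a.hU' a.hle)
    (𝒮'.res a.hU' (a.hU'.basicOpen r') (S'.basicOpen_le r')) (𝒮'.irrelevant_le_map a.U' a.hU' r')
    (u.gradedAt a.U a.hU (S'.basicOpen r') hV' hle') hcomp a.hd a.hf
  refine ⟨k, ?_, ?_⟩
  · rw [← cancel_mono (RelProj.domQ u p' chart').ι]
    refine (Category.assoc _ _ _).trans ?_
    refine Eq.trans ?_ (ch_ι p' chart' _).symm
    refine (congrArg (k ≫ ·) (ch_ι p' chart' a)).trans ?_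
    refine ((reassoc_of% hk1) _).trans ?_
    rw [RelProj.map_res_emb hP']
  · exact (reassoc_of% hk2) _

theorem ref_source (hP : RelProj.IsRelProj 𝒮 p chart) (a : Idx u) (V : S.Opens) (hV : IsAffineOpen V)
    (r : Γ(S, a.U)) (e : V = S.basicOpen r) (hle' : a.U' ≤ g ⁻¹ᵁ V) (f' : 𝒮.presheaf.obj (op V))
    (hf' : f' ∈ 𝒮.deg V hV a.d) (hle : V ≤ a.U) (hff : f' = 𝒮.res a.hU hV hle a.f) (c : Idx u)
    (hc : c = ⟨V, hV, a.U', a.hU', hle', a.d, a.hd, f', hf'⟩) :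
    Ref p chart p' chart' c a := by
  subst hc e hff
  have hcomp : ((u.gradedAt (S.basicOpen r) hV a.U' a.hU' hle').comp
      (𝒮.res a.hU (a.hU.basicOpen r) (S.basicOpen_le r))) = u.gradedAt a.U a.hU a.U' a.hU' a.hle := by
    ext x
    change (u.appLE _ a.U' hle').hom ((𝒮.presheaf.map (homOfLE (S.basicOpen_le r)).op).hom x) =
      (u.appLE a.U _ a.hle).hom x
    rw [← CommRingCat.comp_apply, u.toQHom.map_appLE]
  obtain ⟨k, hk1, hk2⟩ := refine_source (𝒮.res a.hU (a.hU.basicOpen r) (S.basicOpen_le r))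
    (𝒮.irrelevant_le_map a.U a.hU r)
    (u.gradedAt (S.basicOpen r) hV a.U' a.hU' hle') (u.gradedAt a.U a.hU a.U' a.hU' a.hle) hcomp a.hd a.hf
  refine ⟨k, ?_, ?_⟩
  · rw [← cancel_mono (RelProj.domQ u p' chart').ι]
    refine (Category.assoc _ _ _).trans ?_
    refine Eq.trans ?_ (ch_ι p' chart' _).symm
    refine (congrArg (k ≫ ·) (ch_ι p' chart' a)).trans ?_
    exact (reassoc_of% hk1) _
  · refine ((reassoc_of% hk2) _).trans ?_
    rw [RelProj.map_res_emb hP]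
    rfl

/-- Membership in a standard open, after shrinking the base to a basic open. -/
theorem mem_std_res_iff (hP' : RelProj.IsRelProj 𝒮' p' chart') (U' : S'.Opens) (hU' : IsAffineOpen U') (V' : S'.Opens)
    (hV' : IsAffineOpen V') (r' : Γ(S', U')) (e : V' = S'.basicOpen r') (hle : V' ≤ U')
    (f : 𝒮'.presheaf.obj (op U')) (x : P') (hx : x ∈ p' ⁻¹ᵁ V') :
    x ∈ std p' chart' V' hV' (𝒮'.res hU' hV' hle f) ↔ x ∈ std p' chart' U' hU' f := by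
  subst e
  obtain ⟨z, rfl⟩ := exists_emb_eq p' chart' _ hV' x hx
  rw [emb_mem_std_iff, ← emb_map_res_apply hP' U' hU' r' z, emb_mem_std_iff]
  rfl

theorem exists_ref (hP : RelProj.IsRelProj 𝒮 p chart) (hP' : RelProj.IsRelProj 𝒮' p' chart') (a b : Idx u)
    (x : ((RelProj.domQ u p' chart' : P'.Opens) : Scheme.{u})) (hxa : x ∈ Set.range (ch p' chart' a).base)
    (hxb : x ∈ Set.range (ch p' chart' b).base) :
    ∃ c : Idx u, x ∈ Set.range (ch p' chart' c).base ∧ Ref p chart p' chart' c a ∧ Ref p chart p' chart' c b := by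
  rw [mem_range_ch_iff] at hxa hxb
  have hxU : x.1 ∈ p' ⁻¹ᵁ a.U' := std_le _ _ _ hxa
  have hxW : x.1 ∈ p' ⁻¹ᵁ b.U' := std_le _ _ _ hxb
  have hs : g.base (p'.base x.1) ∈ a.U ⊓ b.U := ⟨a.hle hxU, b.hle hxW⟩
  obtain ⟨r, s, hrs, hsr⟩ := exists_basicOpen_le_affine_inter a.hU b.hU _ hs
  obtain ⟨r', hr', hxr'⟩ := a.hU'.exists_basicOpen_le (V := g ⁻¹ᵁ S.basicOpen r) ⟨p'.base x.1, hsr⟩ hxU
  obtain ⟨s', hs', hxs'⟩ := b.hU'.exists_basicOpen_le (V := g ⁻¹ᵁ S.basicOpen r) ⟨p'.base x.1, hsr⟩ hxW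
  obtain ⟨t, t', htt, hxt⟩ := exists_basicOpen_le_affine_inter (a.hU'.basicOpen r') (b.hU'.basicOpen s')
    (p'.base x.1) ⟨hxr', hxs'⟩
  have l1 : S'.basicOpen r' ≤ g ⁻¹ᵁ a.U := (S'.basicOpen_le r').trans a.hle
  have l2 : S'.basicOpen s' ≤ g ⁻¹ᵁ b.U := (S'.basicOpen_le s').trans b.hle
  have l3 : S'.basicOpen t ≤ g ⁻¹ᵁ S.basicOpen r := (S'.basicOpen_le t).trans hr'
  have l4 : S'.basicOpen t ≤ g ⁻¹ᵁ a.U := l3.trans (g.preimage_mono (S.basicOpen_le r))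
  have lrs : S.basicOpen r ≤ b.U := by rw [hrs]; exact S.basicOpen_le s
  have l5 : S'.basicOpen t ≤ g ⁻¹ᵁ b.U := l3.trans (g.preimage_mono lrs)
  have hVt : IsAffineOpen (S'.basicOpen t) := (a.hU'.basicOpen r').basicOpen t
  have hVr : IsAffineOpen (S.basicOpen r) := a.hU.basicOpen r
  -- the two chains
  let a1 : Idx u := ⟨a.U, a.hU, S'.basicOpen r', a.hU'.basicOpen r', l1, a.d, a.hd, a.f, a.hf⟩
  let a2 : Idx u := ⟨a.U, a.hU, S'.basicOpen t, hVt, l4, a.d, a.hd, a.f, a.hf⟩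
  let a3 : Idx u := ⟨S.basicOpen r, hVr, S'.basicOpen t, hVt, l3, a.d, a.hd, 𝒮.res a.hU hVr (S.basicOpen_le r) a.f,
    𝒮.map_mem _ _ _ a.hf⟩
  let b1 : Idx u := ⟨b.U, b.hU, S'.basicOpen s', b.hU'.basicOpen s', l2, b.d, b.hd, b.f, b.hf⟩
  let b2 : Idx u := ⟨b.U, b.hU, S'.basicOpen t, hVt, l5, b.d, b.hd, b.f, b.hf⟩
  let b3 : Idx u := ⟨S.basicOpen r, hVr, S'.basicOpen t, hVt, l3, b.d, b.hd, 𝒮.res b.hU hVr lrs b.f,
    𝒮.map_mem _ _ _ b.hf⟩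
  have ha1 : Ref p chart p' chart' a1 a := ref_target hP' a _ _ r' rfl l1 a1 rfl
  have ha2 : Ref p chart p' chart' a2 a1 := ref_target hP' a1 _ _ t rfl l4 a2 rfl
  have ha3 : Ref p chart p' chart' a3 a2 := ref_source hP a2 _ _ r rfl l3 _ _ (S.basicOpen_le r) rfl a3 rfl
  have hb1 : Ref p chart p' chart' b1 b := ref_target hP' b _ _ s' rfl l2 b1 rfl
  have hb2 : Ref p chart p' chart' b2 b1 := ref_target hP' b1 _ _ t' htt l5 b2 rfl
  have hb3 : Ref p chart p' chart' b3 b2 := ref_source hP b2 _ _ s hrs l3 _ _ lrs rfl b3 rfl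
  have ha : Ref p chart p' chart' a3 a := ha3.trans (ha2.trans ha1)
  have hb : Ref p chart p' chart' b3 b := hb3.trans (hb2.trans hb1)
  let c : Idx u := ⟨S.basicOpen r, hVr, S'.basicOpen t, hVt, l3, a.d + b.d, Nat.add_pos_left a.hd b.d, a3.f * b3.f,
    SetLike.mul_mem_graded a3.hf b3.hf⟩
  let c' : Idx u := ⟨S.basicOpen r, hVr, S'.basicOpen t, hVt, l3, b.d + a.d, Nat.add_pos_left b.hd a.d, b3.f * a3.f,
    SetLike.mul_mem_graded b3.hf a3.hf⟩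
  have hca : Ref p chart p' chart' c a3 := ref_mul a3 b3.f b3.hf _ c rfl
  have hcb : Ref p chart p' chart' c' b3 := ref_mul b3 a3.f a3.hf _ c' rfl
  have hcc : c = c' := by
    have h1 : a.d + b.d = b.d + a.d := add_comm _ _
    have h2 : a3.f * b3.f = b3.f * a3.f := mul_comm _ _
    simp only [c, c', Idx.mk.injEq, heq_eq_eq, true_and]
    exact ⟨h1, h2⟩
  refine ⟨c, ?_, hca.trans ha, (hcc ▸ hcb : Ref p chart p' chart' c b3).trans hb⟩
  -- the point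
  rw [mem_range_ch_iff]
  have hA : x.1 ∈ std p' chart' (S'.basicOpen t) hVt (u.gradedAt _ hVr _ hVt l3 a3.f) := by
    have h1 := (mem_std_res_iff hP' a.U' a.hU' _ (a.hU'.basicOpen r') r' rfl (S'.basicOpen_le r') _ x.1 hxr').mpr hxa
    have h2 := (mem_std_res_iff hP' _ (a.hU'.basicOpen r') _ hVt t rfl (S'.basicOpen_le t) _ x.1 hxt).mpr h1
    convert! h2 using 2
    change (u.appLE _ _ l3).hom ((𝒮.presheaf.map (homOfLE (S.basicOpen_le r)).op).hom a.f) =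
      (𝒮'.presheaf.map (homOfLE (S'.basicOpen_le t)).op).hom
        ((𝒮'.presheaf.map (homOfLE (S'.basicOpen_le r')).op).hom ((u.appLE a.U a.U' a.hle).hom a.f))
    simp only [← CommRingCat.comp_apply]
    rw [u.toQHom.map_appLE, u.toQHom.appLE_map, u.toQHom.appLE_map]
  have hB : x.1 ∈ std p' chart' (S'.basicOpen t) hVt (u.gradedAt _ hVr _ hVt l3 b3.f) := by
    have lt : S'.basicOpen t ≤ S'.basicOpen s' := by rw [htt]; exact S'.basicOpen_le t'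
    have h1 := (mem_std_res_iff hP' b.U' b.hU' _ (b.hU'.basicOpen s') s' rfl (S'.basicOpen_le s') _ x.1 hxs').mpr hxb
    have h2 := (mem_std_res_iff hP' _ (b.hU'.basicOpen s') _ hVt t' htt lt _ x.1 hxt).mpr h1
    convert! h2 using 2
    change (u.appLE _ _ l3).hom ((𝒮.presheaf.map (homOfLE lrs).op).hom b.f) =
      (𝒮'.presheaf.map (homOfLE lt).op).hom
        ((𝒮'.presheaf.map (homOfLE (S'.basicOpen_le s')).op).hom ((u.appLE b.U b.U' b.hle).hom b.f))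
    simp only [← CommRingCat.comp_apply]
    rw [u.toQHom.map_appLE, u.toQHom.appLE_map, u.toQHom.appLE_map]
  obtain ⟨z, hz⟩ := exists_emb_eq p' chart' _ hVt x.1 hxt
  rw [← hz, emb_mem_std_iff] at hA hB ⊢
  intro hmem
  have h1 : u.gradedAt _ hVr _ hVt l3 (a3.f * b3.f) = u.gradedAt _ hVr _ hVt l3 a3.f * u.gradedAt _ hVr _ hVt l3 b3.f :=
    map_mul _ _ _
  have hmem' : u.gradedAt _ hVr _ hVt l3 a3.f * u.gradedAt _ hVr _ hVt l3 b3.f ∈ z.asHomogeneousIdeal := h1 ▸ hmem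
  exact (z.isPrime.mem_or_mem hmem').elim hA hB

/-- **Existence of `Proj(u) : G(u) ⟶ P`**. -/
theorem exists_isProjQMapOn (hP : RelProj.IsRelProj 𝒮 p chart) (hP' : RelProj.IsRelProj 𝒮' p' chart') :
    ∃ v : ((RelProj.domQ u p' chart' : P'.Opens) : Scheme.{u}) ⟶ P,
      RelProj.IsProjQMapOn u p chart p' chart' (RelProj.domQ u p' chart') v := by
  obtain ⟨v, hv⟩ := exists_glue (Z (u := u)) (ch p' chart') (phi p chart) (fun x => by
    obtain ⟨U, hU, U', hU', hle, hxU⟩ := exists_affinePair g (p'.base x.1)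
    obtain ⟨d, hd, f, hf, hx⟩ := exists_mem_std_of_mem_domQ u hP' U hU U' hU' hle x.1 x.2 hxU
    exact ⟨⟨U, hU, U', hU', hle, d, hd, f, hf⟩, (mem_range_ch_iff p' chart' _ x).mpr hx⟩)
    (fun a b x hxa hxb => exists_ref hP hP' a b x hxa hxb)
  exact ⟨v, fun U hU U' hU' hle d hd f hf _ => hv ⟨U, hU, U', hU', hle, d, hd, f, hf⟩⟩

end

end K40.QGlue
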