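import Groth.Agent.EGA2.K40.AwayBC
import Groth.Agent.EGA2.K40.QGlue

/-!
# Base change of relative homogeneous spectra
-/

set_option autoImplicit false
universe u
open CategoryTheory CategoryTheory.Limits AlgebraicGeometry TopologicalSpace Opposite
open scoped HomogeneousIdeal
noncomputable section

namespace K40.RelBC
open K42.DomQ K42.DomMap K40.GlueHom

section chart

variable {S : Scheme.{u}} {𝒮 : RelProj.QCGrAlg S} {P : Scheme.{u}} {p : P ⟶ S}
  {chart : ∀ (U : S.Opens) (hU : IsAffineOpen U), (((p ⁻¹ᵁ U : P.Opens) : Scheme.{u}) ≅ Proj (𝒮.deg U hU))}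

/-- The chart over an affine open is the base change of `P` to that open. -/
theorem isPullback_emb (hP : RelProj.IsRelProj 𝒮 p chart) (U : S.Opens) (hU : IsAffineOpen U) :
    IsPullback (RelProj.emb p chart U hU) (Proj.toSpecZero (𝒮.deg U hU) ≫ Spec.map (𝒮.strZero U hU)) p
      hU.fromSpec := by
  refine (IsOpenImmersion.isPullback _ _ _ _ ?_ ?_).flip
  · rw [emb_comp_p hP, Category.assoc]
  · rw [opensRange_emb, hU.opensRange_fromSpec]

end chart

variable {Y Y' P P' : Scheme.{u}} {ψ : Y' ⟶ Y} {𝒮 : RelProj.QCGrAlg Y} {𝒮' : RelProj.QCGrAlg Y'}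
  {p : P ⟶ Y} {chart : ∀ (U : Y.Opens) (hU : IsAffineOpen U), (((p ⁻¹ᵁ U : P.Opens) : Scheme.{u}) ≅ Proj (𝒮.deg U hU))}
  {p' : P' ⟶ Y'}
  {chart' : ∀ (U : Y'.Opens) (hU : IsAffineOpen U), (((p' ⁻¹ᵁ U : P'.Opens) : Scheme.{u}) ≅ Proj (𝒮'.deg U hU))}

/-- The irrelevant ideals in a base change situation. -/
theorem irrelevant_le_map {U : Y.Opens} {hU : IsAffineOpen U} {U' : Y'.Opens} {hU' : IsAffineOpen U'}
    {hle : U' ≤ ψ ⁻¹ᵁ U} (φ : 𝒮.deg U hU →+*ᵍ 𝒮'.deg U' hU')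
    (hpo : IsPushout (ψ.appLE U U' hle) (𝒮.str.app (op U)) (𝒮'.str.app (op U')) (CommRingCat.ofHom φ.toRingHom)) :
    (𝒮'.deg U' hU')₊ ≤ ((𝒮.deg U hU)₊).map φ :=
  AwayBC.irrelevant_le_map (ψ.appLE U U' hle).hom (𝒮.str.app (op U)).hom (𝒮'.str.app (op U')).hom φ hpo
    (𝒮'.str_mem U' hU')

/-- **Base change on the charts.** -/
theorem isPullback_map {U : Y.Opens} {hU : IsAffineOpen U} {U' : Y'.Opens} {hU' : IsAffineOpen U'}
    {hle : U' ≤ ψ ⁻¹ᵁ U} (φ : 𝒮.deg U hU →+*ᵍ 𝒮'.deg U' hU')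
    (hpo : IsPushout (ψ.appLE U U' hle) (𝒮.str.app (op U)) (𝒮'.str.app (op U')) (CommRingCat.ofHom φ.toRingHom))
    (hφ : (𝒮'.deg U' hU')₊ ≤ ((𝒮.deg U hU)₊).map φ) :
    IsPullback (Proj.map φ hφ) (Proj.toSpecZero (𝒮'.deg U' hU') ≫ Spec.map (𝒮'.strZero U' hU'))
      (Proj.toSpecZero (𝒮.deg U hU) ≫ Spec.map (𝒮.strZero U hU)) (Spec.map (ψ.appLE U U' hle)) :=
  AwayBC.isPullback_proj_map (ψ.appLE U U' hle).hom (𝒮.str.app (op U)).hom (𝒮'.str.app (op U')).hom
    (𝒮.str_mem U hU) (𝒮'.str_mem U' hU') φ hpo hφ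

/-- **Base change of relative homogeneous spectra**: a morphism `h : P' ⟶ P` which over (enough) affine pairs is the
morphism of `Proj`'s induced by graded homomorphisms exhibiting `𝒮'(U')` as the base change of `𝒮(U)` makes
`P'` the fibre product `P ×_Y Y'`. -/
theorem isPullback_of_charts (hP : RelProj.IsRelProj 𝒮 p chart) (hP' : RelProj.IsRelProj 𝒮' p' chart') (h : P' ⟶ P)
    (H : ∀ y : Y', ∃ (U : Y.Opens) (hU : IsAffineOpen U) (U' : Y'.Opens) (hU' : IsAffineOpen U') (hle : U' ≤ ψ ⁻¹ᵁ U)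
      (φ : 𝒮.deg U hU →+*ᵍ 𝒮'.deg U' hU') (hφ : (𝒮'.deg U' hU')₊ ≤ ((𝒮.deg U hU)₊).map φ),
      y ∈ U' ∧ IsPushout (ψ.appLE U U' hle) (𝒮.str.app (op U)) (𝒮'.str.app (op U')) (CommRingCat.ofHom φ.toRingHom) ∧
      RelProj.emb p' chart' U' hU' ≫ h = Proj.map φ hφ ≫ RelProj.emb p chart U hU) :
    IsPullback h p' p ψ := by
  choose U hU U' hU' hle φ hφ hy hpo hchart using H
  have hsq : ∀ y : Y', IsPullback (RelProj.emb p' chart' (U' y) (hU' y) ≫ h)
      (Proj.toSpecZero (𝒮'.deg (U' y) (hU' y)) ≫ Spec.map (𝒮'.strZero (U' y) (hU' y))) p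
      ((hU' y).fromSpec ≫ ψ) := by
    intro y
    have h1 := (isPullback_map (φ y) (hpo y) (hφ y)).paste_horiz (isPullback_emb hP (U y) (hU y))
    rw [← hchart y] at h1
    rwa [IsAffineOpen.SpecMap_appLE_fromSpec ψ (hU y) (hU' y) (hle y)] at h1
  have hw : p' ≫ ψ = h ≫ p := by
    apply hom_ext_local
    intro x
    refine ⟨_, RelProj.emb p' chart' (U' (p'.base x)) (hU' (p'.base x)), inferInstance, ?_, ?_⟩
    · exact exists_emb_eq p' chart' _ _ x (hy (p'.base x))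
    · rw [← Category.assoc, emb_comp_p hP']
      have := (hsq (p'.base x)).w
      rw [Category.assoc] at this
      rw [this, Category.assoc, Category.assoc, Category.assoc]
  let 𝒰 : Y'.OpenCover :=
    { I₀ := Y'
      X := fun y => Spec Γ(Y', U' y)
      f := fun y => (hU' y).fromSpec
      mem₀ := by
        rw [Scheme.presieve₀_mem_precoverage_iff]
        refine ⟨fun x => ⟨x, ?_⟩, fun x => (hU' x).isOpenImmersion_fromSpec⟩
        have : x ∈ ((hU' x).fromSpec).opensRange := by rw [(hU' x).opensRange_fromSpec]; exact hy x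
        exact this }
  refine (Groth.Agent.CalgA.TwoGlue.isPullback_of_cover hw 𝒰 (fun y => Proj (𝒮'.deg (U' y) (hU' y)))
    (fun y => RelProj.emb p' chart' (U' y) (hU' y))
    (fun y => Proj.toSpecZero (𝒮'.deg (U' y) (hU' y)) ≫ Spec.map (𝒮'.strZero (U' y) (hU' y)))
    (fun y => isPullback_emb hP' (U' y) (hU' y)) (fun y => (hsq y).flip)).flip

section qmap

variable {u : RelProj.QGrHom ψ 𝒮 𝒮'}

/-- `Proj(u)`, everywhere defined, restricted to the part `G(u) = P'`. -/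
theorem isProjQMapOn_of_isProjQMap {h : P' ⟶ P} (hh : RelProj.IsProjQMap u p chart p' chart' h) :
    RelProj.IsProjQMapOn u p chart p' chart' (RelProj.domQ u p' chart') ((RelProj.domQ u p' chart').ι ≫ h) := by
  intro U hU U' hU' hle d hd f hf hW
  rw [← hh.2 U hU U' hU' hle d hd f hf, IsOpenImmersion.lift_fac_assoc]

/-- Existence of `Proj(u)` when it is everywhere defined. -/
theorem exists_isProjQMap (hP : RelProj.IsRelProj 𝒮 p chart) (hP' : RelProj.IsRelProj 𝒮' p' chart')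
    (htop : RelProj.domQ u p' chart' = ⊤) : ∃ h : P' ⟶ P, RelProj.IsProjQMap u p chart p' chart' h := by
  obtain ⟨v, hv⟩ := QGlue.exists_isProjQMapOn (u := u) hP hP'
  have hiso : IsIso (RelProj.domQ u p' chart').ι := by
    rw [htop]; exact inferInstanceAs (IsIso P'.topIso.hom)
  refine ⟨inv (RelProj.domQ u p' chart').ι ≫ v, htop, fun U hU U' hU' hle d hd f hf => ?_⟩
  have h1 := affOn_comp hv U hU U' hU' hle hd f hf
  rw [← affOn_ι, Category.assoc, IsIso.hom_inv_id_assoc, h1]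
  rfl

/-- The chart equation of `Proj(u)` through `Proj.map`. -/
theorem emb_comp_of_isProjQMap {h : P' ⟶ P} (hh : RelProj.IsProjQMap u p chart p' chart' h)
    (U : Y.Opens) (hU : IsAffineOpen U) (U' : Y'.Opens) (hU' : IsAffineOpen U') (hle : U' ≤ ψ ⁻¹ᵁ U)
    (hφ : (𝒮'.deg U' hU')₊ ≤ ((𝒮.deg U hU)₊).map (u.gradedAt U hU U' hU' hle)) :
    RelProj.emb p' chart' U' hU' ≫ h = Proj.map (u.gradedAt U hU U' hU' hle) hφ ≫ RelProj.emb p chart U hU := by
  refine (Proj.mapAffineOpenCover _ hφ).openCover.hom_ext _ _ fun s => ?_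
  have h1 := hh.2 U hU U' hU' hle _ s.1.2 s.2.1 s.2.2
  have h2 := Proj.awayι_comp_map (u.gradedAt U hU U' hU' hle) hφ s.1.2 s.2.1 s.2.2
  refine Eq.trans ?_ (h1.trans ?_)
  · rfl
  · exact ((reassoc_of% h2) (RelProj.emb p chart U hU)).symm

/-- **S12141**, second part. -/
theorem isPullback_of_isProjQMap (hu : RelSpec.IsQBaseChange u.toQHom)
    (hP : RelProj.IsRelProj 𝒮 p chart) (hP' : RelProj.IsRelProj 𝒮' p' chart') {h : P' ⟶ P}
    (hh : RelProj.IsProjQMap u p chart p' chart' h) : IsPullback h p' p ψ := by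
  refine isPullback_of_charts hP hP' h fun y => ?_
  obtain ⟨U, hU, U', hU', hle, hy⟩ := exists_affinePair ψ y
  have hpo : IsPushout (ψ.appLE U U' hle) (𝒮.str.app (op U)) (𝒮'.str.app (op U'))
      (CommRingCat.ofHom (u.gradedAt U hU U' hU' hle).toRingHom) := hu U hU U' hU' hle
  have hφ := irrelevant_le_map (u.gradedAt U hU U' hU' hle) hpo
  exact ⟨U, hU, U', hU', hle, _, hφ, hy, hpo, emb_comp_of_isProjQMap hh U hU U' hU' hle hφ⟩

theorem domQ_eq_top_of_isQBaseChange (hu : RelSpec.IsQBaseChange u.toQHom)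
    (hP' : RelProj.IsRelProj 𝒮' p' chart') : RelProj.domQ u p' chart' = ⊤ := by
  refine domQ_eq_top u hP' fun y => ?_
  obtain ⟨U, hU, U', hU', hle, hy⟩ := exists_affinePair ψ y
  have hpo : IsPushout (ψ.appLE U U' hle) (𝒮.str.app (op U)) (𝒮'.str.app (op U'))
      (CommRingCat.ofHom (u.gradedAt U hU U' hU' hle).toRingHom) := hu U hU U' hU' hle
  exact ⟨U, hU, U', hU', hle, hy, domOpen_eq_top _ (irrelevant_le_map _ hpo)⟩

end qmap

end K40.RelBC
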