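import Groth.Agent.EGA2.K40.RelSec

/-!
# Gluing sections and morphisms along an open cover by charts

`F` a module on `P`, `V i` an open cover, `j i : Z i ⟶ P` with `j i ⁻¹ (V i) = ⊤` and `lam i : F ⟶ (j i)_* (T i)` bijective on
sections over the opens contained in `V i`.
* `exists_sec_of_cover`: locally compatible families of sections of the `T i` come from a section of `F`;
* `existsUnique_hom_of_cover`: for `g : P ⟶ P'`, compatible morphisms `F' ⟶ g_* (j i)_* (T i)` come from a unique morphism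
  `F' ⟶ g_* F`.
* `compat_twist`, `compat_tilde`: the compatibility of readings for `D = S.basicOpen r`.
* `val_locMap_comp`, `val_locModMap_comp`: composites of the comparison maps of localizations.
-/

set_option autoImplicit false
universe u v

open CategoryTheory CategoryTheory.Limits AlgebraicGeometry TopologicalSpace Opposite
open scoped HomogeneousIdeal

noncomputable section

namespace K40.RelGlue

open K34.OpenMap K40.RelSec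
open Groth.Agent.Fdesc.LocGen hiding sec res_sec

section abs

variable {P : Scheme.{u}} {ι : Type v} {V : ι → P.Opens} (hV : ∀ x : P, ∃ i, x ∈ V i) {Z : ι → Scheme.{u}}
  {j : ∀ i, Z i ⟶ P} {T : ∀ i, (Z i).Modules} {F : P.Modules}
  (lam : ∀ i, F ⟶ (Scheme.Modules.pushforward (j i)).obj (T i))
  (hbij : ∀ (i : ι) (W : P.Opens), W ≤ V i → Function.Bijective ((lam i).app W))

include hV hbij

theorem sec_ext_of_cover {W : P.Opens} {s s' : Γ(F, W)} (h : ∀ i, sec (j i) (lam i) W s = sec (j i) (lam i) W s') :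
    s = s' := by
  refine res_ext F (fun i => W ⊓ V i) (fun i => inf_le_left)
    (fun x hx => by
      obtain ⟨i, hi⟩ := hV x
      exact TopologicalSpace.Opens.mem_iSup.mpr ⟨i, hx, hi⟩) fun i => ?_
  refine (hbij i _ inf_le_right).1 ?_
  change sec (j i) (lam i) _ _ = sec (j i) (lam i) _ _
  rw [← res_sec, ← res_sec, h]

/-- Locally compatible readings come from a section. -/
theorem exists_sec_of_cover (hj : ∀ i, j i ⁻¹ᵁ (V i) = ⊤) (W : P.Opens) (t : ∀ i, Γ(T i, j i ⁻¹ᵁ W))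
    (ht : ∀ (i k : ι) (x : P), x ∈ W → x ∈ V i → x ∈ V k → ∃ N : P.Opens, x ∈ N ∧
      ∀ (W' : P.Opens) (hW' : W' ≤ W), W' ≤ N → W' ≤ V i → W' ≤ V k → ∀ s s' : Γ(F, W'),
        sec (j i) (lam i) W' s = res (T i) ((j i).preimage_mono hW') (t i) →
        sec (j k) (lam k) W' s' = res (T k) ((j k).preimage_mono hW') (t k) → s = s') :
    ∃ s : Γ(F, W), ∀ i, sec (j i) (lam i) W s = t i := by
  have hex : ∀ i, ∃ s : Γ(F, W ⊓ V i), sec (j i) (lam i) _ s = res (T i) ((j i).preimage_mono inf_le_left) (t i) :=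
    fun i => (hbij i (W ⊓ V i) inf_le_right).2 _
  choose σ hσ using hex
  have hcomp : ∀ i k, res F (inf_le_left : (W ⊓ V i) ⊓ (W ⊓ V k) ≤ _) (σ i) = res F inf_le_right (σ k) := by
    intro i k
    choose N hxN hN using fun x : ((W ⊓ V i) ⊓ (W ⊓ V k) : P.Opens) => ht i k x.1 x.2.1.1 x.2.1.2 x.2.2.2
    refine res_ext F (fun x => ((W ⊓ V i) ⊓ (W ⊓ V k)) ⊓ N x) (fun x => inf_le_left)
      (fun x hx' => TopologicalSpace.Opens.mem_iSup.mpr ⟨⟨x, hx'⟩, hx', hxN ⟨x, hx'⟩⟩) fun x => ?_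
    rw [res_res, res_res]
    refine hN x _ (inf_le_left.trans (inf_le_left.trans inf_le_left)) inf_le_right
      (inf_le_left.trans (inf_le_left.trans inf_le_right)) (inf_le_left.trans (inf_le_right.trans inf_le_right)) _ _ ?_ ?_
    · rw [← res_sec, hσ, res_res]
    · rw [← res_sec, hσ, res_res]
  obtain ⟨s, hs⟩ := res_glue F (fun i => W ⊓ V i) (fun i => inf_le_left)
    (fun x hx => by
      obtain ⟨i, hi⟩ := hV x
      exact TopologicalSpace.Opens.mem_iSup.mpr ⟨i, hx, hi⟩) σ hcomp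
  refine ⟨s, fun i => ?_⟩
  have h1 := hσ i
  rw [← hs i, ← res_sec] at h1
  have e : j i ⁻¹ᵁ (W ⊓ V i) = j i ⁻¹ᵁ W := by
    rw [Scheme.Hom.preimage_inf, hj, inf_top_eq]
  have h2 : ∀ (V V' : (Z i).Opens) (hV : V = V') (h : V ≤ V') (a b : Γ(T i, V')),
      res (T i) h a = res (T i) h b → a = b := by
    rintro V _ rfl h a b hab
    rwa [res_refl, res_refl] at hab
  exact h2 _ _ e _ _ _ h1

/-- The reading over `W` of a section of `F'` through `τ : F' ⟶ g_* j_* T`. -/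
def sec2 {P P' Z : Scheme.{u}} (j : Z ⟶ P) (g : P ⟶ P') {F' : P'.Modules} {T : Z.Modules}
    (τ : F' ⟶ (Scheme.Modules.pushforward g).obj ((Scheme.Modules.pushforward j).obj T)) (W : P'.Opens) :
    Γ(F', W) →+ Γ(T, j ⁻¹ᵁ (g ⁻¹ᵁ W)) := (τ.app W).hom

omit hV hbij in
theorem sec2_smul {P P' Z : Scheme.{u}} (j : Z ⟶ P) (g : P ⟶ P') {F' : P'.Modules} {T : Z.Modules}
    (τ : F' ⟶ (Scheme.Modules.pushforward g).obj ((Scheme.Modules.pushforward j).obj T)) (W : P'.Opens)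
    (a : Γ(P', W)) (e : Γ(F', W)) :
    sec2 j g τ W (a • e) = (j.app (g ⁻¹ᵁ W) (g.app W a : Γ(P, g ⁻¹ᵁ W)) : Γ(Z, j ⁻¹ᵁ (g ⁻¹ᵁ W))) • sec2 j g τ W e :=
  Scheme.Modules.Hom.app_smul τ a e

omit hV hbij in
theorem res_sec2 {P P' Z : Scheme.{u}} (j : Z ⟶ P) (g : P ⟶ P') {F' : P'.Modules} {T : Z.Modules}
    (τ : F' ⟶ (Scheme.Modules.pushforward g).obj ((Scheme.Modules.pushforward j).obj T)) {W W' : P'.Opens}
    (h : W' ≤ W) (e : Γ(F', W)) :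
    res T (j.preimage_mono (g.preimage_mono h)) (sec2 j g τ W e) = sec2 j g τ W' (res F' h e) :=
  (app_res τ h e).symm

/-- Compatible morphisms to the direct images of the charts come from a unique morphism. -/
theorem existsUnique_hom_of_cover (hj : ∀ i, j i ⁻¹ᵁ (V i) = ⊤) {P' : Scheme.{u}} (g : P ⟶ P') {F' : P'.Modules}
    (τ : ∀ i, F' ⟶ (Scheme.Modules.pushforward g).obj ((Scheme.Modules.pushforward (j i)).obj (T i)))
    (hτ : ∀ (i k : ι) (W : P'.Opens) (a : Γ(F', W)) (x : P), x ∈ g ⁻¹ᵁ W → x ∈ V i → x ∈ V k →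
      ∃ N : P.Opens, x ∈ N ∧
      ∀ (W' : P.Opens) (hW' : W' ≤ g ⁻¹ᵁ W), W' ≤ N → W' ≤ V i → W' ≤ V k → ∀ s s' : Γ(F, W'),
        sec (j i) (lam i) W' s = res (T i) ((j i).preimage_mono hW') (sec2 (j i) g (τ i) W a) →
        sec (j k) (lam k) W' s' = res (T k) ((j k).preimage_mono hW') (sec2 (j k) g (τ k) W a) → s = s') :
    ∃! θ : F' ⟶ (Scheme.Modules.pushforward g).obj F, ∀ (i : ι) (W : P'.Opens) (a : Γ(F', W)),
      sec (j i) (lam i) (g ⁻¹ᵁ W) (θ.app W a) = sec2 (j i) g (τ i) W a := by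
  have hex : ∀ (W : P'.Opens) (a : Γ(F', W)), ∃ s : Γ(F, g ⁻¹ᵁ W), ∀ i,
      sec (j i) (lam i) (g ⁻¹ᵁ W) s = sec2 (j i) g (τ i) W a := by
    intro W a
    exact exists_sec_of_cover hV lam hbij hj (g ⁻¹ᵁ W) (fun i => sec2 (j i) g (τ i) W a)
      fun i k x hx hxi hxk => hτ i k W a x hx hxi hxk
  choose f hf using hex
  let φ : ∀ W : P'.Opens, Γ(F', W) →ₗ[Γ(P', W)] Γ((Scheme.Modules.pushforward g).obj F, W) := fun W =>
    { toFun := f W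
      map_add' := fun a b => sec_ext_of_cover hV lam hbij fun i => by
        refine (hf _ _ i).trans ?_
        refine Eq.trans ?_ (map_add (sec (j i) (lam i) (g ⁻¹ᵁ W)) (f W a) (f W b)).symm
        rw [hf, hf, map_add]
      map_smul' := fun c a => sec_ext_of_cover hV lam hbij fun i => by
        refine (hf _ _ i).trans ?_
        refine Eq.trans ?_ (sec_smul (j i) (lam i) (g ⁻¹ᵁ W) (g.app W c) (f W a)).symm
        rw [hf, sec2_smul] }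
  let θ : F' ⟶ (Scheme.Modules.pushforward g).obj F := Groth.Agent.Ega2.TensHom.homMk φ (fun W W' i m => by
    refine sec_ext_of_cover hV lam hbij fun k => ?_
    change sec (j k) (lam k) (g ⁻¹ᵁ W) (res F (g.preimage_mono i.le) (f W' m)) =
      sec (j k) (lam k) (g ⁻¹ᵁ W) (f W (res F' i.le m))
    rw [hf, ← res_sec, hf, ← res_sec2 (j k) g (τ k) i.le])
  refine ⟨θ, fun i W a => hf W a i, fun θ' hθ' => ?_⟩
  ext W s
  refine sec_ext_of_cover hV lam hbij fun i => ?_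
  exact (hθ' i W s).trans (hf W s i).symm

end abs

section locmap

variable {A σ : Type u} [CommRing A] [SetLike σ A] [AddSubgroupClass σ A] {𝒜 : ℕ → σ} [GradedRing 𝒜]
  {B σ' : Type u} [CommRing B] [SetLike σ' B] [AddSubgroupClass σ' B] {ℬ : ℕ → σ'} [GradedRing ℬ]
  {C σ'' : Type u} [CommRing C] [SetLike σ'' C] [AddSubgroupClass σ'' C] {𝒞 : ℕ → σ''} [GradedRing 𝒞]

theorem irr_comp (ψ₁ : 𝒜 →+*ᵍ ℬ) (ψ₂ : ℬ →+*ᵍ 𝒞) (h₁ : ℬ₊ ≤ (𝒜₊).map ψ₁) (h₂ : 𝒞₊ ≤ (ℬ₊).map ψ₂)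
    (ψ : 𝒜 →+*ᵍ 𝒞) (h : ∀ a, ψ a = ψ₂ (ψ₁ a)) : 𝒞₊ ≤ (𝒜₊).map ψ := by
  obtain rfl : ψ = ψ₂.comp ψ₁ := by ext a; exact h a
  exact HomogeneousIdeal.irrelevant_le_map_comp h₁ h₂

/-- Composites of the comparison maps of localizations. -/
theorem locMap_comp {ψ : 𝒜 →+*ᵍ 𝒞} {ψ₁ : 𝒜 →+*ᵍ ℬ} {ψ₂ : ℬ →+*ᵍ 𝒞} (h : ψ = ψ₂.comp ψ₁)
    (hψ : 𝒞₊ ≤ (𝒜₊).map ψ) (hψ₁ : ℬ₊ ≤ (𝒜₊).map ψ₁) (hψ₂ : 𝒞₊ ≤ (ℬ₊).map ψ₂) (y : ProjectiveSpectrum 𝒞)
    (P : ∀ _ : ProjectiveSpectrum 𝒜, Prop) (f : ∀ x : ProjectiveSpectrum 𝒜, P x → GrTwist.Loc 𝒜 x)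
    (hy : P (ProjectiveSpectrum.comap ψ hψ y))
    (hy' : P (ProjectiveSpectrum.comap ψ₁ hψ₁ (ProjectiveSpectrum.comap ψ₂ hψ₂ y))) :
    GrTwist.locMap ψ₂ hψ₂ y (GrTwist.locMap ψ₁ hψ₁ _ (f _ hy')) =
      GrTwist.locMap ψ hψ y (f _ hy) := by
  subst h
  change GrTwist.locMap ψ₂ hψ₂ y (GrTwist.locMap ψ₁ hψ₁ _ (f (ProjectiveSpectrum.comap (ψ₂.comp ψ₁) hψ y) hy)) = _
  generalize f (ProjectiveSpectrum.comap (ψ₂.comp ψ₁) hψ y) hy = q
  induction q using Localization.induction_on with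
  | H q =>
    obtain ⟨a, s⟩ := q
    have e1 := GrTwist.locMap_mk ψ₁ hψ₁ (ProjectiveSpectrum.comap ψ₂ hψ₂ y) a s
    have e2 := GrTwist.locMap_mk ψ₂ hψ₂ y (ψ₁ a) ⟨ψ₁ (s : A), s.2⟩
    have e3 := GrTwist.locMap_mk (ψ₂.comp ψ₁) hψ y a s
    exact (congrArg (GrTwist.locMap ψ₂ hψ₂ y) e1).trans (e2.trans e3.symm)

variable {M τ : Type u} [AddCommGroup M] [Module A M] [SetLike τ M] [AddSubgroupClass τ M] {ℳ : ℕ → τ}
  [SetLike.GradedSMul 𝒜 ℳ]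
  {N τ' : Type u} [AddCommGroup N] [Module B N] [SetLike τ' N] [AddSubgroupClass τ' N] {𝒩 : ℕ → τ'}
  [SetLike.GradedSMul ℬ 𝒩]
  {Q τ'' : Type u} [AddCommGroup Q] [Module C Q] [SetLike τ'' Q] [AddSubgroupClass τ'' Q] {𝒬 : ℕ → τ''}
  [SetLike.GradedSMul 𝒞 𝒬]

omit [AddSubgroupClass τ M] [SetLike.GradedSMul 𝒜 ℳ] [AddSubgroupClass τ' N] [SetLike.GradedSMul ℬ 𝒩]
  [AddSubgroupClass τ'' Q] [SetLike.GradedSMul 𝒞 𝒬] in
theorem locModMap_comp {ψ : 𝒜 →+*ᵍ 𝒞} {ψ₁ : 𝒜 →+*ᵍ ℬ} {ψ₂ : ℬ →+*ᵍ 𝒞} (h : ψ = ψ₂.comp ψ₁)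
    (hψ : 𝒞₊ ≤ (𝒜₊).map ψ) (hψ₁ : ℬ₊ ≤ (𝒜₊).map ψ₁) (hψ₂ : 𝒞₊ ≤ (ℬ₊).map ψ₂)
    (v : M →ₛₗ[ψ.toRingHom] Q) (v₁ : M →ₛₗ[ψ₁.toRingHom] N) (v₂ : N →ₛₗ[ψ₂.toRingHom] Q)
    (hv : ∀ m, v m = v₂ (v₁ m)) (y : ProjectiveSpectrum 𝒞)
    (P : ∀ _ : ProjectiveSpectrum 𝒜, Prop) (f : ∀ x : ProjectiveSpectrum 𝒜, P x → GrMod.LocMod 𝒜 (M := M) x)
    (hy : P (ProjectiveSpectrum.comap ψ hψ y))
    (hy' : P (ProjectiveSpectrum.comap ψ₁ hψ₁ (ProjectiveSpectrum.comap ψ₂ hψ₂ y))) :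
    GrMod.locModMap ψ₂ hψ₂ v₂ y (GrMod.locModMap ψ₁ hψ₁ v₁ _ (f _ hy')) =
      GrMod.locModMap ψ hψ v y (f _ hy) := by
  subst h
  change GrMod.locModMap ψ₂ hψ₂ v₂ y (GrMod.locModMap ψ₁ hψ₁ v₁ _ (f (ProjectiveSpectrum.comap (ψ₂.comp ψ₁) hψ y) hy)) = _
  generalize f (ProjectiveSpectrum.comap (ψ₂.comp ψ₁) hψ y) hy = q
  induction q using LocalizedModule.induction_on with
  | h m s =>
    change LocalizedModule.mk (v₂ (v₁ m)) _ = LocalizedModule.mk (v m) _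
    rw [hv]
    rfl

end locmap

section rel

open RelProj

variable {S P : Scheme.{u}} {𝒮 : RelProj.QCGrAlg S} {p : P ⟶ S}
  {chart : ∀ (U : S.Opens) (hU : IsAffineOpen U), (((p ⁻¹ᵁ U : P.Opens) : Scheme.{u}) ≅ Proj (𝒮.deg U hU))}

theorem compat_twist {n : ℤ} {L : P.Modules}
    {lam : ∀ (U : S.Opens) (hU : IsAffineOpen U),
      L ⟶ (Scheme.Modules.pushforward (emb p chart U hU)).obj (GrTwist.twist (𝒮.deg U hU) n)}
    (hL : IsRelTwist 𝒮 p chart n L lam) (U : S.Opens) (hU : IsAffineOpen U) (r : Γ(S, U)) (D : S.Opens)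
    (hD : IsAffineOpen D) (hr : S.basicOpen r = D) (hle : D ≤ U)
    (hirr : (𝒮.deg D hD)₊ ≤ ((𝒮.deg U hU)₊).map (𝒮.res hU hD hle)) (W : P.Opens) (s : Γ(L, W))
    (y : ProjectiveSpectrum (𝒮.deg D hD)) (hy : (emb p chart D hD).base y ∈ W)
    (hy' : (emb p chart U hU).base (ProjectiveSpectrum.comap (𝒮.res hU hD hle) hirr y) ∈ W) :
    GrTwist.val (V := emb p chart D hD ⁻¹ᵁ W) (sec (emb p chart D hD) (lam D hD) W s) ⟨y, hy⟩ =
      GrTwist.locMap (𝒮.res hU hD hle) hirr y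
        (GrTwist.val (V := emb p chart U hU ⁻¹ᵁ W) (sec (emb p chart U hU) (lam U hU) W s) ⟨_, hy'⟩) := by
  subst hr
  exact hL.compat U hU r W s y hy hy'

theorem compat_tilde {ℳ : GrModule 𝒮} {n : ℤ} {F : P.Modules}
    {lam : ∀ (U : S.Opens) (hU : IsAffineOpen U),
      F ⟶ (Scheme.Modules.pushforward (emb p chart U hU)).obj (GrMod.tilde (𝒮.deg U hU) (ℳ.deg U hU) n)}
    (hF : IsRelTilde 𝒮 p chart ℳ n F lam) (U : S.Opens) (hU : IsAffineOpen U) (r : Γ(S, U)) (D : S.Opens)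
    (hD : IsAffineOpen D) (hr : S.basicOpen r = D) (hle : D ≤ U)
    (hirr : (𝒮.deg D hD)₊ ≤ ((𝒮.deg U hU)₊).map (𝒮.res hU hD hle)) (W : P.Opens) (s : Γ(F, W))
    (y : ProjectiveSpectrum (𝒮.deg D hD)) (hy : (emb p chart D hD).base y ∈ W)
    (hy' : (emb p chart U hU).base (ProjectiveSpectrum.comap (𝒮.res hU hD hle) hirr y) ∈ W) :
    GrMod.val (V := emb p chart D hD ⁻¹ᵁ W) (sec (emb p chart D hD) (lam D hD) W s) ⟨y, hy⟩ =
      GrMod.locModMap (𝒮.res hU hD hle) hirr (ℳ.res hU hD hle) y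
        (GrMod.val (V := emb p chart U hU ⁻¹ᵁ W) (sec (emb p chart U hU) (lam U hU) W s) ⟨_, hy'⟩) := by
  subst hr
  exact hF.compat U hU r W s y hy hy'

theorem irr_le (U : S.Opens) (hU : IsAffineOpen U) (r : Γ(S, U)) (D : S.Opens)
    (hD : IsAffineOpen D) (hr : S.basicOpen r = D) (hle : D ≤ U) :
    (𝒮.deg D hD)₊ ≤ ((𝒮.deg U hU)₊).map (𝒮.res hU hD hle) := by
  subst hr
  exact 𝒮.irrelevant_le_map U hU r

theorem comap_mem (hP : IsRelProj 𝒮 p chart) (U : S.Opens) (hU : IsAffineOpen U) (r : Γ(S, U)) (D : S.Opens)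
    (hD : IsAffineOpen D) (hr : S.basicOpen r = D) (hle : D ≤ U)
    (hirr : (𝒮.deg D hD)₊ ≤ ((𝒮.deg U hU)₊).map (𝒮.res hU hD hle)) (W : P.Opens)
    (y : ProjectiveSpectrum (𝒮.deg D hD)) (hy : (emb p chart D hD).base y ∈ W) :
    (emb p chart U hU).base (ProjectiveSpectrum.comap (𝒮.res hU hD hle) hirr y) ∈ W := by
  subst hr
  exact emb_comap_mem hP U hU r W y hy

end rel

end K40.RelGlue

end
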