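import Groth.Agent.EGA2.K40.GrTwBC
import Groth.Agent.EGA2.K40.RelGlue
import Groth.Agent.EGA2.K37.RelProjBC

/-!
# The twisting sheaves of a relative Proj under base change
-/

set_option autoImplicit false
universe u v

open CategoryTheory CategoryTheory.Limits AlgebraicGeometry TopologicalSpace Opposite
open scoped HomogeneousIdeal

noncomputable section

namespace K40.RelTwBC

open K34.OpenMap K40.RelSec K40.RelGlue RelProj K37.RelProjBC Groth.Agent.CohqA.PullbackUniv K40.UnivLoc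
open Groth.Agent.Fdesc.LocGen hiding sec res_sec

variable {Y Y' P P' : Scheme.{u}} {ψ : Y' ⟶ Y} {𝒮 : RelProj.QCGrAlg Y} {𝒮' : RelProj.QCGrAlg Y'}
    {φ : ∀ (U : Y.Opens) (hU : IsAffineOpen U) (U' : Y'.Opens) (hU' : IsAffineOpen U') (_ : U' ≤ ψ ⁻¹ᵁ U),
      𝒮.deg U hU →+*ᵍ 𝒮'.deg U' hU'}
    {hirr : ∀ (U : Y.Opens) (hU : IsAffineOpen U) (U' : Y'.Opens) (hU' : IsAffineOpen U') (hle : U' ≤ ψ ⁻¹ᵁ U),
      (𝒮'.deg U' hU')₊ ≤ ((𝒮.deg U hU)₊).map (φ U hU U' hU' hle)}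
    {p : P ⟶ Y}
    {chart : ∀ (U : Y.Opens) (hU : IsAffineOpen U), (((p ⁻¹ᵁ U : P.Opens) : Scheme.{u}) ≅ Proj (𝒮.deg U hU))}
    {p' : P' ⟶ Y'}
    {chart' : ∀ (U' : Y'.Opens) (hU' : IsAffineOpen U'), (((p' ⁻¹ᵁ U' : P'.Opens) : Scheme.{u}) ≅ Proj (𝒮'.deg U' hU'))}
    {g : P' ⟶ P}
    (hg : ∀ (U : Y.Opens) (hU : IsAffineOpen U) (U' : Y'.Opens) (hU' : IsAffineOpen U') (hle : U' ≤ ψ ⁻¹ᵁ U),
      emb p' chart' U' hU' ≫ g = Proj.map (φ U hU U' hU' hle) (hirr U hU U' hU' hle) ≫ emb p chart U hU)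

/-- The module `T` on `Proj 𝒮'(U')`, pushed to `P` in two ways. -/
def swap (U : Y.Opens) (hU : IsAffineOpen U) (U' : Y'.Opens) (hU' : IsAffineOpen U') (hle : U' ≤ ψ ⁻¹ᵁ U)
    (T : (Proj (𝒮'.deg U' hU')).Modules) :
    (Scheme.Modules.pushforward (emb p chart U hU)).obj
      ((Scheme.Modules.pushforward (Proj.map (φ U hU U' hU' hle) (hirr U hU U' hU' hle))).obj T) ⟶
    (Scheme.Modules.pushforward g).obj ((Scheme.Modules.pushforward (emb p' chart' U' hU')).obj T) :=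
  (Scheme.Modules.pushforwardComp _ _).hom.app T ≫
    (Scheme.Modules.pushforwardCongr (hg U hU U' hU' hle).symm).hom.app T ≫
      (Scheme.Modules.pushforwardComp _ _).inv.app T

variable {n : ℤ} {L : P.Modules}
    (lam : ∀ (U : Y.Opens) (hU : IsAffineOpen U),
      L ⟶ (Scheme.Modules.pushforward (RelProj.emb p chart U hU)).obj (GrTwist.twist (𝒮.deg U hU) n))
    {L' : P'.Modules}
    (lam' : ∀ (U' : Y'.Opens) (hU' : IsAffineOpen U'),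
      L' ⟶ (Scheme.Modules.pushforward (RelProj.emb p' chart' U' hU')).obj (GrTwist.twist (𝒮'.deg U' hU') n))

/-- The chart of the comparison. -/
def tau (U : Y.Opens) (hU : IsAffineOpen U) (U' : Y'.Opens) (hU' : IsAffineOpen U') (hle : U' ≤ ψ ⁻¹ᵁ U) :
    L ⟶ (Scheme.Modules.pushforward g).obj ((Scheme.Modules.pushforward (emb p' chart' U' hU')).obj
      (GrTwist.twist (𝒮'.deg U' hU') n)) :=
  lam U hU ≫ (Scheme.Modules.pushforward (emb p chart U hU)).map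
    (GrTwist.comap (φ U hU U' hU' hle) (hirr U hU U' hU' hle) n) ≫ swap hg U hU U' hU' hle _

include hg in
theorem comap_mem_of_mem (U : Y.Opens) (hU : IsAffineOpen U) (U' : Y'.Opens) (hU' : IsAffineOpen U')
    (hle : U' ≤ ψ ⁻¹ᵁ U) (W : P.Opens) (y : ProjectiveSpectrum (𝒮'.deg U' hU'))
    (hy : (emb p' chart' U' hU').base y ∈ g ⁻¹ᵁ W) :
    (emb p chart U hU).base (ProjectiveSpectrum.comap (φ U hU U' hU' hle) (hirr U hU U' hU' hle) y) ∈ W := by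
  have h1 : (emb p' chart' U' hU' ≫ g).base y =
      (Proj.map (φ U hU U' hU' hle) (hirr U hU U' hU' hle) ≫ emb p chart U hU).base y := by
    rw [hg U hU U' hU' hle]
  have h2 : (emb p' chart' U' hU' ≫ g).base y ∈ W := hy
  rw [h1] at h2
  exact h2

theorem val_tau (U : Y.Opens) (hU : IsAffineOpen U) (U' : Y'.Opens) (hU' : IsAffineOpen U')
    (hle : U' ≤ ψ ⁻¹ᵁ U) (W : P.Opens) (s : Γ(L, W))
    (y : ProjectiveSpectrum (𝒮'.deg U' hU')) (hy : (emb p' chart' U' hU').base y ∈ g ⁻¹ᵁ W)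
    (hy' : (emb p chart U hU).base (ProjectiveSpectrum.comap (φ U hU U' hU' hle) (hirr U hU U' hU' hle) y) ∈ W) :
    GrTwist.val (V := emb p' chart' U' hU' ⁻¹ᵁ (g ⁻¹ᵁ W))
        (sec2 (emb p' chart' U' hU') g (tau hg lam U hU U' hU' hle) W s) ⟨y, hy⟩ =
      GrTwist.locMap (φ U hU U' hU' hle) (hirr U hU U' hU' hle) y
        (GrTwist.val (V := emb p chart U hU ⁻¹ᵁ W) (sec (emb p chart U hU) (lam U hU) W s) ⟨_, hy'⟩) :=
  rfl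

variable {lam lam'}

/-- Shrinking `U'`. -/
theorem step_source (hcB : ∀ (U : Y.Opens) (hU : IsAffineOpen U) (U' : Y'.Opens) (hU' : IsAffineOpen U')
      (hle : U' ≤ ψ ⁻¹ᵁ U) (D' : Y'.Opens) (hD' : IsAffineOpen D') (h : D' ≤ U') (a : 𝒮.presheaf.obj (op U)),
      𝒮'.res hU' hD' h (φ U hU U' hU' hle a) = φ U hU D' hD' (h.trans hle) a)
    (hP' : IsRelProj 𝒮' p' chart') (hL' : IsRelTwist 𝒮' p' chart' n L' lam')
    (U : Y.Opens) (hU : IsAffineOpen U) (U' : Y'.Opens) (hU' : IsAffineOpen U')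
    (hle : U' ≤ ψ ⁻¹ᵁ U) (r : Γ(Y', U')) (D' : Y'.Opens) (hD' : IsAffineOpen D') (hr : Y'.basicOpen r = D')
    (h : D' ≤ U') (W : P.Opens) (a : Γ(L, W)) (W' : P'.Opens) (hW' : W' ≤ g ⁻¹ᵁ W) (s : Γ(L', W'))
    (hs : sec (emb p' chart' U' hU') (lam' U' hU') W' s =
      res _ ((emb p' chart' U' hU').preimage_mono hW')
        (sec2 (emb p' chart' U' hU') g (tau hg lam U hU U' hU' hle) W a)) :
    sec (emb p' chart' D' hD') (lam' D' hD') W' s =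
      res _ ((emb p' chart' D' hD').preimage_mono hW')
        (sec2 (emb p' chart' D' hD') g (tau hg lam U hU D' hD' (h.trans hle)) W a) := by
  have hirrB := K40.RelGlue.irr_le (𝒮 := 𝒮') U' hU' r D' hD' hr h
  refine Subtype.ext (funext fun y => Subtype.ext ?_)
  have hyB := comap_mem hP' U' hU' r D' hD' hr h hirrB W' y.1 y.2
  refine (compat_twist hL' U' hU' r D' hD' hr h hirrB W' s y.1 y.2 hyB).trans ?_
  rw [hs]
  have m₁ : (emb p chart U hU).base (ProjectiveSpectrum.comap (φ U hU U' hU' hle) (hirr U hU U' hU' hle)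
      (ProjectiveSpectrum.comap (𝒮'.res hU' hD' h) hirrB y.1)) ∈ W :=
    comap_mem_of_mem hg U hU U' hU' hle W _ (hW' hyB)
  have m₂ : (emb p chart U hU).base (ProjectiveSpectrum.comap (φ U hU D' hD' (h.trans hle))
      (hirr U hU D' hD' (h.trans hle)) y.1) ∈ W :=
    comap_mem_of_mem hg U hU D' hD' (h.trans hle) W _ (hW' y.2)
  exact locMap_comp (by ext a; exact (hcB U hU U' hU' hle D' hD' h a).symm)
    (hirr U hU D' hD' (h.trans hle)) (hirr U hU U' hU' hle) hirrB y.1 (fun x => (emb p chart U hU).base x ∈ W)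
    (fun x hx => GrTwist.val (V := emb p chart U hU ⁻¹ᵁ W) (sec (emb p chart U hU) (lam U hU) W a) ⟨x, hx⟩)
    m₂ m₁

/-- Shrinking `U`. -/
theorem step_target (hcA : ∀ (U : Y.Opens) (hU : IsAffineOpen U) (D : Y.Opens) (hD : IsAffineOpen D) (h : D ≤ U)
      (U' : Y'.Opens) (hU' : IsAffineOpen U') (hle : U' ≤ ψ ⁻¹ᵁ D) (a : 𝒮.presheaf.obj (op U)),
      φ D hD U' hU' hle (𝒮.res hU hD h a) = φ U hU U' hU' (hle.trans (ψ.preimage_mono h)) a)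
    (hP : IsRelProj 𝒮 p chart) (hL : IsRelTwist 𝒮 p chart n L lam)
    (U : Y.Opens) (hU : IsAffineOpen U) (r : Γ(Y, U)) (D : Y.Opens) (hD : IsAffineOpen D) (hr : Y.basicOpen r = D)
    (h : D ≤ U) (U' : Y'.Opens) (hU' : IsAffineOpen U') (hle : U' ≤ ψ ⁻¹ᵁ D) (W : P.Opens) (a : Γ(L, W)) :
    sec2 (emb p' chart' U' hU') g (tau hg lam U hU U' hU' (hle.trans (ψ.preimage_mono h))) W a =
      sec2 (emb p' chart' U' hU') g (tau hg lam D hD U' hU' hle) W a := by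
  have hirrA := K40.RelGlue.irr_le (𝒮 := 𝒮) U hU r D hD hr h
  refine Subtype.ext (funext fun y => Subtype.ext ?_)
  have m₁ : (emb p chart D hD).base (ProjectiveSpectrum.comap (φ D hD U' hU' hle) (hirr D hD U' hU' hle) y.1) ∈ W :=
    comap_mem_of_mem hg D hD U' hU' hle W _ y.2
  have m₂ : (emb p chart U hU).base (ProjectiveSpectrum.comap (𝒮.res hU hD h) hirrA
      (ProjectiveSpectrum.comap (φ D hD U' hU' hle) (hirr D hD U' hU' hle) y.1)) ∈ W :=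
    comap_mem hP U hU r D hD hr h hirrA W _ m₁
  have m₃ : (emb p chart U hU).base (ProjectiveSpectrum.comap (φ U hU U' hU' (hle.trans (ψ.preimage_mono h)))
      (hirr U hU U' hU' (hle.trans (ψ.preimage_mono h))) y.1) ∈ W :=
    comap_mem_of_mem hg U hU U' hU' _ W _ y.2
  change GrTwist.locMap (φ U hU U' hU' (hle.trans (ψ.preimage_mono h)))
      (hirr U hU U' hU' (hle.trans (ψ.preimage_mono h))) y.1
      (GrTwist.val (V := emb p chart U hU ⁻¹ᵁ W) (sec (emb p chart U hU) (lam U hU) W a) ⟨_, m₃⟩) =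
    GrTwist.locMap (φ D hD U' hU' hle) (hirr D hD U' hU' hle) y.1
      (GrTwist.val (V := emb p chart D hD ⁻¹ᵁ W) (sec (emb p chart D hD) (lam D hD) W a) ⟨_, m₁⟩)
  rw [compat_twist hL U hU r D hD hr h hirrA W a _ m₁ m₂]
  exact (locMap_comp (by ext a; exact (hcA U hU D hD h U' hU' hle a).symm)
    (hirr U hU U' hU' (hle.trans (ψ.preimage_mono h))) hirrA (hirr D hD U' hU' hle) y.1
    (fun x => (emb p chart U hU).base x ∈ W)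
    (fun x hx => GrTwist.val (V := emb p chart U hU ⁻¹ᵁ W) (sec (emb p chart U hU) (lam U hU) W a) ⟨x, hx⟩)
    m₃ m₂).symm

theorem basicOpen_mul_appLE {U : Y.Opens} {U' : Y'.Opens} (h : U' ≤ ψ ⁻¹ᵁ U) (f : Γ(Y, U)) (f' : Γ(Y', U')) :
    Y'.basicOpen (f' * ψ.appLE U U' h f) = Y'.basicOpen f' ⊓ ψ ⁻¹ᵁ Y.basicOpen f := by
  rw [Scheme.basicOpen_mul, Scheme.basicOpen_appLE, ← inf_assoc, inf_eq_left.2 (Y'.basicOpen_le f')]

theorem exists_common {U₁ U₂ : Y.Opens} {U₁' U₂' : Y'.Opens} (hU₁ : IsAffineOpen U₁) (hU₂ : IsAffineOpen U₂)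
    (hU₁' : IsAffineOpen U₁') (hU₂' : IsAffineOpen U₂') (hle₁ : U₁' ≤ ψ ⁻¹ᵁ U₁) (hle₂ : U₂' ≤ ψ ⁻¹ᵁ U₂)
    (x : Y') (h₁ : x ∈ U₁') (h₂ : x ∈ U₂') :
    ∃ (D : Y.Opens) (D' : Y'.Opens) (f₁ : Γ(Y, U₁)) (f₂ : Γ(Y, U₂)) (f₁' : Γ(Y', U₁')) (f₂' : Γ(Y', U₂')),
      x ∈ D' ∧ D' ≤ ψ ⁻¹ᵁ D ∧ Y.basicOpen f₁ = D ∧ Y.basicOpen f₂ = D ∧ Y'.basicOpen f₁' = D' ∧
        Y'.basicOpen f₂' = D' := by
  obtain ⟨f₁, f₂, hf, hxf⟩ := exists_basicOpen_le_affine_inter hU₁ hU₂ (ψ x) ⟨hle₁ h₁, hle₂ h₂⟩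
  obtain ⟨f₁', f₂', hf', hxf'⟩ := exists_basicOpen_le_affine_inter hU₁' hU₂' x ⟨h₁, h₂⟩
  refine ⟨Y.basicOpen f₁, Y'.basicOpen f₁' ⊓ ψ ⁻¹ᵁ Y.basicOpen f₁, f₁, f₂, f₁' * ψ.appLE U₁ U₁' hle₁ f₁,
    f₂' * ψ.appLE U₂ U₂' hle₂ f₂, ⟨hxf', hxf⟩, inf_le_right, rfl, hf.symm, basicOpen_mul_appLE hle₁ f₁ f₁', ?_⟩
  rw [hf, hf']
  exact basicOpen_mul_appLE hle₂ f₂ f₂'

/-- Readings of the comparison in two charts agree. -/
theorem agree (hcA : ∀ (U : Y.Opens) (hU : IsAffineOpen U) (D : Y.Opens) (hD : IsAffineOpen D) (h : D ≤ U)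
      (U' : Y'.Opens) (hU' : IsAffineOpen U') (hle : U' ≤ ψ ⁻¹ᵁ D) (a : 𝒮.presheaf.obj (op U)),
      φ D hD U' hU' hle (𝒮.res hU hD h a) = φ U hU U' hU' (hle.trans (ψ.preimage_mono h)) a)
    (hcB : ∀ (U : Y.Opens) (hU : IsAffineOpen U) (U' : Y'.Opens) (hU' : IsAffineOpen U')
      (hle : U' ≤ ψ ⁻¹ᵁ U) (D' : Y'.Opens) (hD' : IsAffineOpen D') (h : D' ≤ U') (a : 𝒮.presheaf.obj (op U)),
      𝒮'.res hU' hD' h (φ U hU U' hU' hle a) = φ U hU D' hD' (h.trans hle) a)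
    (hP : IsRelProj 𝒮 p chart) (hL : IsRelTwist 𝒮 p chart n L lam)
    (hP' : IsRelProj 𝒮' p' chart') (hL' : IsRelTwist 𝒮' p' chart' n L' lam')
    {U₁ U₂ : Y.Opens} {U₁' U₂' : Y'.Opens} (hU₁ : IsAffineOpen U₁) (hU₂ : IsAffineOpen U₂)
    (hU₁' : IsAffineOpen U₁') (hU₂' : IsAffineOpen U₂') (hle₁ : U₁' ≤ ψ ⁻¹ᵁ U₁) (hle₂ : U₂' ≤ ψ ⁻¹ᵁ U₂)
    (D : Y.Opens) (D' : Y'.Opens) (f₁ : Γ(Y, U₁)) (f₂ : Γ(Y, U₂)) (f₁' : Γ(Y', U₁')) (f₂' : Γ(Y', U₂'))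
    (hD'D : D' ≤ ψ ⁻¹ᵁ D) (e₁ : Y.basicOpen f₁ = D) (e₂ : Y.basicOpen f₂ = D) (e₁' : Y'.basicOpen f₁' = D')
    (e₂' : Y'.basicOpen f₂' = D') (W : P.Opens) (a : Γ(L, W)) (W' : P'.Opens) (hW' : W' ≤ g ⁻¹ᵁ W)
    (hN : W' ≤ p' ⁻¹ᵁ D') (s s' : Γ(L', W'))
    (hs : sec (emb p' chart' U₁' hU₁') (lam' U₁' hU₁') W' s =
      res _ ((emb p' chart' U₁' hU₁').preimage_mono hW')
        (sec2 (emb p' chart' U₁' hU₁') g (tau hg lam U₁ hU₁ U₁' hU₁' hle₁) W a))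
    (hs' : sec (emb p' chart' U₂' hU₂') (lam' U₂' hU₂') W' s' =
      res _ ((emb p' chart' U₂' hU₂').preimage_mono hW')
        (sec2 (emb p' chart' U₂' hU₂') g (tau hg lam U₂ hU₂ U₂' hU₂' hle₂) W a)) : s = s' := by
  have hD : IsAffineOpen D := e₁ ▸ hU₁.basicOpen _
  have hD' : IsAffineOpen D' := e₁' ▸ hU₁'.basicOpen _
  have d₁ : D ≤ U₁ := e₁ ▸ Y.basicOpen_le _
  have d₂ : D ≤ U₂ := e₂ ▸ Y.basicOpen_le _
  have h₁ : D' ≤ U₁' := e₁' ▸ Y'.basicOpen_le _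
  have h₂ : D' ≤ U₂' := e₂' ▸ Y'.basicOpen_le _
  refine (hL'.bijective _ hD' W' hN).1 ?_
  have q₁ := step_source hg hcB hP' hL' U₁ hU₁ U₁' hU₁' hle₁ _ D' hD' e₁' h₁ W a W' hW' s hs
  have q₂ := step_source hg hcB hP' hL' U₂ hU₂ U₂' hU₂' hle₂ _ D' hD' e₂' h₂ W a W' hW' s' hs'
  have q₃ := step_target hg hcA hP hL U₁ hU₁ f₁ D hD e₁ d₁ D' hD' hD'D W a
  have q₄ := step_target hg hcA hP hL U₂ hU₂ f₂ D hD e₂ d₂ D' hD' hD'D W a
  exact q₁.trans ((congrArg _ (q₃.trans q₄.symm)).trans q₂.symm)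

/-- The comparison morphism `L ⟶ g_* L'`. -/
theorem existsUnique_hom (hcA : ∀ (U : Y.Opens) (hU : IsAffineOpen U) (D : Y.Opens) (hD : IsAffineOpen D) (h : D ≤ U)
      (U' : Y'.Opens) (hU' : IsAffineOpen U') (hle : U' ≤ ψ ⁻¹ᵁ D) (a : 𝒮.presheaf.obj (op U)),
      φ D hD U' hU' hle (𝒮.res hU hD h a) = φ U hU U' hU' (hle.trans (ψ.preimage_mono h)) a)
    (hcB : ∀ (U : Y.Opens) (hU : IsAffineOpen U) (U' : Y'.Opens) (hU' : IsAffineOpen U')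
      (hle : U' ≤ ψ ⁻¹ᵁ U) (D' : Y'.Opens) (hD' : IsAffineOpen D') (h : D' ≤ U') (a : 𝒮.presheaf.obj (op U)),
      𝒮'.res hU' hD' h (φ U hU U' hU' hle a) = φ U hU D' hD' (h.trans hle) a)
    (hP : IsRelProj 𝒮 p chart) (hL : IsRelTwist 𝒮 p chart n L lam)
    (hP' : IsRelProj 𝒮' p' chart') (hL' : IsRelTwist 𝒮' p' chart' n L' lam') :
    ∃! θ : L ⟶ (Scheme.Modules.pushforward g).obj L', ∀ (q : Idx ψ) (W : P.Opens) (a : Γ(L, W)),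
      sec (emb p' chart' q.1.2 q.2.2.1) (lam' q.1.2 q.2.2.1) (g ⁻¹ᵁ W) (θ.app W a) =
        sec2 (emb p' chart' q.1.2 q.2.2.1) g (tau hg lam q.1.1 q.2.1 q.1.2 q.2.2.1 q.2.2.2) W a := by
  refine existsUnique_hom_of_cover (V := fun q : Idx ψ => p' ⁻¹ᵁ q.1.2) (fun x => ?_)
    (fun q : Idx ψ => lam' q.1.2 q.2.2.1) (fun q W hW => hL'.bijective q.1.2 q.2.2.1 W hW)
    (fun q => K35.RelProjBasic.emb_preimage q.1.2 q.2.2.1) g
    (fun q => tau hg lam q.1.1 q.2.1 q.1.2 q.2.2.1 q.2.2.2) (fun q₁ q₂ W a x hx hx1 hx2 => ?_)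
  · obtain ⟨q, hq, -, -⟩ := exists_idx ψ (p' x) ⊤ trivial
    exact ⟨q, hq⟩
  · have hex := exists_common (ψ := ψ) q₁.2.1 q₂.2.1 q₁.2.2.1 q₂.2.2.1 q₁.2.2.2 q₂.2.2.2 (p' x) hx1 hx2
    exact hex.elim fun D h => h.elim fun D' h => h.elim fun f₁ h => h.elim fun f₂ h => h.elim fun f₁' h =>
      h.elim fun f₂' h => ⟨p' ⁻¹ᵁ D', h.1, fun W' hW' hN _ _ s s' hs hs' =>
        agree hg hcA hcB hP hL hP' hL' q₁.2.1 q₂.2.1 q₁.2.2.1 q₂.2.2.1 q₁.2.2.2 q₂.2.2.2 D D' f₁ f₂ f₁' f₂'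
          h.2.1 h.2.2.1 h.2.2.2.1 h.2.2.2.2.1 h.2.2.2.2.2 W a W' hW' hN s s' hs hs'⟩

theorem isUniv_lam' (hL' : IsRelTwist 𝒮' p' chart' n L' lam') (U' : Y'.Opens) (hU' : IsAffineOpen U') :
    IsUniv (emb p' chart' U' hU') (lam' U' hU') :=
  isUniv_of_bijective _ _ fun W hW => hL'.bijective U' hU' W (by
    rwa [K35.RelProjBasic.opensRange_emb] at hW)

/-- The comparison is universal. -/
theorem isUniv_hom
    (hL : IsRelTwist 𝒮 p chart n L lam) (hL' : IsRelTwist 𝒮' p' chart' n L' lam')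
    (hbc : ∀ q : Idx ψ, IsUniv (Proj.map (φ q.1.1 q.2.1 q.1.2 q.2.2.1 q.2.2.2) (hirr q.1.1 q.2.1 q.1.2 q.2.2.1 q.2.2.2))
      (GrTwist.comap (φ q.1.1 q.2.1 q.1.2 q.2.2.1 q.2.2.2) (hirr q.1.1 q.2.1 q.1.2 q.2.2.1 q.2.2.2) n))
    (θ : L ⟶ (Scheme.Modules.pushforward g).obj L')
    (hθ : ∀ (q : Idx ψ) (W : P.Opens) (a : Γ(L, W)),
      sec (emb p' chart' q.1.2 q.2.2.1) (lam' q.1.2 q.2.2.1) (g ⁻¹ᵁ W) (θ.app W a) =
        sec2 (emb p' chart' q.1.2 q.2.2.1) g (tau hg lam q.1.1 q.2.1 q.1.2 q.2.2.1 q.2.2.2) W a) :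
    IsUniv g θ := by
  refine isUniv_of_cover g θ (ι := Idx ψ) (fun q => emb p' chart' q.1.2 q.2.2.1) (fun x => ?_)
    (T := fun q => GrTwist.twist (𝒮'.deg q.1.2 q.2.2.1) n) (fun q => lam' q.1.2 q.2.2.1)
    (fun q => isUniv_lam' hL' q.1.2 q.2.2.1) fun q => ?_
  · obtain ⟨q, hq, -, -⟩ := exists_idx ψ (p' x) ⊤ trivial
    refine ⟨q, ?_⟩
    rw [K35.RelProjBasic.opensRange_emb]
    exact hq
  · have h1 := (isUniv_lam' (p' := p) (chart' := chart) hL q.1.1 q.2.1).comp (hbc q)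
    have h2 : compMap θ (lam' q.1.2 q.2.2.1) =
        compMap (lam q.1.1 q.2.1) (GrTwist.comap (φ q.1.1 q.2.1 q.1.2 q.2.2.1 q.2.2.2)
          (hirr q.1.1 q.2.1 q.1.2 q.2.2.1 q.2.2.2) n) ≫
          (Scheme.Modules.pushforwardCongr (hg q.1.1 q.2.1 q.1.2 q.2.2.1 q.2.2.2).symm).hom.app _ := by
      ext W a
      exact hθ q W a
    rw [h2]
    exact (isUniv_congr _ _).2 h1

end K40.RelTwBC

end
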