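import Groth.Agent.Ega2.H267.ProjBC
import Groth.Agent.CalgA.TwoGlue
import Mathlib.Algebra.Category.Ring.Constructions

/-!
# Base change of homogeneous localizations and of `Proj`, gradings by additive subgroups
-/

set_option autoImplicit false
universe u

open CategoryTheory CategoryTheory.Limits AlgebraicGeometry HomogeneousLocalization
open scoped HomogeneousIdeal

namespace K40.AwayBC
open Groth.Agent.Ega2.H267.AwayBC

section subm

variable {R B σ : Type u} [CommRing R] [CommRing B] [SetLike σ B] [AddSubgroupClass σ B] (ℬ : ℕ → σ) [GradedRing ℬ]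
  (f : R →+* B) (hf : ∀ r, f r ∈ ℬ 0)

/-- A grading by additive subgroups whose degree-zero part contains the image of `R`, as a grading by
`R`-submodules. -/
def subm (n : ℕ) : @Submodule R B _ _ f.toAlgebra.toModule :=
  letI := f.toAlgebra
  { carrier := ℬ n
    add_mem' := fun ha hb => add_mem ha hb
    zero_mem' := zero_mem _
    smul_mem' := fun r x hx => by
      change f r * x ∈ ℬ n
      have := SetLike.mul_mem_graded (A := ℬ) (hf r) hx
      rwa [zero_add] at this }

theorem mem_subm (n : ℕ) (x : B) : (letI := f.toAlgebra; x ∈ subm ℬ f hf n) ↔ x ∈ ℬ n := Iff.rfl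

/-- The comparison of the pieces. -/
def toSubm (n : ℕ) : ℬ n →+ (letI := f.toAlgebra; subm ℬ f hf n) where
  toFun x := ⟨x.1, x.2⟩
  map_zero' := rfl
  map_add' _ _ := rfl

/-- The grading by submodules. -/
@[instance_reducible]
noncomputable def gradedSubm : letI := f.toAlgebra; GradedAlgebra (subm ℬ f hf) :=
  letI := f.toAlgebra
  { one_mem := SetLike.GradedOne.one_mem (A := ℬ)
    mul_mem := fun _ _ _ _ ha hb => SetLike.mul_mem_graded (A := ℬ) ha hb
    toDecomposition := DirectSum.Decomposition.ofAddHom (subm ℬ f hf)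
      ((DirectSum.map (toSubm ℬ f hf)).comp (DirectSum.decomposeAddEquiv ℬ).toAddMonoidHom) (by
        ext x
        simp only [AddMonoidHom.comp_apply, AddMonoidHom.id_apply]
        induction x using DirectSum.Decomposition.inductionOn ℬ with
        | zero => simp
        | homogeneous m =>
          change (DirectSum.coeAddMonoidHom (subm ℬ f hf)) ((DirectSum.map (toSubm ℬ f hf))
            (DirectSum.decompose ℬ (m : B))) = m
          rw [DirectSum.decompose_coe, DirectSum.map_of, DirectSum.coeAddMonoidHom_of]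
          rfl
        | add m m' h h' => simp only [map_add, h, h']) (by
        ext i x
        simp only [AddMonoidHom.comp_apply, AddMonoidHom.id_apply, DirectSum.coeAddMonoidHom_of]
        have h1 : DirectSum.decompose ℬ (x : B) = DirectSum.of (fun i => ℬ i) i ⟨x.1, x.2⟩ :=
          DirectSum.decompose_of_mem ℬ x.2
        change ((DirectSum.map (toSubm ℬ f hf)) (DirectSum.decompose ℬ (x : B)) _ : B) = _
        rw [h1, DirectSum.map_of]
        rfl) }

end subm

section

variable {R A R' B σ τ : Type u} [CommRing R'] [CommRing R] [CommRing B] [CommRing A]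
  [SetLike σ B] [AddSubgroupClass σ B] {ℬ : ℕ → σ} [GradedRing ℬ]
  [SetLike τ A] [AddSubgroupClass τ A] {𝒜 : ℕ → τ} [GradedRing 𝒜]
  (ρ : R' →+* R) (b : R' →+* B) (a : R →+* A) (hb : ∀ r, b r ∈ ℬ 0) (ha : ∀ r, a r ∈ 𝒜 0)
  (φ : ℬ →+*ᵍ 𝒜)

/-- The map `R' → B_(s)`. -/
noncomputable def algR (s : B) : R' →+* Away ℬ s :=
  (fromZeroRingHom ℬ _).comp
    { toFun := fun r => (⟨b r, hb r⟩ : ℬ 0)
      map_one' := Subtype.ext (map_one b)
      map_mul' := fun _ _ => Subtype.ext (map_mul b _ _)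
      map_zero' := Subtype.ext (map_zero b)
      map_add' := fun _ _ => Subtype.ext (map_add b _ _) }

theorem val_algR (s : B) (r : R') : (algR b hb s r).val = algebraMap B (Localization.Away s) (b r) := rfl

theorem mk_smul_eq {s : B} {n : ℕ} {i : ℕ} (hs : s ∈ ℬ i) (x : B) (hx : x ∈ ℬ (n • i)) (r : R')
    (hrx : b r * x ∈ ℬ (n • i)) :
    Away.mk ℬ hs n (b r * x) hrx = algR b hb s r * Away.mk ℬ hs n x hx := by
  apply HomogeneousLocalization.val_injective
  rw [val_mul, val_algR, Away.val_mk, Away.val_mk, ← Localization.mk_one_eq_algebraMap,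
    Localization.mk_mul, one_mul]

theorem mk_add_eq {s : B} {n : ℕ} {i : ℕ} (hs : s ∈ ℬ i) (x y : B) (hx : x ∈ ℬ (n • i))
    (hy : y ∈ ℬ (n • i)) (hxy : x + y ∈ ℬ (n • i)) :
    Away.mk ℬ hs n (x + y) hxy = Away.mk ℬ hs n x hx + Away.mk ℬ hs n y hy := by
  apply HomogeneousLocalization.val_injective
  rw [val_add, Away.val_mk, Away.val_mk, Away.val_mk, Localization.add_mk_self]

theorem mk_pow_mul {s : B} {i : ℕ} (hs : s ∈ ℬ i) (k n : ℕ) (x : B) (hx : x ∈ ℬ (n • i))
    (hx' : s ^ k * x ∈ ℬ ((k + n) • i)) :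
    Away.mk ℬ hs (k + n) (s ^ k * x) hx' = Away.mk ℬ hs n x hx := by
  apply HomogeneousLocalization.val_injective
  rw [Away.val_mk, Away.val_mk, Localization.mk_eq_mk_iff, Localization.r_iff_exists]
  refine ⟨1, ?_⟩
  change 1 * (s ^ n * (s ^ k * x)) = 1 * (s ^ (k + n) * x)
  rw [pow_add]; ring

theorem mk_eq_zero {s : B} {i : ℕ} (hs : s ∈ ℬ i) (n : ℕ) (x : B) (hx : x ∈ ℬ (n • i))
    (h : Away.mk ℬ hs n x hx = 0) : ∃ k, s ^ k * x = 0 := by
  have h1 := congrArg HomogeneousLocalization.val h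
  rw [Away.val_mk, val_zero, ← Localization.mk_zero 1, Localization.mk_eq_mk_iff,
    Localization.r_iff_exists] at h1
  obtain ⟨⟨_, k, rfl⟩, hk⟩ := h1
  refine ⟨k, ?_⟩
  simpa using hk

theorem map_algR (hφ : ∀ r, φ (b r) = a (ρ r)) (s : B) (r : R') :
    Away.map φ s (algR b hb s r) = algR a ha (φ s) (ρ r) := by
  apply HomogeneousLocalization.val_injective
  rw [val_algR]
  change (Away.map φ s (HomogeneousLocalization.mk _)).val = _
  rw [Away.map, HomogeneousLocalization.map_mk, HomogeneousLocalization.val_mk]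
  rw [← Localization.mk_one_eq_algebraMap, Localization.mk_eq_mk_iff, Localization.r_iff_exists]
  refine ⟨1, ?_⟩
  simp [hφ]

/-- **Base change of homogeneous localizations**, gradings by additive subgroups. -/
theorem isPushout_away (h : IsPushout (CommRingCat.ofHom ρ) (CommRingCat.ofHom b) (CommRingCat.ofHom a)
      (CommRingCat.ofHom φ.toRingHom)) {i : ℕ} (s : B) (hs : s ∈ ℬ i) :
    IsPushout (CommRingCat.ofHom ρ) (CommRingCat.ofHom (algR b hb s))
      (CommRingCat.ofHom (algR a ha (φ s))) (CommRingCat.ofHom (Away.map φ s)) := by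
  have hφ : ∀ r, φ (b r) = a (ρ r) := fun r => by
    have := congrArg (fun z => z.hom r) h.w
    exact this.symm
  let _ : Algebra R' B := b.toAlgebra
  let _ : Algebra R' R := ρ.toAlgebra
  let _ : Algebra R A := a.toAlgebra
  let _ : Algebra R' A := (a.comp ρ).toAlgebra
  let _ : Algebra B A := φ.toRingHom.toAlgebra
  have : IsScalarTower R' R A := .of_algebraMap_eq' rfl
  have : IsScalarTower R' B A := .of_algebraMap_eq' (RingHom.ext fun r => (hφ r).symm)
  let _ := gradedSubm ℬ b hb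
  let _ := gradedSubm 𝒜 a ha
  have hpo : Algebra.IsPushout R' R B A := by
    rw [← CommRingCat.isPushout_iff_isPushout]
    exact h
  let φ' : subm ℬ b hb →+*ᵍ subm 𝒜 a ha := { φ.toRingHom with map_mem := fun hx => φ.map_mem hx }
  refine isPushout_aux φ' (fun _ => rfl) s (i := i) hs _ _ _ (fun r => map_algR ρ b a hb ha φ hφ s r)
    (fun n x => Away.mk ℬ hs n x.1 x.2) (fun n x y => mk_add_eq hs x.1 y.1 x.2 y.2 _)
    (fun n r x => mk_smul_eq b hb hs x.1 x.2 r _)
    (fun n x => Away.mk 𝒜 (φ.map_mem hs) n x.1 x.2) (fun n x y => mk_add_eq (φ.map_mem hs) x.1 y.1 x.2 y.2 _)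
    (fun n r x => mk_smul_eq a ha (φ.map_mem hs) x.1 x.2 r _)
    (fun k n x => mk_pow_mul hs k n x.1 x.2 _)
    (fun n x => ?_) (fun x => ?_) (fun x => ?_) (fun n y hy => ?_)
  · exact Away.map_mk φ s hs n x.1 x.2
  · obtain ⟨n, a, ha, h⟩ := Away.mk_surjective ℬ hs x
    exact ⟨n, ⟨a, ha⟩, h⟩
  · obtain ⟨n, a, ha, h⟩ := Away.mk_surjective 𝒜 (φ.map_mem hs) x
    exact ⟨n, ⟨a, ha⟩, h⟩
  · obtain ⟨k, hk⟩ := mk_eq_zero (φ.map_mem hs) n y.1 y.2 hy
    exact ⟨k, Subtype.ext hk⟩

/-- The map `R' → B_0`. -/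
def zeroR (b : R' →+* B) (hb : ∀ r, b r ∈ ℬ 0) : R' →+* ℬ 0 where
  toFun r := ⟨b r, hb r⟩
  map_one' := Subtype.ext (map_one b)
  map_mul' _ _ := Subtype.ext (map_mul b _ _)
  map_zero' := Subtype.ext (map_zero b)
  map_add' _ _ := Subtype.ext (map_add b _ _)

theorem awayι_toSpec {i : ℕ} (hi : 0 < i) (s : B) (hs : s ∈ ℬ i) :
    Proj.awayι ℬ s hs hi ≫ Proj.toSpecZero ℬ ≫ Spec.map (CommRingCat.ofHom (zeroR b hb)) =
      Spec.map (CommRingCat.ofHom (algR b hb s)) := by
  rw [← Category.assoc]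
  erw [Proj.awayι_toSpecZero]
  rw [← Spec.map_comp, ← CommRingCat.ofHom_comp]
  rfl

/-- If `A = B ⊗_{R'} R` then the irrelevant ideal of `A` is generated by the image of that of `B`. -/
theorem irrelevant_le_map (h : IsPushout (CommRingCat.ofHom ρ) (CommRingCat.ofHom b) (CommRingCat.ofHom a)
      (CommRingCat.ofHom φ.toRingHom)) (ha : ∀ r, a r ∈ 𝒜 0) : 𝒜₊ ≤ (ℬ₊).map φ := by
  classical
  have hφ : ∀ r, φ (b r) = a (ρ r) := fun r => by
    have := congrArg (fun z => z.hom r) h.w
    exact this.symm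
  let _ : Algebra R' B := b.toAlgebra
  let _ : Algebra R' R := ρ.toAlgebra
  let _ : Algebra R A := a.toAlgebra
  let _ : Algebra R' A := (a.comp ρ).toAlgebra
  let _ : Algebra B A := φ.toRingHom.toAlgebra
  have : IsScalarTower R' R A := .of_algebraMap_eq' rfl
  have : IsScalarTower R' B A := .of_algebraMap_eq' (RingHom.ext fun r => (hφ r).symm)
  have hpo : Algebra.IsPushout R' R B A := by
    rw [← CommRingCat.isPushout_iff_isPushout]
    exact h
  rw [HomogeneousIdeal.irrelevant_le]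
  intro i hi x hx
  change x ∈ Ideal.map φ.toRingHom (ℬ₊).toIdeal
  have h1 := ((liftBaseChange_bijective (IsScalarTower.toAlgHom R' B A).toLinearMap).mp hpo.out).2 x
  obtain ⟨t, ht⟩ := h1
  -- project to degree `i`
  have key : ∀ t : TensorProduct R' R B,
      (DirectSum.decompose 𝒜 ((IsScalarTower.toAlgHom R' B A).toLinearMap.liftBaseChange R t) i : A) ∈
        Ideal.map φ.toRingHom (ℬ₊).toIdeal := by
    intro t
    induction t with
    | zero => simp
    | tmul r y =>
      have e1 : (IsScalarTower.toAlgHom R' B A).toLinearMap.liftBaseChange R (r ⊗ₜ[R'] y) = a r * φ y := by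
        rw [LinearMap.liftBaseChange_tmul]; rfl
      rw [e1]
      have e2 : (DirectSum.decompose 𝒜 (a r * φ y) i : A) = a r * (DirectSum.decompose 𝒜 (φ y) i : A) := by
        have := DirectSum.coe_decompose_mul_of_left_mem_of_le 𝒜 (ha r) (b := φ y) (Nat.zero_le i)
        simpa using this
      rw [e2, ← GradedRingHom.map_directSumDecompose]
      refine Ideal.mul_mem_left _ _ (Ideal.mem_map_of_mem _ ?_)
      exact HomogeneousIdeal.mem_irrelevant_of_mem _ hi (SetLike.coe_mem _)
    | add t t' h h' =>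
      rw [map_add, DirectSum.decompose_add]
      exact add_mem h h'
  have h2 := key t
  rw [ht, DirectSum.decompose_of_mem_same 𝒜 hx] at h2
  exact h2

/-- **`Proj` commutes with base change**, gradings by additive subgroups. -/
theorem isPullback_proj_map (h : IsPushout (CommRingCat.ofHom ρ) (CommRingCat.ofHom b) (CommRingCat.ofHom a)
      (CommRingCat.ofHom φ.toRingHom)) (hφ : 𝒜₊ ≤ (ℬ₊).map φ) :
    IsPullback (Proj.map φ hφ) (Proj.toSpecZero 𝒜 ≫ Spec.map (CommRingCat.ofHom (zeroR a ha)))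
      (Proj.toSpecZero ℬ ≫ Spec.map (CommRingCat.ofHom (zeroR b hb))) (Spec.map (CommRingCat.ofHom ρ)) := by
  have hchart : ∀ (i : ℕ) (hi : 0 < i) (s : B) (hs : s ∈ ℬ i),
      IsPullback (Spec.map (CommRingCat.ofHom (Away.map φ s))) (Proj.awayι 𝒜 (φ s) (φ.map_mem hs) hi)
        (Proj.awayι ℬ s hs hi) (Proj.map φ hφ) := by
    intro i hi s hs
    apply IsOpenImmersion.isPullback
    · exact Proj.awayι_comp_map φ hφ hi s hs
    · have h1 : (Proj.awayι ℬ s hs hi).opensRange = Proj.basicOpen ℬ s := Proj.opensRange_awayι _ _ _ _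
      have h2 : (Proj.awayι 𝒜 (φ s) (φ.map_mem hs) hi).opensRange = Proj.basicOpen 𝒜 (φ s) :=
        Proj.opensRange_awayι _ _ _ _
      rw [h1, h2]
      rfl
  refine Scheme.isPullback_of_openCover _ _ _ _ (Proj.affineOpenCover ℬ).openCover fun j => ?_
  have hi : 0 < (j.1.1 : ℕ) := j.1.2
  have hs : (j.2.1 : B) ∈ ℬ (j.1.1 : ℕ) := j.2.2
  have h1 := hchart _ hi j.2.1 hs
  have h2 := isPullback_SpecMap_of_isPushout _ _ _ _ (isPushout_away ρ b a hb ha φ h j.2.1 hs)
  let e := h1.flip.isoPullback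
  refine IsPullback.of_iso h2.flip e (Iso.refl _) (Iso.refl _) (Iso.refl _) ?_ ?_ ?_ ?_
  · change _ ≫ _ = e.hom ≫ pullback.snd _ _
    simp only [e, IsPullback.isoPullback_hom_snd]
    exact Category.comp_id _
  · change _ ≫ _ = e.hom ≫ pullback.fst _ _ ≫ _
    rw [Iso.refl_hom, Category.comp_id]
    simp only [e, IsPullback.isoPullback_hom_fst_assoc]
    exact (awayι_toSpec a ha hi _ (φ.map_mem hs)).symm
  · change _ ≫ 𝟙 _ = 𝟙 _ ≫ Proj.awayι ℬ _ _ _ ≫ _
    rw [Category.comp_id, Category.id_comp]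
    exact (awayι_toSpec b hb hi _ hs).symm
  · simp

end

end K40.AwayBC
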