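import Groth.Agent.EGA2.K31.GrFracs
import Groth.Prelude.Def_RelProj3
import Groth.Agent.EGA2.K35.Dehom
import Groth.Agent.CohqA.PullbackQCoh

/-!
# Dehomogenization of a graded module at an element of degree one

For `f ∈ 𝒜 1`: `del hf : A →+* Γ(D_+(f), O)`, `a ↦ a / f^i` and `dem n hf : M →+ Γ(D_+(f), M(n)~)`, `m ↦ m / f^(i-n)`
for `m` of degree `i`; `isBC_dem`: `dem` is the base change of `M` along `del`.
-/

set_option autoImplicit false
universe u
open CategoryTheory CategoryTheory.Limits AlgebraicGeometry Opposite TopologicalSpace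

noncomputable section

namespace K40.GrDeh

open K31.GrSect K31.GrFracs Groth.Agent.CohqA.BaseChangeMod

variable {A σ : Type u} [CommRing A] [SetLike σ A] [AddSubgroupClass σ A] {𝒜 : ℕ → σ} [GradedRing 𝒜]
  {M τ : Type u} [AddCommGroup M] [Module A M] [SetLike τ M] [AddSubgroupClass τ M] {ℳ : ℕ → τ}
  [SetLike.GradedSMul 𝒜 ℳ] [DirectSum.Decomposition ℳ]

theorem pow_mem1 {f : A} (hf : f ∈ 𝒜 1) (i : ℕ) : f ^ i ∈ 𝒜 i := by
  simpa using SetLike.pow_mem_graded i hf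

/-- The dehomogenization `A → Γ(D_+(f), O)`. -/
def del {f : A} (hf : f ∈ 𝒜 1) : A →+* Γ(Proj 𝒜, Proj.basicOpen 𝒜 f) :=
  (Proj.awayToSection 𝒜 f).hom.comp (K35.Dehom.dehom 𝒜 hf)

theorem del_of_mem {f : A} (hf : f ∈ 𝒜 1) {i : ℕ} {a : A} (ha : a ∈ 𝒜 i) :
    del hf a = ofrac (Proj.basicOpen 𝒜 f) ha (pow_mem1 hf i) ((NV.basicOpen f).pow i) := by
  refine oval_ext fun x => ?_
  refine (ProjectiveSpectrum.Proj.awayToSection_apply 𝒜 f _ x).trans ?_
  rw [K35.Dehom.dehom_of_mem_val hf ha, Localization.mk_eq_mk', IsLocalization.map_mk', oval_ofrac,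
    Localization.mk_eq_mk']
  rfl

theorem del_self {f : A} (hf : f ∈ 𝒜 1) : del hf f = 1 := by
  rw [del, RingHom.comp_apply, K35.Dehom.dehom_self, map_one]

theorem del_surjective {f : A} (hf : f ∈ 𝒜 1) : Function.Surjective (del hf) := by
  have hbij : Function.Bijective (Proj.basicOpenIsoAway 𝒜 f hf one_pos).hom :=
    (ConcreteCategory.isIso_iff_bijective _).mp inferInstance
  exact hbij.2.comp (K35.Dehom.dehom_surjective hf)

variable (ℳ) in
/-- The piece of degree `i` of `dem`. -/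
def dpiece (n : ℤ) {f : A} (hf : f ∈ 𝒜 1) (i : ℕ) : ℳ i →+ Γ(GrMod.tilde 𝒜 ℳ n, Proj.basicOpen 𝒜 f) where
  toFun m := gfrac n (Proj.basicOpen 𝒜 f) (pow_mem1 hf (n.toNat + i - n).toNat) ((NV.basicOpen f).pow _)
    (m := f ^ n.toNat • m.1) (smul_mem_zdeg_of_eq 𝒜 (pow_mem1 hf _) (mem_zdeg_of_eq rfl m.2) (by omega))
  map_zero' := by
    refine gval_ext fun x => ?_
    rw [gval_gfrac, gval_zero]
    simp only [ZeroMemClass.coe_zero, smul_zero, LocalizedModule.zero_mk]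
  map_add' m m' := by
    rw [gfrac_add]
    refine gfrac_congr ?_
    simp only [AddMemClass.coe_add, smul_add]

theorem dpiece_apply (n : ℤ) {f : A} (hf : f ∈ 𝒜 1) {i : ℕ} (m : ℳ i) :
    dpiece (𝒜 := 𝒜) ℳ n hf i m =
      gfrac n (Proj.basicOpen 𝒜 f) (pow_mem1 hf (n.toNat + i - n).toNat) ((NV.basicOpen f).pow _)
        (m := f ^ n.toNat • m.1) (smul_mem_zdeg_of_eq 𝒜 (pow_mem1 hf _) (mem_zdeg_of_eq rfl m.2) (by omega)) := rfl

variable (ℳ) in
/-- The dehomogenization `M → Γ(D_+(f), M(n)~)`. -/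
def dem (n : ℤ) {f : A} (hf : f ∈ 𝒜 1) : M →+ Γ(GrMod.tilde 𝒜 ℳ n, Proj.basicOpen 𝒜 f) :=
  (DirectSum.toAddMonoid (dpiece (𝒜 := 𝒜) ℳ n hf)).comp (DirectSum.decomposeAddEquiv ℳ).toAddMonoidHom

theorem dem_coe (n : ℤ) {f : A} (hf : f ∈ 𝒜 1) {i : ℕ} (m : ℳ i) : dem ℳ n hf m.1 = dpiece (𝒜 := 𝒜) ℳ n hf i m := by
  change DirectSum.toAddMonoid (dpiece (𝒜 := 𝒜) ℳ n hf) (DirectSum.decompose ℳ m.1) = _
  rw [DirectSum.decompose_coe, DirectSum.toAddMonoid_of]

theorem dem_of_mem (n : ℤ) {f : A} (hf : f ∈ 𝒜 1) {k : ℕ} {m : M} (hm : m ∈ zdeg ℳ (k + n)) :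
    dem ℳ n hf m = gfrac n (Proj.basicOpen 𝒜 f) (pow_mem1 hf k) ((NV.basicOpen f).pow k) hm := by
  rcases mem_zdeg_iff.mp hm with ⟨i, hi, h⟩ | rfl
  · rw [dem_coe n hf ⟨m, h⟩, dpiece_apply]
    refine gfrac_congr ?_
    change f ^ k • (f ^ n.toNat • m) = _
    rw [smul_smul, ← pow_add]
    congr 2
    omega
  · rw [map_zero]
    refine gval_ext fun x => ?_
    rw [gval_gfrac, gval_zero, LocalizedModule.zero_mk]

theorem dem_smul (n : ℤ) {f : A} (hf : f ∈ 𝒜 1) (a : A) (m : M) :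
    dem ℳ n hf (a • m) = del hf a • dem ℳ n hf m := by
  induction a using DirectSum.Decomposition.inductionOn 𝒜 with
  | zero => rw [zero_smul, map_zero, map_zero, zero_smul]
  | @homogeneous i a =>
    induction m using DirectSum.Decomposition.inductionOn ℳ with
    | zero => rw [smul_zero, map_zero, smul_zero]
    | @homogeneous j m =>
      have ham : a.1 • m.1 ∈ ℳ (i + j) := smul_mem_add 𝒜 a.2 m.2
      rw [dem_coe n hf m, del_of_mem hf a.2]
      refine (dem_coe n hf ⟨a.1 • m.1, ham⟩).trans ?_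
      rw [dpiece_apply, dpiece_apply, ofrac_smul_gfrac]
      refine gfrac_congr ?_
      simp only [smul_smul]
      congr 1
      have e : i + (n.toNat + j - n).toNat + n.toNat = (n.toNat + ((i + j : ℕ) : ℤ) - n).toNat + n.toNat := by omega
      calc f ^ i * f ^ (n.toNat + j - n).toNat * (f ^ n.toNat * a.1)
          = f ^ (i + (n.toNat + j - n).toNat + n.toNat) * a.1 := by ring
        _ = _ := by rw [e]; ring
    | add m m' h h' => rw [smul_add, map_add, map_add, smul_add, h, h']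
  | add a a' h h' => rw [add_smul, map_add, map_add, add_smul, h, h']

theorem dem_surjective (n : ℤ) {f : A} (hf : f ∈ 𝒜 1) : Function.Surjective (dem (𝒜 := 𝒜) ℳ n hf) := by
  intro s
  obtain ⟨k, m, hm, hV, rfl⟩ := exists_gfrac_basicOpen (ℳ := ℳ) n one_pos hf rfl s
  refine ⟨m, ?_⟩
  have hm' : m ∈ zdeg ℳ (k + n) := by
    rw [show ((k : ℕ) : ℤ) + n = ((k * 1 : ℕ) : ℤ) + n by rw [mul_one]]
    exact hm
  rw [dem_of_mem n hf hm']
  exact gfrac_congr rfl

/-- An additive map `t` with `t (f m) = t m` factors through `dem`. -/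
theorem map_eq_zero_of_dem (n : ℤ) {f : A} (hf : f ∈ 𝒜 1) {Q : Type*} [AddCommGroup Q] (t : M →+ Q)
    (ht : ∀ m, t (f • m) = t m) {m : M} (hm : dem (𝒜 := 𝒜) ℳ n hf m = 0) : t m = 0 := by
  classical
  have htk : ∀ (k : ℕ) (x : M), t (f ^ k • x) = t x := by
    intro k
    induction k with
    | zero => intro x; rw [pow_zero, one_smul]
    | succ k ih => intro x; rw [pow_succ, mul_smul, ih, ht]
  have hDk : ∀ (k : ℕ) (x : M), dem (𝒜 := 𝒜) ℳ n hf (f ^ k • x) = dem (𝒜 := 𝒜) ℳ n hf x := by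
    intro k x
    rw [dem_smul, map_pow, del_self, one_pow, one_smul]
  set S := (DirectSum.decompose ℳ m).support with hS
  set L := S.sup id with hL
  have hle : ∀ i ∈ S, i ≤ L := fun i hi => Finset.le_sup (f := id) hi
  set m' : M := ∑ i ∈ S, f ^ (L - i) • (DirectSum.decompose ℳ m i : M) with hm'
  have hmL : m' ∈ ℳ L := by
    refine sum_mem fun i hi => ?_
    have := smul_mem_add 𝒜 (ℳ := ℳ) (pow_mem1 hf (L - i)) (SetLike.coe_mem (DirectSum.decompose ℳ m i))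
    rwa [Nat.sub_add_cancel (hle i hi)] at this
  have htm : t m = t m' := by
    conv_lhs => rw [← DirectSum.sum_support_decompose ℳ m]
    rw [hm', map_sum, map_sum]
    exact Finset.sum_congr rfl fun i _ => (htk _ _).symm
  have hDm : dem (𝒜 := 𝒜) ℳ n hf m = dem (𝒜 := 𝒜) ℳ n hf m' := by
    conv_lhs => rw [← DirectSum.sum_support_decompose ℳ m]
    rw [hm', map_sum, map_sum]
    exact Finset.sum_congr rfl fun i _ => (hDk _ _).symm
  rw [hDm, dem_coe n hf ⟨m', hmL⟩, dpiece_apply] at hm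
  have h0 : ∀ x : ProjectiveSpectrum 𝒜, f ∉ x.asHomogeneousIdeal →
      ∃ a : A, a ∉ x.asHomogeneousIdeal ∧ a • (f ^ n.toNat • m') = 0 := by
    intro x hx
    have h1 := congrArg (fun z => gval z ⟨x, hx⟩) hm
    dsimp only at h1
    rw [gval_gfrac, gval_zero, ← LocalizedModule.zero_mk (1 : x.asHomogeneousIdeal.toIdeal.primeCompl)] at h1
    obtain ⟨a, ha⟩ := LocalizedModule.mk_eq.mp h1
    refine ⟨a.1, a.2, ?_⟩
    simpa [Submonoid.smul_def] using ha
  obtain ⟨e, he⟩ := exists_pow_smul_eq_zero 𝒜 (ℳ := ℳ) one_pos hf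
    (smul_mem_zdeg_of_eq 𝒜 (l := (n.toNat + L : ℕ)) (pow_mem1 hf _) (mem_zdeg_of_eq rfl hmL) (by push_cast; ring)) h0
  rw [htm, ← htk n.toNat, ← htk e, he, map_zero]

/-- `dem` is a base change along `del`. -/
theorem isBC_dem (n : ℤ) {f : A} (hf : f ∈ 𝒜 1) : IsBC (del hf) (dem (𝒜 := 𝒜) ℳ n hf) := by
  refine ⟨dem_smul n hf, fun Q _ _ t ht => ?_⟩
  have htf : ∀ m, t (f • m) = t m := fun m => by rw [ht, del_self, one_smul]
  have hker : ∀ m m', dem (𝒜 := 𝒜) ℳ n hf m = dem (𝒜 := 𝒜) ℳ n hf m' → t m = t m' := by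
    intro m m' h
    rw [← sub_eq_zero, ← map_sub] at h ⊢
    exact map_eq_zero_of_dem n hf t htf h
  choose l hl using dem_surjective (𝒜 := 𝒜) (ℳ := ℳ) n hf
  refine ⟨{ toFun := fun s => t (l s)
            map_add' := fun s s' => ?_
            map_smul' := fun c s => ?_ }, fun m => hker _ _ (hl _), fun g hg => ?_⟩
  · rw [← map_add]
    exact hker _ _ (by rw [map_add, hl, hl, hl])
  · obtain ⟨a, rfl⟩ := del_surjective hf c
    rw [RingHom.id_apply, ← ht]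
    exact hker _ _ (by rw [dem_smul, hl, hl])
  · ext s
    change g s = t (l s)
    rw [← hg, hl]

section comap

open scoped HomogeneousIdeal
open Groth.Agent.CohqA.PullbackQCoh Groth.Agent.CohqA.PullbackUniv Groth.Agent.CohqA.PullbackAffine

variable {B σ' : Type u} [CommRing B] [SetLike σ' B] [AddSubgroupClass σ' B] {ℬ : ℕ → σ'} [GradedRing ℬ]
  (ψ : 𝒜 →+*ᵍ ℬ) (hψ : ℬ₊ ≤ (𝒜₊).map ψ)
  {N τ' : Type u} [AddCommGroup N] [Module B N] [SetLike τ' N] [AddSubgroupClass τ' N] {𝒩 : ℕ → τ'}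
  [SetLike.GradedSMul ℬ 𝒩] [DirectSum.Decomposition 𝒩]

theorem isBC_comap (v : M →ₛₗ[ψ.toRingHom] N) (hv : ∀ (i : ℕ) (m : M), m ∈ ℳ i → v m ∈ 𝒩 i)
    (hbc : IsBC ψ.toRingHom v.toAddMonoidHom) (n : ℤ) {f : A} (hf : f ∈ 𝒜 1) :
    IsBC ((Proj.map ψ hψ).appLE (Proj.basicOpen 𝒜 f) (Proj.basicOpen ℬ (ψ f)) (by rfl)).hom
      (secMap (Proj.map ψ hψ) (GrMod.comap ψ hψ v hv n) (Proj.basicOpen 𝒜 f) (Proj.basicOpen ℬ (ψ f)) (by rfl)).hom := by
  have hf' : ψ f ∈ ℬ 1 := ψ.map_mem hf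
  have e1 : ((Proj.map ψ hψ).appLE (Proj.basicOpen 𝒜 f) (Proj.basicOpen ℬ (ψ f)) (by rfl)).hom.comp (del hf) =
      (del hf').comp ψ.toRingHom := by
    refine RingHom.ext fun a => ?_
    induction a using DirectSum.Decomposition.inductionOn 𝒜 with
    | zero => rw [map_zero, map_zero]
    | @homogeneous i a =>
      refine (ConcreteCategory.congr_hom (Proj.awayToSection_comp_appLE ψ hψ hf) _).trans ?_
      change (Proj.awayToSection ℬ (ψ f)).hom (HomogeneousLocalization.Away.map ψ f (K35.Dehom.dehom 𝒜 hf a.1)) =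
        (Proj.awayToSection ℬ (ψ f)).hom (K35.Dehom.dehom ℬ hf' (ψ a.1))
      rw [K35.Dehom.dehom_of_mem hf a.2, K35.Dehom.dehom_of_mem hf' (show ψ a.1 ∈ ℬ i from ψ.map_mem a.2)]
      rw [HomogeneousLocalization.Away.map_mk]
    | add a a' h h' => rw [map_add, map_add, h, h']
  have e2 : (secMap (Proj.map ψ hψ) (GrMod.comap ψ hψ v hv n) (Proj.basicOpen 𝒜 f) (Proj.basicOpen ℬ (ψ f))
      (by rfl)).hom.comp (dem ℳ n hf) = (dem 𝒩 n hf').comp v.toAddMonoidHom := by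
    refine DFunLike.ext _ _ fun m => ?_
    induction m using DirectSum.Decomposition.inductionOn ℳ with
    | zero => rw [map_zero, map_zero]
    | @homogeneous i m =>
      rw [AddMonoidHom.comp_apply, AddMonoidHom.comp_apply, dem_coe n hf m]
      refine Eq.trans ?_ (dem_coe n hf' ⟨v m.1, hv i m.1 m.2⟩).symm
      rw [dpiece_apply, dpiece_apply]
      refine gval_ext fun y => ?_
      refine (GrMod.locModMap_mk ψ hψ v y.1 _ _).trans ?_
      rw [gval_gfrac]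
      congr 1
      · exact (v.map_smulₛₗ _ _).trans (by rw [map_pow]; rfl)
      · exact Subtype.ext (map_pow ψ f _)
    | add a a' h h' => rw [map_add, map_add, h, h']
  have h1 := hbc.comp (isBC_dem (ℳ := 𝒩) n hf')
  rw [← e1, ← e2] at h1
  exact ((isBC_dem n hf).comp_iff (secMap_smul _ _ _ _ _)).1 h1

omit [SetLike.GradedSMul 𝒜 ℳ] [DirectSum.Decomposition ℳ] [AddSubgroupClass τ M] in
theorem exists_deg_one (hgen : (𝒜₊).toIdeal = Ideal.span (𝒜 1 : Set A)) (x : Proj 𝒜) :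
    ∃ f ∈ 𝒜 1, x ∈ Proj.basicOpen 𝒜 f := by
  by_contra hcon
  push Not at hcon
  refine x.not_irrelevant_le ?_
  intro a ha
  have ha' : a ∈ Ideal.span (𝒜 1 : Set A) := by rw [← hgen]; exact ha
  have hle : Ideal.span (𝒜 1 : Set A) ≤ x.asHomogeneousIdeal.toIdeal := by
    rw [Ideal.span_le]
    intro f hf
    have := hcon f hf
    by_contra h'
    exact this h'
  exact hle ha'

/-- The canonical morphism `Φ^* (M(n)~) ⟶ (M ⊗ B)(n)~` is an isomorphism if the source ring is generated in degree one. -/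
theorem isUniv_comap (hgen : (𝒜₊).toIdeal = Ideal.span (𝒜 1 : Set A))
    (v : M →ₛₗ[ψ.toRingHom] N) (hv : ∀ (i : ℕ) (m : M), m ∈ ℳ i → v m ∈ 𝒩 i)
    (hbc : IsBC ψ.toRingHom v.toAddMonoidHom) (n : ℤ) : IsUniv (Proj.map ψ hψ) (GrMod.comap ψ hψ v hv n) := by
  have i1 : (GrMod.tilde 𝒜 ℳ n).IsQuasicoherent := isQCoh_tilde n
  have i2 : (GrMod.tilde ℬ 𝒩 n).IsQuasicoherent := isQCoh_tilde n
  refine isUniv_of_isBC_cover _ _ fun y => ?_
  obtain ⟨f, hf, hy⟩ := exists_deg_one hgen (Proj.map ψ hψ y)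
  exact ⟨Proj.basicOpen 𝒜 f, Proj.basicOpen ℬ (ψ f), Proj.isAffineOpen_basicOpen 𝒜 f hf one_pos,
    Proj.isAffineOpen_basicOpen ℬ _ (ψ.map_mem hf) one_pos, by rfl, hy, isBC_comap ψ hψ v hv hbc n hf⟩

theorem isBC_of_existsUnique (v : M →ₛₗ[ψ.toRingHom] N)
    (hbc : ∀ (Q : Type u) [AddCommGroup Q] [Module B Q] (w : M →ₛₗ[ψ.toRingHom] Q),
      ∃! g : N →ₗ[B] Q, ∀ m : M, g (v m) = w m) : IsBC ψ.toRingHom v.toAddMonoidHom :=
  ⟨fun r x => v.map_smulₛₗ r x, fun Q _ _ t ht => hbc Q { t with map_smul' := ht }⟩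

end comap

end K40.GrDeh

end
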