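import Groth.Agent.EGA2.K34.OpenMap
import Groth.Agent.EGA2.K35.RelProjBasic
import Groth.Agent.Ega2.TensHom
import Groth.Prelude.Def_RelProj3

/-!
# Sections of a module given by compatible charts

`p : P ⟶ S`, for every affine open `U` of `S` a morphism `j U : Z U ⟶ P` with `j U ⁻¹ (p⁻¹ U) = ⊤`, a module `T U` on `Z U`
and `lam U : F ⟶ (j U)_* (T U)` bijective on the sections over the opens contained in `p⁻¹ U`.
* `sec_ext`: sections of `F` are determined by their readings;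
* `exists_sec`: a family of sections `t U` of `T U` over `j U ⁻¹ W` compatible for basic opens comes from a section of `F`
  over `W`;
* `existsUnique_hom`: compatible morphisms `F' ⟶ (j U)_* (T U)` come from a unique morphism `F' ⟶ F`.
* `tilde_sec_ext`, `tilde_exists_sec`, `twist_sec_ext`, `twist_exists_sec`: the same for `IsRelTilde` and `IsRelTwist`,
  with compatibility stated on values.
-/

set_option autoImplicit false
universe u

open CategoryTheory CategoryTheory.Limits AlgebraicGeometry TopologicalSpace Opposite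
open scoped HomogeneousIdeal

noncomputable section

namespace K40.RelSec

open K34.OpenMap
open Groth.Agent.Fdesc.LocGen hiding sec res_sec

section abs

variable {S P : Scheme.{u}} (p : P ⟶ S) {Z : ∀ U : S.Opens, IsAffineOpen U → Scheme.{u}}
  {j : ∀ (U : S.Opens) (hU : IsAffineOpen U), Z U hU ⟶ P}
  {T : ∀ (U : S.Opens) (hU : IsAffineOpen U), (Z U hU).Modules} {F : P.Modules}
  (lam : ∀ (U : S.Opens) (hU : IsAffineOpen U), F ⟶ (Scheme.Modules.pushforward (j U hU)).obj (T U hU))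

theorem cover (W : P.Opens) : W ≤ ⨆ U : S.affineOpens, W ⊓ p ⁻¹ᵁ U.1 := by
  intro x hx
  obtain ⟨U, hxU⟩ := TopologicalSpace.Opens.mem_iSup.mp ((iSup_affineOpens_eq_top S).ge (Set.mem_univ (p x)))
  exact TopologicalSpace.Opens.mem_iSup.mpr ⟨U, hx, hxU⟩

variable (hbij : ∀ (U : S.Opens) (hU : IsAffineOpen U) (W : P.Opens), W ≤ p ⁻¹ᵁ U → Function.Bijective ((lam U hU).app W))

include hbij

theorem sec_ext {W : P.Opens} {s s' : Γ(F, W)}
    (h : ∀ (U : S.Opens) (hU : IsAffineOpen U), sec (j U hU) (lam U hU) W s = sec (j U hU) (lam U hU) W s') : s = s' := by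
  refine res_ext F (fun U : S.affineOpens => W ⊓ p ⁻¹ᵁ U.1) (fun U => inf_le_left) (cover p W) fun U => ?_
  refine (hbij U.1 U.2 _ inf_le_right).1 ?_
  change sec (j U.1 U.2) (lam U.1 U.2) _ _ = sec (j U.1 U.2) (lam U.1 U.2) _ _
  rw [← res_sec, ← res_sec]
  exact congrArg _ (h U.1 U.2)

theorem exists_sec (hj : ∀ (U : S.Opens) (hU : IsAffineOpen U), j U hU ⁻¹ᵁ (p ⁻¹ᵁ U) = ⊤) (W : P.Opens)
    (t : ∀ (U : S.Opens) (hU : IsAffineOpen U), Γ(T U hU, j U hU ⁻¹ᵁ W))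
    (ht : ∀ (U : S.Opens) (hU : IsAffineOpen U) (r : Γ(S, U)) (W' : P.Opens) (hW' : W' ≤ W) (s : Γ(F, W')),
      W' ≤ p ⁻¹ᵁ (S.basicOpen r) →
      sec (j U hU) (lam U hU) W' s = res (T U hU) ((j U hU).preimage_mono hW') (t U hU) →
      sec (j (S.basicOpen r) (hU.basicOpen r)) (lam (S.basicOpen r) (hU.basicOpen r)) W' s =
        res (T (S.basicOpen r) (hU.basicOpen r)) ((j (S.basicOpen r) (hU.basicOpen r)).preimage_mono hW')
          (t (S.basicOpen r) (hU.basicOpen r))) :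
    ∃ s : Γ(F, W), ∀ (U : S.Opens) (hU : IsAffineOpen U), sec (j U hU) (lam U hU) W s = t U hU := by
  have hex : ∀ U : S.affineOpens, ∃ s : Γ(F, W ⊓ p ⁻¹ᵁ U.1), sec (j U.1 U.2) (lam U.1 U.2) _ s =
      res (T U.1 U.2) ((j U.1 U.2).preimage_mono inf_le_left) (t U.1 U.2) := fun U =>
    (hbij U.1 U.2 (W ⊓ p ⁻¹ᵁ U.1) inf_le_right).2 _
  choose σ hσ using hex
  have key : ∀ (U : S.affineOpens) (r : Γ(S, U.1)) (D : S.Opens) (hD : IsAffineOpen D), D = S.basicOpen r →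
      ∀ (W' : P.Opens) (hW' : W' ≤ W ⊓ p ⁻¹ᵁ U.1), W' ≤ p ⁻¹ᵁ D →
      sec (j D hD) (lam D hD) W' (res F hW' (σ U)) =
        res (T D hD) ((j D hD).preimage_mono (hW'.trans inf_le_left)) (t D hD) := by
    rintro U r D hD rfl W' hW' hW'D
    refine ht U.1 U.2 r W' (hW'.trans inf_le_left) _ hW'D ?_
    rw [← res_sec, hσ, res_res]
  have hcomp : ∀ U V : S.affineOpens,
      res F (inf_le_left : (W ⊓ p ⁻¹ᵁ U.1) ⊓ (W ⊓ p ⁻¹ᵁ V.1) ≤ _) (σ U) = res F inf_le_right (σ V) := by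
    intro U V
    have hB : ∀ x : ((W ⊓ p ⁻¹ᵁ U.1) ⊓ (W ⊓ p ⁻¹ᵁ V.1) : P.Opens), ∃ (f : Γ(S, U.1)) (g : Γ(S, V.1)),
        S.basicOpen f = S.basicOpen g ∧ p x.1 ∈ S.basicOpen f := fun x =>
      exists_basicOpen_le_affine_inter U.2 V.2 (p x.1) ⟨x.2.1.2, x.2.2.2⟩
    choose f g hfg hx using hB
    refine res_ext F (fun x => ((W ⊓ p ⁻¹ᵁ U.1) ⊓ (W ⊓ p ⁻¹ᵁ V.1)) ⊓ p ⁻¹ᵁ (S.basicOpen (f x))) (fun x => inf_le_left)
      (fun x hx' => TopologicalSpace.Opens.mem_iSup.mpr ⟨⟨x, hx'⟩, hx', hx ⟨x, hx'⟩⟩) fun x => ?_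
    have hD : IsAffineOpen (S.basicOpen (f x)) := U.2.basicOpen (f x)
    refine (hbij _ hD _ inf_le_right).1 ?_
    change sec (j _ hD) (lam _ hD) _ _ = sec (j _ hD) (lam _ hD) _ _
    rw [res_res, res_res, key U (f x) _ hD rfl _ _ inf_le_right, key V (g x) _ hD (hfg x) _ _ inf_le_right]
  obtain ⟨s, hs⟩ := res_glue F (fun U : S.affineOpens => W ⊓ p ⁻¹ᵁ U.1) (fun U => inf_le_left) (cover p W) σ hcomp
  refine ⟨s, fun U hU => ?_⟩
  have h1 := hσ ⟨U, hU⟩
  rw [← hs ⟨U, hU⟩, ← res_sec] at h1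
  have e : j U hU ⁻¹ᵁ (W ⊓ p ⁻¹ᵁ U) = j U hU ⁻¹ᵁ W := by
    rw [Scheme.Hom.preimage_inf, hj, inf_top_eq]
  have h2 : ∀ (V V' : (Z U hU).Opens) (hV : V = V') (h : V ≤ V') (a b : Γ(T U hU, V')),
      res (T U hU) h a = res (T U hU) h b → a = b := by
    rintro V _ rfl h a b hab
    rwa [res_refl, res_refl] at hab
  exact h2 _ _ e _ _ _ h1

/-- Compatible morphisms to the charts come from a unique morphism to `F`. -/
theorem existsUnique_hom (hj : ∀ (U : S.Opens) (hU : IsAffineOpen U), j U hU ⁻¹ᵁ (p ⁻¹ᵁ U) = ⊤) {F' : P.Modules}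
    (τ : ∀ (U : S.Opens) (hU : IsAffineOpen U), F' ⟶ (Scheme.Modules.pushforward (j U hU)).obj (T U hU))
    (hτ : ∀ (U : S.Opens) (hU : IsAffineOpen U) (r : Γ(S, U)) (W : P.Opens) (s : Γ(F, W)) (s' : Γ(F', W)),
      W ≤ p ⁻¹ᵁ (S.basicOpen r) → sec (j U hU) (lam U hU) W s = sec (j U hU) (τ U hU) W s' →
      sec (j (S.basicOpen r) (hU.basicOpen r)) (lam (S.basicOpen r) (hU.basicOpen r)) W s =
        sec (j (S.basicOpen r) (hU.basicOpen r)) (τ (S.basicOpen r) (hU.basicOpen r)) W s') :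
    ∃! θ : F' ⟶ F, ∀ (U : S.Opens) (hU : IsAffineOpen U), θ ≫ lam U hU = τ U hU := by
  have hex : ∀ (W : P.Opens) (s' : Γ(F', W)), ∃ s : Γ(F, W), ∀ (U : S.Opens) (hU : IsAffineOpen U),
      sec (j U hU) (lam U hU) W s = sec (j U hU) (τ U hU) W s' := by
    intro W s'
    refine exists_sec p lam hbij hj W (fun U hU => sec (j U hU) (τ U hU) W s') fun U hU r W' hW' s hW'D h => ?_
    rw [res_sec _ _ hW'] at h ⊢
    exact hτ U hU r W' s _ hW'D h
  choose f hf using hex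
  let g : ∀ W : P.Opens, Γ(F', W) →ₗ[Γ(P, W)] Γ(F, W) := fun W =>
    { toFun := f W
      map_add' := fun a b => sec_ext p lam hbij fun U hU => by rw [hf, map_add, map_add, hf, hf]
      map_smul' := fun c a => sec_ext p lam hbij fun U hU => by
        rw [RingHom.id_apply, hf, sec_smul, sec_smul, hf] }
  let θ : F' ⟶ F := Groth.Agent.Ega2.TensHom.homMk g (fun W V i m => by
    refine sec_ext p lam hbij fun U hU => ?_
    change sec (j U hU) (lam U hU) W (res F i.le (f V m)) = sec (j U hU) (lam U hU) W (f W (res F' i.le m))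
    rw [hf, ← res_sec, ← res_sec, hf])
  refine ⟨θ, fun U hU => ?_, fun θ' hθ' => ?_⟩
  · ext W s
    exact hf W s U hU
  · ext W s
    refine sec_ext p lam hbij fun U hU => ?_
    change _ = sec (j U hU) (lam U hU) W (f W s)
    rw [hf, ← hθ' U hU]
    rfl

/-- Compatible bilinear pairings with values in the charts come from a unique pairing with values in `F`. -/
theorem exists_pairing (hj : ∀ (U : S.Opens) (hU : IsAffineOpen U), j U hU ⁻¹ᵁ (p ⁻¹ᵁ U) = ⊤) {M N : P.Modules}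
    (μ : ∀ (U : S.Opens) (hU : IsAffineOpen U) (W : P.Opens), Γ(M, W) → Γ(N, W) → Γ(T U hU, j U hU ⁻¹ᵁ W))
    (hadd : ∀ (U : S.Opens) (hU : IsAffineOpen U) (W : P.Opens) (a b : Γ(M, W)) (n : Γ(N, W)),
      μ U hU W (a + b) n = μ U hU W a n + μ U hU W b n)
    (hadd' : ∀ (U : S.Opens) (hU : IsAffineOpen U) (W : P.Opens) (m : Γ(M, W)) (a b : Γ(N, W)),
      μ U hU W m (a + b) = μ U hU W m a + μ U hU W m b)
    (hsmul : ∀ (U : S.Opens) (hU : IsAffineOpen U) (W : P.Opens) (c : Γ(P, W)) (m : Γ(M, W)) (n : Γ(N, W)),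
      μ U hU W (c • m) n = ((j U hU).app W c : Γ(Z U hU, j U hU ⁻¹ᵁ W)) • μ U hU W m n)
    (hsmul' : ∀ (U : S.Opens) (hU : IsAffineOpen U) (W : P.Opens) (c : Γ(P, W)) (m : Γ(M, W)) (n : Γ(N, W)),
      μ U hU W m (c • n) = ((j U hU).app W c : Γ(Z U hU, j U hU ⁻¹ᵁ W)) • μ U hU W m n)
    (hres : ∀ (U : S.Opens) (hU : IsAffineOpen U) (W W' : P.Opens) (h : W' ≤ W) (m : Γ(M, W)) (n : Γ(N, W)),
      res (T U hU) ((j U hU).preimage_mono h) (μ U hU W m n) = μ U hU W' (res M h m) (res N h n))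
    (hμ : ∀ (U : S.Opens) (hU : IsAffineOpen U) (r : Γ(S, U)) (W : P.Opens) (s : Γ(F, W)) (m : Γ(M, W)) (n : Γ(N, W)),
      W ≤ p ⁻¹ᵁ (S.basicOpen r) → sec (j U hU) (lam U hU) W s = μ U hU W m n →
      sec (j (S.basicOpen r) (hU.basicOpen r)) (lam (S.basicOpen r) (hU.basicOpen r)) W s =
        μ (S.basicOpen r) (hU.basicOpen r) W m n) :
    ∃ ν : ∀ W : P.Opens, Γ(M, W) →ₗ[Γ(P, W)] Γ(N, W) →ₗ[Γ(P, W)] Γ(F, W),
      (∀ (W V : P.Opens) (i : W ⟶ V) (m : Γ(M, V)) (n : Γ(N, V)),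
        F.presheaf.map i.op (ν V m n) = ν W (M.presheaf.map i.op m) (N.presheaf.map i.op n)) ∧
      ∀ (W : P.Opens) (m : Γ(M, W)) (n : Γ(N, W)) (U : S.Opens) (hU : IsAffineOpen U),
        sec (j U hU) (lam U hU) W (ν W m n) = μ U hU W m n := by
  have hex : ∀ (W : P.Opens) (m : Γ(M, W)) (n : Γ(N, W)), ∃ s : Γ(F, W), ∀ (U : S.Opens) (hU : IsAffineOpen U),
      sec (j U hU) (lam U hU) W s = μ U hU W m n := by
    intro W m n
    refine exists_sec p lam hbij hj W (fun U hU => μ U hU W m n) fun U hU r W' hW' s hW'D h => ?_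
    rw [hres _ _ _ _ hW'] at h ⊢
    exact hμ U hU r W' s _ _ hW'D h
  choose f hf using hex
  refine ⟨fun W => LinearMap.mk₂ _ (f W) (fun a b n => ?_) (fun c m n => ?_) (fun m a b => ?_) (fun c m n => ?_), ?_, ?_⟩
  · exact sec_ext p lam hbij fun U hU => by rw [hf, map_add, hf, hf, hadd]
  · exact sec_ext p lam hbij fun U hU => by rw [hf, sec_smul, hf, hsmul]
  · exact sec_ext p lam hbij fun U hU => by rw [hf, map_add, hf, hf, hadd']
  · exact sec_ext p lam hbij fun U hU => by rw [hf, sec_smul, hf, hsmul']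
  · intro W V i m n
    refine sec_ext p lam hbij fun U hU => ?_
    change sec (j U hU) (lam U hU) W (res F i.le (f V m n)) = sec (j U hU) (lam U hU) W (f W (res M i.le m) (res N i.le n))
    rw [hf, ← res_sec, hf, hres]
  · exact hf

end abs

section rel

open RelProj

variable {S P : Scheme.{u}} {𝒮 : RelProj.QCGrAlg S} {p : P ⟶ S}
  {chart : ∀ (U : S.Opens) (hU : IsAffineOpen U), (((p ⁻¹ᵁ U : P.Opens) : Scheme.{u}) ≅ Proj (𝒮.deg U hU))}

theorem emb_comap_mem (hP : IsRelProj 𝒮 p chart) (U : S.Opens) (hU : IsAffineOpen U) (r : Γ(S, U)) (W : P.Opens)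
    (y : ProjectiveSpectrum (𝒮.deg (S.basicOpen r) (hU.basicOpen r)))
    (hy : (emb p chart (S.basicOpen r) (hU.basicOpen r)).base y ∈ W) :
    (emb p chart U hU).base (ProjectiveSpectrum.comap
      (𝒮.res hU (hU.basicOpen r) (S.basicOpen_le r)) (𝒮.irrelevant_le_map U hU r) y) ∈ W := by
  rw [← map_res_emb hP U hU r] at hy
  exact hy

section tilde

variable {ℳ : GrModule 𝒮} {n : ℤ} {F : P.Modules}
  {lam : ∀ (U : S.Opens) (hU : IsAffineOpen U),
    F ⟶ (Scheme.Modules.pushforward (emb p chart U hU)).obj (GrMod.tilde (𝒮.deg U hU) (ℳ.deg U hU) n)}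

/-- The reading of a section over a basic open is determined by its reading over `U`. -/
theorem tilde_sec_basicOpen_eq (hP : IsRelProj 𝒮 p chart) (hF : IsRelTilde 𝒮 p chart ℳ n F lam)
    (U : S.Opens) (hU : IsAffineOpen U) (r : Γ(S, U)) (W : P.Opens) (s : Γ(F, W))
    (x : Γ(GrMod.tilde (𝒮.deg U hU) (ℳ.deg U hU) n, emb p chart U hU ⁻¹ᵁ W))
    (z : Γ(GrMod.tilde (𝒮.deg (S.basicOpen r) (hU.basicOpen r)) (ℳ.deg (S.basicOpen r) (hU.basicOpen r)) n,
      emb p chart (S.basicOpen r) (hU.basicOpen r) ⁻¹ᵁ W))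
    (hz : ∀ (y : ProjectiveSpectrum (𝒮.deg (S.basicOpen r) (hU.basicOpen r)))
      (hy : (emb p chart (S.basicOpen r) (hU.basicOpen r)).base y ∈ W)
      (hy' : (emb p chart U hU).base (ProjectiveSpectrum.comap
        (𝒮.res hU (hU.basicOpen r) (S.basicOpen_le r)) (𝒮.irrelevant_le_map U hU r) y) ∈ W),
      GrMod.val (V := emb p chart (S.basicOpen r) (hU.basicOpen r) ⁻¹ᵁ W) z ⟨y, hy⟩ =
      GrMod.locModMap (𝒮.res hU (hU.basicOpen r) (S.basicOpen_le r)) (𝒮.irrelevant_le_map U hU r)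
        (ℳ.res hU (hU.basicOpen r) (S.basicOpen_le r)) y
        (GrMod.val (V := emb p chart U hU ⁻¹ᵁ W) x ⟨_, hy'⟩))
    (hx : sec (emb p chart U hU) (lam U hU) W s = x) :
    sec (emb p chart (S.basicOpen r) (hU.basicOpen r)) (lam (S.basicOpen r) (hU.basicOpen r)) W s = z := by
  refine Subtype.ext (funext fun y => Subtype.ext ?_)
  refine (hF.compat U hU r W s y.1 y.2 (emb_comap_mem hP U hU r W y.1 y.2)).trans ?_
  refine Eq.trans ?_ (hz y.1 y.2 (emb_comap_mem hP U hU r W y.1 y.2)).symm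
  rw [← hx]
  rfl

end tilde

section twist

variable {n : ℤ} {L : P.Modules}
  {lam : ∀ (U : S.Opens) (hU : IsAffineOpen U),
    L ⟶ (Scheme.Modules.pushforward (emb p chart U hU)).obj (GrTwist.twist (𝒮.deg U hU) n)}

/-- The reading of a section over a basic open is determined by its reading over `U`. -/
theorem twist_sec_basicOpen_eq (hP : IsRelProj 𝒮 p chart) (hL : IsRelTwist 𝒮 p chart n L lam)
    (U : S.Opens) (hU : IsAffineOpen U) (r : Γ(S, U)) (W : P.Opens) (s : Γ(L, W))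
    (x : Γ(GrTwist.twist (𝒮.deg U hU) n, emb p chart U hU ⁻¹ᵁ W))
    (z : Γ(GrTwist.twist (𝒮.deg (S.basicOpen r) (hU.basicOpen r)) n,
      emb p chart (S.basicOpen r) (hU.basicOpen r) ⁻¹ᵁ W))
    (hz : ∀ (y : ProjectiveSpectrum (𝒮.deg (S.basicOpen r) (hU.basicOpen r)))
      (hy : (emb p chart (S.basicOpen r) (hU.basicOpen r)).base y ∈ W)
      (hy' : (emb p chart U hU).base (ProjectiveSpectrum.comap
        (𝒮.res hU (hU.basicOpen r) (S.basicOpen_le r)) (𝒮.irrelevant_le_map U hU r) y) ∈ W),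
      GrTwist.val (V := emb p chart (S.basicOpen r) (hU.basicOpen r) ⁻¹ᵁ W) z ⟨y, hy⟩ =
      GrTwist.locMap (𝒮.res hU (hU.basicOpen r) (S.basicOpen_le r)) (𝒮.irrelevant_le_map U hU r) y
        (GrTwist.val (V := emb p chart U hU ⁻¹ᵁ W) x ⟨_, hy'⟩))
    (hx : sec (emb p chart U hU) (lam U hU) W s = x) :
    sec (emb p chart (S.basicOpen r) (hU.basicOpen r)) (lam (S.basicOpen r) (hU.basicOpen r)) W s = z := by
  refine Subtype.ext (funext fun y => Subtype.ext ?_)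
  refine (hL.compat U hU r W s y.1 y.2 (emb_comap_mem hP U hU r W y.1 y.2)).trans ?_
  refine Eq.trans ?_ (hz y.1 y.2 (emb_comap_mem hP U hU r W y.1 y.2)).symm
  rw [← hx]
  rfl

end twist

end rel

end K40.RelSec

end
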