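import Groth.Agent.EGA2.K43.GrFrac
import Groth.Prelude.Def_RelProj3

/-!
# Products of sections of `M(m)~` and `O(n)` on `Proj` of a ring graded by additive subgroups

* `powFrac f l n hn U hU` : the section `f ^ l` of `O(l d)`, `l` an integer, over an open where `f` does not vanish;
* `mulSec`: the product of a section of `O(m)` and a section of `O(n)`; `tmulSec`: the product of a section of `M(m)~`
  and a section of `O(n)`; values, (bi)additivity, (bi)linearity, compatibility with restriction;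
* `bijective_mulSec_powFrac`, `bijective_tmulSec_powFrac`: multiplication by `f ^ l` is bijective where `f` does not
  vanish.
-/

set_option autoImplicit false
universe u
open CategoryTheory AlgebraicGeometry Limits TopologicalSpace Opposite TopCat

namespace K40.GrMul

open GrTwist K43.GrFrac Groth.Agent.Fdesc.LocGen

variable {A σ : Type u} [CommRing A] [SetLike σ A] [AddSubgroupClass σ A] {𝒜 : ℕ → σ} [GradedRing 𝒜]

/-- `f ^ l` as an element of degree `l d`. -/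
def powE {d : ℕ} (f : 𝒜 d) (l : ℕ) : 𝒜 (l * d) :=
  ⟨f.1 ^ l, by simpa using SetLike.pow_mem_graded l f.2⟩

lemma powE_notMem {d : ℕ} {f : 𝒜 d} {x : ProjectiveSpectrum 𝒜} (hf : f.1 ∉ x.asHomogeneousIdeal) (l : ℕ) :
    (powE f l).1 ∉ x.asHomogeneousIdeal :=
  fun h => hf (x.isPrime.mem_of_pow_mem l h)

/-- The section `f ^ l` (`l` an integer) of `O(l d)` over an open where `f` does not vanish. -/
noncomputable def powFrac {d : ℕ} (f : 𝒜 d) (l n : ℤ) (hn : l * d = n) (U : Opens (ProjectiveSpectrum.top 𝒜))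
    (hU : ∀ x ∈ U, f.1 ∉ x.asHomogeneousIdeal) : sectN (𝒜 := 𝒜) n (op U) :=
  fracSec n (powE f l.toNat) (powE f (-l).toNat) (by
    push_cast
    rw [← hn, ← add_mul]
    congr 1
    omega) U (fun x hx => powE_notMem (hU x hx) _)

lemma isGen_powFrac {d : ℕ} (f : 𝒜 d) (l n : ℤ) (hn : l * d = n) (U : (Proj 𝒜).Opens)
    (hU : ∀ x ∈ U, f.1 ∉ x.asHomogeneousIdeal) : IsGen (M := twist 𝒜 n) (U := U) (powFrac f l n hn U hU) :=
  isGen_fracSec n _ _ _ U _ (fun x hx => powE_notMem (hU x hx) _)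

/-! ### Products of sections of twisting sheaves -/

lemma mul_mem_twistAt {m n k : ℤ} (hk : m + n = k) (x : ProjectiveSpectrum 𝒜) {p q : Loc 𝒜 x}
    (hp : p ∈ twistAt 𝒜 m x) (hq : q ∈ twistAt 𝒜 n x) : p * q ∈ twistAt 𝒜 k x := by
  have h1 : p * q ∈ twistAt 𝒜 m x * twistAt 𝒜 n x := Submodule.mul_mem_mul hp hq
  rw [twistAt, twistAt, Submodule.span_mul_span] at h1
  refine Submodule.span_mono ?_ h1
  rintro _ ⟨_, ⟨i, j, a, s, hs, hij, rfl⟩, _, ⟨i', j', a', s', hs', hij', rfl⟩, rfl⟩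
  refine ⟨i + i', j + j', ⟨a.1 * a'.1, SetLike.mul_mem_graded a.2 a'.2⟩,
    ⟨s.1 * s'.1, SetLike.mul_mem_graded s.2 s'.2⟩, fun h' => (x.isPrime.mem_or_mem h').elim hs hs', ?_, ?_⟩
  · push_cast; omega
  · dsimp only
    rw [Localization.mk_mul]
    rfl

/-- Product of sections of `O(m)` and `O(n)`. -/
noncomputable def mulSec {m n k : ℤ} (hk : m + n = k) {U : Opens (ProjectiveSpectrum.top 𝒜)}
    (s : sectN (𝒜 := 𝒜) m (op U)) (t : sectN (𝒜 := 𝒜) n (op U)) : sectN (𝒜 := 𝒜) k (op U) :=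
  ⟨fun x => ⟨(s.1 x).1 * (t.1 x).1, mul_mem_twistAt hk x.1 (s.1 x).2 (t.1 x).2⟩, fun x => by
    obtain ⟨V, hxV, e, i, j, a, r, hr, har, ha⟩ := s.2 x
    obtain ⟨V', hxV', e', i', j', a', r', hr', har', ha'⟩ := t.2 x
    refine ⟨V ⊓ V', ⟨hxV, hxV'⟩, Opens.infLELeft _ _ ≫ e, i + i', j + j',
      ⟨a.1 * a'.1, SetLike.mul_mem_graded a.2 a'.2⟩, ⟨r.1 * r'.1, SetLike.mul_mem_graded r.2 r'.2⟩,
      fun y h' => (y.1.isPrime.mem_or_mem h').elim (hr ⟨y.1, y.2.1⟩) (hr' ⟨y.1, y.2.2⟩), ?_, fun y => ?_⟩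
    · rcases har with har | har
      · rcases har' with har' | har'
        · left; push_cast; omega
        · right; change a.1 * a'.1 = 0; rw [har', mul_zero]
      · right; change a.1 * a'.1 = 0; rw [har, zero_mul]
    · have h1 := ha ⟨y.1, y.2.1⟩
      have h2 := ha' ⟨y.1, y.2.2⟩
      refine (congrArg₂ (· * ·) h1 h2).trans ?_
      dsimp only
      rw [Localization.mk_mul]
      rfl⟩

@[simp] lemma mulSec_val {m n k : ℤ} (hk : m + n = k) {U : Opens (ProjectiveSpectrum.top 𝒜)}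
    (s : sectN (𝒜 := 𝒜) m (op U)) (t : sectN (𝒜 := 𝒜) n (op U)) (x : U) :
    ((mulSec hk s t).1 x).1 = (s.1 x).1 * (t.1 x).1 := rfl

lemma mulSec_add_left {m n k : ℤ} (hk : m + n = k) {U : Opens (ProjectiveSpectrum.top 𝒜)}
    (s s' : sectN (𝒜 := 𝒜) m (op U)) (t : sectN (𝒜 := 𝒜) n (op U)) :
    mulSec hk (s + s') t = mulSec hk s t + mulSec hk s' t := by
  refine Subtype.ext (funext fun x => Subtype.ext ?_)
  exact add_mul (s.1 x).1 (s'.1 x).1 (t.1 x).1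

lemma mulSec_add_right {m n k : ℤ} (hk : m + n = k) {U : Opens (ProjectiveSpectrum.top 𝒜)}
    (s : sectN (𝒜 := 𝒜) m (op U)) (t t' : sectN (𝒜 := 𝒜) n (op U)) :
    mulSec hk s (t + t') = mulSec hk s t + mulSec hk s t' := by
  refine Subtype.ext (funext fun x => Subtype.ext ?_)
  exact mul_add (s.1 x).1 (t.1 x).1 (t'.1 x).1

lemma mulSec_smul_left {m n k : ℤ} (hk : m + n = k) {U : Opens (ProjectiveSpectrum.top 𝒜)}
    (c : O (𝒜 := 𝒜) (op U)) (s : sectN (𝒜 := 𝒜) m (op U)) (t : sectN (𝒜 := 𝒜) n (op U)) :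
    mulSec hk (smulS m c s) t = smulS k c (mulSec hk s t) := by
  refine Subtype.ext (funext fun x => Subtype.ext ?_)
  rw [mulSec_val, smulS_val, smulS_val, mulSec_val, mul_assoc]

lemma mulSec_smul_right {m n k : ℤ} (hk : m + n = k) {U : Opens (ProjectiveSpectrum.top 𝒜)}
    (c : O (𝒜 := 𝒜) (op U)) (s : sectN (𝒜 := 𝒜) m (op U)) (t : sectN (𝒜 := 𝒜) n (op U)) :
    mulSec hk s (smulS n c t) = smulS k c (mulSec hk s t) := by
  refine Subtype.ext (funext fun x => Subtype.ext ?_)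
  rw [mulSec_val, smulS_val, smulS_val, mulSec_val, mul_left_comm]

/-- The product of sections, on the sections of the modules `twist`. -/
noncomputable def mulΓ {m n k : ℤ} (hk : m + n = k) (U : (Proj 𝒜).Opens) (s : Γ(twist 𝒜 m, U)) (t : Γ(twist 𝒜 n, U)) :
    Γ(twist 𝒜 k, U) := mulSec (𝒜 := 𝒜) (U := U) hk s t

section mulΓ

variable {m n k : ℤ} (hk : m + n = k) (U : (Proj 𝒜).Opens)

theorem val_mulΓ (s : Γ(twist 𝒜 m, U)) (t : Γ(twist 𝒜 n, U)) (y : U) :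
    val (mulΓ hk U s t) y = val s y * val t y := rfl

theorem mulΓ_add_left (s s' : Γ(twist 𝒜 m, U)) (t : Γ(twist 𝒜 n, U)) :
    mulΓ hk U (s + s') t = mulΓ hk U s t + mulΓ hk U s' t := mulSec_add_left (U := U) hk s s' t

theorem mulΓ_add_right (s : Γ(twist 𝒜 m, U)) (t t' : Γ(twist 𝒜 n, U)) :
    mulΓ hk U s (t + t') = mulΓ hk U s t + mulΓ hk U s t' := mulSec_add_right (U := U) hk s t t'

theorem mulΓ_smul_left (c : Γ(Proj 𝒜, U)) (s : Γ(twist 𝒜 m, U)) (t : Γ(twist 𝒜 n, U)) :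
    mulΓ hk U (c • s) t = c • mulΓ hk U s t := mulSec_smul_left (U := U) hk c s t

theorem mulΓ_smul_right (c : Γ(Proj 𝒜, U)) (s : Γ(twist 𝒜 m, U)) (t : Γ(twist 𝒜 n, U)) :
    mulΓ hk U s (c • t) = c • mulΓ hk U s t := mulSec_smul_right (U := U) hk c s t

theorem res_mulΓ {V : (Proj 𝒜).Opens} (h : V ≤ U) (s : Γ(twist 𝒜 m, U)) (t : Γ(twist 𝒜 n, U)) :
    res (twist 𝒜 k) h (mulΓ hk U s t) = mulΓ hk V (res (twist 𝒜 m) h s) (res (twist 𝒜 n) h t) := rfl

end mulΓ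

/-- Multiplication by an invertible fraction is bijective. -/
theorem bijective_mulΓ_frac {m n k : ℤ} (hk : m + n = k) {i j : ℕ} (a : 𝒜 i) (s : 𝒜 j) (h : (i : ℤ) = j + n)
    (U : (Proj 𝒜).Opens) (hU : ∀ x ∈ U, s.1 ∉ x.asHomogeneousIdeal)
    (hU' : ∀ x ∈ U, a.1 ∉ x.asHomogeneousIdeal) :
    Function.Bijective (fun t : Γ(twist 𝒜 m, U) => mulΓ hk U t (fracSec n a s h U hU : Γ(twist 𝒜 n, U))) := by
  have key : ∀ x : U, (Localization.mk a.1 ⟨s.1, hU x.1 x.2⟩ : Loc 𝒜 x.1) * Localization.mk s.1 ⟨a.1, hU' x.1 x.2⟩ = 1 := by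
    intro x
    rw [Localization.mk_mul, ← Localization.mk_one, Localization.mk_eq_mk_iff, Localization.r_iff_exists]
    refine ⟨1, ?_⟩
    simp only [OneMemClass.coe_one, one_mul, mul_one, Submonoid.coe_mul]
    ring
  constructor
  · intro t t' htt
    refine Subtype.ext (funext fun x => Subtype.ext ?_)
    have h1 := congrArg (fun z : sectN (𝒜 := 𝒜) k (op U) => (z.1 x).1) htt
    have h2 := congrArg (fun z : Loc 𝒜 x.1 => z * (Localization.mk s.1 ⟨a.1, hU' x.1 x.2⟩ : Loc 𝒜 x.1)) h1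
    change val t x * (Localization.mk a.1 ⟨s.1, hU x.1 x.2⟩ : Loc 𝒜 x.1) * _ =
      val t' x * (Localization.mk a.1 ⟨s.1, hU x.1 x.2⟩ : Loc 𝒜 x.1) * _ at h2
    rw [mul_assoc, mul_assoc, key, mul_one, mul_one] at h2
    exact h2
  · intro t
    refine ⟨mulΓ (show k + (-n) = m by omega) U t (fracSec (-n) s a (by omega) U hU' : Γ(twist 𝒜 (-n), U)), ?_⟩
    refine Subtype.ext (funext fun x => Subtype.ext ?_)
    change val t x * (Localization.mk s.1 ⟨a.1, hU' x.1 x.2⟩ : Loc 𝒜 x.1) *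
      (Localization.mk a.1 ⟨s.1, hU x.1 x.2⟩ : Loc 𝒜 x.1) = val t x
    rw [mul_assoc, mul_comm (Localization.mk s.1 _ : Loc 𝒜 x.1), key, mul_one]

theorem bijective_mulΓ_powFrac {d : ℕ} {m n k : ℤ} (hk : m + n = k) (f : 𝒜 d) (l : ℤ) (hn : l * d = n)
    (U : (Proj 𝒜).Opens) (hU : ∀ x ∈ U, f.1 ∉ x.asHomogeneousIdeal) :
    Function.Bijective (fun t : Γ(twist 𝒜 m, U) => mulΓ hk U t (powFrac f l n hn U hU : Γ(twist 𝒜 n, U))) :=
  bijective_mulΓ_frac hk _ _ _ U _ (fun x hx => powE_notMem (hU x hx) _)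

/-! ### Products of sections of `M(m)~` and `O(n)` -/

section tmul

variable {M τ : Type u} [AddCommGroup M] [Module A M] [SetLike τ M] [AddSubgroupClass τ M] {ℳ : ℕ → τ}
  [SetLike.GradedSMul 𝒜 ℳ]

omit [AddSubgroupClass τ M] in
theorem smul_mem_tildeAt {m n k : ℤ} (hk : m + n = k) (x : ProjectiveSpectrum 𝒜) {p : GrMod.LocMod 𝒜 (M := M) x}
    {q : Loc 𝒜 x} (hp : p ∈ GrMod.tildeAt 𝒜 ℳ m x) (hq : q ∈ twistAt 𝒜 n x) :
    q • p ∈ GrMod.tildeAt 𝒜 ℳ k x := by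
  induction hp using Submodule.span_induction with
  | zero => rw [smul_zero]; exact zero_mem _
  | add p p' _ _ hp hp' => rw [smul_add]; exact add_mem hp hp'
  | smul c p _ hp =>
    have : q • c • p = c • q • p := by
      rw [GrMod.a0_smul_def, GrMod.a0_smul_def, smul_smul, smul_smul, mul_comm]
    rw [this]
    exact Submodule.smul_mem _ _ hp
  | mem p hp =>
    obtain ⟨i, j, a, s, hs, hij, rfl⟩ := hp
    induction hq using Submodule.span_induction with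
    | zero => rw [zero_smul]; exact zero_mem _
    | add q q' _ _ hq hq' => rw [add_smul]; exact add_mem hq hq'
    | smul c q _ hq =>
      have : (c • q) • (LocalizedModule.mk a.1 ⟨s.1, hs⟩ : GrMod.LocMod 𝒜 (M := M) x) =
          c • q • (LocalizedModule.mk a.1 ⟨s.1, hs⟩ : GrMod.LocMod 𝒜 (M := M) x) := by
        rw [GrMod.a0_smul_def, Algebra.smul_def, mul_smul]
        rfl
      rw [this]
      exact Submodule.smul_mem _ _ hq
    | mem q hq =>
      obtain ⟨i', j', a', s', hs', hij', rfl⟩ := hq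
      refine Submodule.subset_span ⟨i' + i, j' + j, ⟨a'.1 • a.1, SetLike.GradedSMul.smul_mem a'.2 a.2⟩,
        ⟨s'.1 * s.1, SetLike.mul_mem_graded s'.2 s.2⟩, fun h' => (x.isPrime.mem_or_mem h').elim hs' hs, ?_, ?_⟩
      · push_cast; omega
      · exact LocalizedModule.mk_smul_mk _ _ _ _

/-- Product of a section of `M(m)~` and a section of `O(n)`. -/
noncomputable def tmulSec {m n k : ℤ} (hk : m + n = k) {U : Opens (ProjectiveSpectrum.top 𝒜)}
    (s : GrMod.sect 𝒜 ℳ m (op U)) (t : sectN (𝒜 := 𝒜) n (op U)) : GrMod.sect 𝒜 ℳ k (op U) :=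
  ⟨fun x => ⟨(t.1 x).1 • (s.1 x).1, smul_mem_tildeAt hk x.1 (s.1 x).2 (t.1 x).2⟩, fun x => by
    obtain ⟨V, hxV, e, i, j, a, r, hr, har, ha⟩ := s.2 x
    obtain ⟨V', hxV', e', i', j', a', r', hr', har', ha'⟩ := t.2 x
    refine ⟨V ⊓ V', ⟨hxV, hxV'⟩, Opens.infLELeft _ _ ≫ e, i' + i, j' + j,
      ⟨a'.1 • a.1, SetLike.GradedSMul.smul_mem a'.2 a.2⟩, ⟨r'.1 * r.1, SetLike.mul_mem_graded r'.2 r.2⟩,
      fun y h' => (y.1.isPrime.mem_or_mem h').elim (hr' ⟨y.1, y.2.2⟩) (hr ⟨y.1, y.2.1⟩), ?_, fun y => ?_⟩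
    · rcases har with har | har
      · rcases har' with har' | har'
        · left; push_cast; omega
        · right; change a'.1 • a.1 = 0; rw [har', zero_smul]
      · right; change a'.1 • a.1 = 0; rw [har, smul_zero]
    · have h1 := ha ⟨y.1, y.2.1⟩
      have h2 := ha' ⟨y.1, y.2.2⟩
      refine (congrArg₂ (fun (q : Loc 𝒜 y.1) (p : GrMod.LocMod 𝒜 (M := M) y.1) => q • p) h2 h1).trans ?_
      exact LocalizedModule.mk_smul_mk _ _ _ _⟩

@[simp] lemma tmulSec_val {m n k : ℤ} (hk : m + n = k) {U : Opens (ProjectiveSpectrum.top 𝒜)}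
    (s : GrMod.sect 𝒜 ℳ m (op U)) (t : sectN (𝒜 := 𝒜) n (op U)) (x : U) :
    ((tmulSec hk s t).1 x).1 = (t.1 x).1 • (s.1 x).1 := rfl

/-- The product of sections, on the sections of the modules `tilde` and `twist`. -/
noncomputable def tmulΓ {m n k : ℤ} (hk : m + n = k) (U : (Proj 𝒜).Opens) (s : Γ(GrMod.tilde 𝒜 ℳ m, U))
    (t : Γ(twist 𝒜 n, U)) : Γ(GrMod.tilde 𝒜 ℳ k, U) := tmulSec (𝒜 := 𝒜) (ℳ := ℳ) (U := U) hk s t

variable {m n k : ℤ} (hk : m + n = k) (U : (Proj 𝒜).Opens)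

theorem val_tmulΓ (s : Γ(GrMod.tilde 𝒜 ℳ m, U)) (t : Γ(twist 𝒜 n, U)) (y : U) :
    GrMod.val (tmulΓ hk U s t) y = val t y • GrMod.val s y := rfl

theorem tmulΓ_add_left (s s' : Γ(GrMod.tilde 𝒜 ℳ m, U)) (t : Γ(twist 𝒜 n, U)) :
    tmulΓ hk U (s + s') t = tmulΓ hk U s t + tmulΓ hk U s' t :=
  Subtype.ext (funext fun x => Subtype.ext (smul_add (val t x) (GrMod.val s x) (GrMod.val s' x)))

theorem tmulΓ_add_right (s : Γ(GrMod.tilde 𝒜 ℳ m, U)) (t t' : Γ(twist 𝒜 n, U)) :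
    tmulΓ hk U s (t + t') = tmulΓ hk U s t + tmulΓ hk U s t' :=
  Subtype.ext (funext fun x => Subtype.ext (add_smul (val t x) (val t' x) (GrMod.val s x)))

/-- Scalar multiplication of sections of `M(m)~` (a helper for elaboration). -/
noncomputable def gsmulS (m : ℤ) {U : Opens (ProjectiveSpectrum.top 𝒜)} (c : O (𝒜 := 𝒜) (op U))
    (s : GrMod.sect 𝒜 ℳ m (op U)) : GrMod.sect 𝒜 ℳ m (op U) := c • s

lemma gsmulS_val (m : ℤ) {U : Opens (ProjectiveSpectrum.top 𝒜)} (c : O (𝒜 := 𝒜) (op U))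
    (s : GrMod.sect 𝒜 ℳ m (op U)) (x : U) :
    (((gsmulS m c s).1 x).1 : GrMod.LocMod 𝒜 (M := M) x.1) = (c.1 x).val • (s.1 x).1 := rfl

theorem tmulΓ_smul_left (c : Γ(Proj 𝒜, U)) (s : Γ(GrMod.tilde 𝒜 ℳ m, U)) (t : Γ(twist 𝒜 n, U)) :
    tmulΓ hk U (c • s) t = c • tmulΓ hk U s t := by
  change tmulSec (U := U) hk (gsmulS m (U := U) c s) t = gsmulS k (U := U) c (tmulSec (U := U) hk s t)
  refine Subtype.ext (funext fun x => Subtype.ext ?_)
  rw [tmulSec_val, gsmulS_val, gsmulS_val, tmulSec_val, smul_smul, smul_smul, mul_comm]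

theorem tmulΓ_smul_right (c : Γ(Proj 𝒜, U)) (s : Γ(GrMod.tilde 𝒜 ℳ m, U)) (t : Γ(twist 𝒜 n, U)) :
    tmulΓ hk U s (c • t) = c • tmulΓ hk U s t := by
  change tmulSec (U := U) hk s (smulS n (U := U) c t) = gsmulS k (U := U) c (tmulSec (U := U) hk s t)
  refine Subtype.ext (funext fun x => Subtype.ext ?_)
  rw [tmulSec_val, smulS_val, gsmulS_val, tmulSec_val, smul_smul]

theorem res_tmulΓ {V : (Proj 𝒜).Opens} (h : V ≤ U) (s : Γ(GrMod.tilde 𝒜 ℳ m, U)) (t : Γ(twist 𝒜 n, U)) :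
    res (GrMod.tilde 𝒜 ℳ k) h (tmulΓ hk U s t) =
      tmulΓ hk V (res (GrMod.tilde 𝒜 ℳ m) h s) (res (twist 𝒜 n) h t) := rfl

/-- Multiplication by an invertible fraction is bijective. -/
theorem bijective_tmulΓ_frac {i j : ℕ} (a : 𝒜 i) (s : 𝒜 j) (h : (i : ℤ) = j + n)
    (hU : ∀ x ∈ U, s.1 ∉ x.asHomogeneousIdeal) (hU' : ∀ x ∈ U, a.1 ∉ x.asHomogeneousIdeal) :
    Function.Bijective (fun t : Γ(GrMod.tilde 𝒜 ℳ m, U) =>
      tmulΓ hk U t (fracSec n a s h U hU : Γ(twist 𝒜 n, U))) := by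
  have key : ∀ x : U, (Localization.mk s.1 ⟨a.1, hU' x.1 x.2⟩ : Loc 𝒜 x.1) * Localization.mk a.1 ⟨s.1, hU x.1 x.2⟩ = 1 := by
    intro x
    rw [Localization.mk_mul, ← Localization.mk_one, Localization.mk_eq_mk_iff, Localization.r_iff_exists]
    refine ⟨1, ?_⟩
    simp only [OneMemClass.coe_one, one_mul, mul_one, Submonoid.coe_mul]
    ring
  constructor
  · intro t t' htt
    refine Subtype.ext (funext fun x => Subtype.ext ?_)
    have h1 := congrArg (fun z : GrMod.sect 𝒜 ℳ k (op U) => (z.1 x).1) htt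
    have h2 := congrArg (fun z : GrMod.LocMod 𝒜 (M := M) x.1 =>
      (Localization.mk s.1 ⟨a.1, hU' x.1 x.2⟩ : Loc 𝒜 x.1) • z) h1
    change _ • (Localization.mk a.1 ⟨s.1, hU x.1 x.2⟩ : Loc 𝒜 x.1) • GrMod.val t x =
      _ • (Localization.mk a.1 ⟨s.1, hU x.1 x.2⟩ : Loc 𝒜 x.1) • GrMod.val t' x at h2
    rwa [smul_smul, smul_smul, key, one_smul, one_smul] at h2
  · intro t
    refine ⟨tmulΓ (show k + (-n) = m by omega) U t (fracSec (-n) s a (by omega) U hU' : Γ(twist 𝒜 (-n), U)), ?_⟩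
    refine Subtype.ext (funext fun x => Subtype.ext ?_)
    change (Localization.mk a.1 ⟨s.1, hU x.1 x.2⟩ : Loc 𝒜 x.1) •
      (Localization.mk s.1 ⟨a.1, hU' x.1 x.2⟩ : Loc 𝒜 x.1) • GrMod.val t x = GrMod.val t x
    rw [smul_smul, mul_comm (Localization.mk a.1 _ : Loc 𝒜 x.1), key, one_smul]

theorem bijective_tmulΓ_powFrac {d : ℕ} (f : 𝒜 d) (l : ℤ) (hn : l * d = n)
    (hU : ∀ x ∈ U, f.1 ∉ x.asHomogeneousIdeal) :
    Function.Bijective (fun t : Γ(GrMod.tilde 𝒜 ℳ m, U) =>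
      tmulΓ hk U t (powFrac f l n hn U hU : Γ(twist 𝒜 n, U))) :=
  bijective_tmulΓ_frac hk U _ _ _ _ (fun x hx => powE_notMem (hU x hx) _)

end tmul

end K40.GrMul
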