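import Groth.Agent.EGA2.K40.RelSec
import Groth.Agent.EGA2.K40.GrMul
import Groth.Agent.EGA2.K35.Dehom
import Groth.Agent.EGA2.K31.TildeMul
import Groth.Agent.EGA2.K42.DomQ

/-!
# Products on a relative Proj: `(ℳ(m))~ ⊗ O(n) ⟶ (ℳ(m + n))~`

* `exists_powFrac`: over `W ≤ p⁻¹ U` where `f ∈ 𝒮(U)_d` does not vanish, `O_P(l d)` has the generator `f ^ l`;
* `exists_cover_degOne`: for `𝒮` generated in degree one, the loci of the `f ∈ 𝒮(U)_1` cover;
* `exists_mul`: the pairing `O_P(m) × O_P(n) → O_P(m + n)`; `exists_tmul`: `(ℳ(m))~ × O_P(n) → (ℳ(m + n))~`.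
-/

set_option autoImplicit false
universe u

open CategoryTheory CategoryTheory.Limits AlgebraicGeometry TopologicalSpace Opposite
open scoped HomogeneousIdeal

noncomputable section

namespace K40.RelMul

open K34.OpenMap K40.RelSec K40.GrMul RelProj
open Groth.Agent.Fdesc.LocGen hiding sec res_sec

variable {S P : Scheme.{u}} {𝒮 : RelProj.QCGrAlg S} {p : P ⟶ S}
  {chart : ∀ (U : S.Opens) (hU : IsAffineOpen U), (((p ⁻¹ᵁ U : P.Opens) : Scheme.{u}) ≅ Proj (𝒮.deg U hU))}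

section gen

variable {n : ℤ} {L : P.Modules}
  {lam : ∀ (U : S.Opens) (hU : IsAffineOpen U),
    L ⟶ (Scheme.Modules.pushforward (emb p chart U hU)).obj (GrTwist.twist (𝒮.deg U hU) n)}

theorem isGen_sec_iff (hL : IsRelTwist 𝒮 p chart n L lam) (U : S.Opens) (hU : IsAffineOpen U) {W : P.Opens}
    (hW : W ≤ p ⁻¹ᵁ U) (e : Γ(L, W)) : IsGen (sec (emb p chart U hU) (lam U hU) W e) ↔ IsGen e :=
  isGen_iff _ _ (fun W' hW' => hL.bijective U hU W' (by rwa [K35.RelProjBasic.opensRange_emb] at hW'))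
    (by rwa [K35.RelProjBasic.opensRange_emb]) e

/-- Over an open of `p⁻¹ U` where `f ∈ 𝒮(U)_d` does not vanish, `O_P(l d)` has the generator `f ^ l`. -/
theorem exists_powFrac (hL : IsRelTwist 𝒮 p chart n L lam) (U : S.Opens) (hU : IsAffineOpen U) {d : ℕ}
    (f : 𝒮.deg U hU d) (l : ℤ) (hn : l * d = n) (W : P.Opens) (hWU : W ≤ p ⁻¹ᵁ U)
    (hW : ∀ y ∈ emb p chart U hU ⁻¹ᵁ W, f.1 ∉ (y : ProjectiveSpectrum (𝒮.deg U hU)).asHomogeneousIdeal) :
    ∃ e : Γ(L, W), sec (emb p chart U hU) (lam U hU) W e = powFrac f l n hn (emb p chart U hU ⁻¹ᵁ W) hW ∧ IsGen e := by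
  obtain ⟨e, he⟩ := (hL.bijective U hU W hWU).2 (powFrac f l n hn (emb p chart U hU ⁻¹ᵁ W) hW)
  refine ⟨e, he, (isGen_sec_iff hL U hU hWU e).1 ?_⟩
  have h : sec (emb p chart U hU) (lam U hU) W e = powFrac f l n hn (emb p chart U hU ⁻¹ᵁ W) hW := he
  rw [h]
  exact isGen_powFrac f l n hn _ hW

end gen

/-- Around every point of `P` there is an open `W ≤ p⁻¹ U` on which a homogeneous element of positive degree does not vanish. -/
theorem exists_notMem (x : P) : ∃ (U : S.Opens) (hU : IsAffineOpen U) (d : ℕ) (f : 𝒮.deg U hU d) (W : P.Opens),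
    0 < d ∧ x ∈ W ∧ W ≤ p ⁻¹ᵁ U ∧
      ∀ y ∈ emb p chart U hU ⁻¹ᵁ W, f.1 ∉ (y : ProjectiveSpectrum (𝒮.deg U hU)).asHomogeneousIdeal := by
  obtain ⟨U, hU, z, rfl⟩ := K35.RelProjBasic.exists_emb (chart := chart) x
  obtain ⟨d, hd, f, hf, hfz⟩ := K42.DomQ.exists_notMem z
  refine ⟨U, hU, d, ⟨f, hf⟩, emb p chart U hU ''ᵁ Proj.basicOpen (𝒮.deg U hU) f, hd, ⟨z, hfz, rfl⟩, ?_, ?_⟩
  · rw [← K35.RelProjBasic.opensRange_emb (chart := chart) U hU]
    exact Scheme.Hom.image_le_opensRange _ _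
  · intro y hy
    rw [Scheme.Hom.preimage_image_eq] at hy
    exact hy

/-- Around every point of `P` there is an open `W ≤ p⁻¹ U` on which an element of degree one does not vanish. -/
theorem exists_degOne (hgen : 𝒮.IsGenDegOne) (x : P) :
    ∃ (U : S.Opens) (hU : IsAffineOpen U) (f : 𝒮.deg U hU 1) (W : P.Opens),
    x ∈ W ∧ W ≤ p ⁻¹ᵁ U ∧
      ∀ y ∈ emb p chart U hU ⁻¹ᵁ W, f.1 ∉ (y : ProjectiveSpectrum (𝒮.deg U hU)).asHomogeneousIdeal := by
  obtain ⟨U, hU, z, rfl⟩ := K35.RelProjBasic.exists_emb (chart := chart) x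
  have h1 := K35.Dehom.irrelevant_le_span (hgen U hU)
  obtain ⟨f, hf⟩ : ∃ f : 𝒮.deg U hU 1, f.1 ∉ (z : ProjectiveSpectrum (𝒮.deg U hU)).asHomogeneousIdeal := by
    by_contra h
    push Not at h
    refine (z : ProjectiveSpectrum (𝒮.deg U hU)).not_irrelevant_le ?_
    exact h1.trans (Ideal.span_le.2 fun a ha => h ⟨a, ha⟩)
  refine ⟨U, hU, f, emb p chart U hU ''ᵁ Proj.basicOpen (𝒮.deg U hU) f.1, ⟨z, hf, rfl⟩, ?_, ?_⟩
  · rw [← K35.RelProjBasic.opensRange_emb (chart := chart) U hU]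
    exact Scheme.Hom.image_le_opensRange _ _
  · intro y hy
    rw [Scheme.Hom.preimage_image_eq] at hy
    exact hy

section mul

variable {m n k : ℤ} {L L' L'' : P.Modules}
  {lam : ∀ (U : S.Opens) (hU : IsAffineOpen U),
    L ⟶ (Scheme.Modules.pushforward (emb p chart U hU)).obj (GrTwist.twist (𝒮.deg U hU) m)}
  {lam' : ∀ (U : S.Opens) (hU : IsAffineOpen U),
    L' ⟶ (Scheme.Modules.pushforward (emb p chart U hU)).obj (GrTwist.twist (𝒮.deg U hU) n)}
  {lam'' : ∀ (U : S.Opens) (hU : IsAffineOpen U),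
    L'' ⟶ (Scheme.Modules.pushforward (emb p chart U hU)).obj (GrTwist.twist (𝒮.deg U hU) k)}

/-- The pairing `O_P(m) × O_P(n) → O_P(m + n)`. -/
theorem exists_mul (hP : IsRelProj 𝒮 p chart) (hk : m + n = k) (hL : IsRelTwist 𝒮 p chart m L lam)
    (hL' : IsRelTwist 𝒮 p chart n L' lam') (hL'' : IsRelTwist 𝒮 p chart k L'' lam'') :
    ∃ ν : ∀ W : P.Opens, Γ(L, W) →ₗ[Γ(P, W)] Γ(L', W) →ₗ[Γ(P, W)] Γ(L'', W),
      (∀ (W V : P.Opens) (i : W ⟶ V) (m : Γ(L, V)) (n : Γ(L', V)),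
        L''.presheaf.map i.op (ν V m n) = ν W (L.presheaf.map i.op m) (L'.presheaf.map i.op n)) ∧
      ∀ (W : P.Opens) (a : Γ(L, W)) (b : Γ(L', W)) (U : S.Opens) (hU : IsAffineOpen U),
        sec (emb p chart U hU) (lam'' U hU) W (ν W a b) =
          mulΓ hk (emb p chart U hU ⁻¹ᵁ W) (sec (emb p chart U hU) (lam U hU) W a)
            (sec (emb p chart U hU) (lam' U hU) W b) := by
  refine exists_pairing p lam'' hL''.bijective (fun U hU => K35.RelProjBasic.emb_preimage U hU)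
    (fun U hU W a b => mulΓ hk (emb p chart U hU ⁻¹ᵁ W) (sec (emb p chart U hU) (lam U hU) W a)
            (sec (emb p chart U hU) (lam' U hU) W b)) ?_ ?_ ?_ ?_ ?_ ?_
  · intro U hU W a b c
    rw [map_add, mulΓ_add_left]
  · intro U hU W a b c
    rw [map_add, mulΓ_add_right]
  · intro U hU W c a b
    rw [sec_smul, mulΓ_smul_left]
  · intro U hU W c a b
    rw [sec_smul, mulΓ_smul_right]
  · intro U hU W W' h a b
    rw [res_mulΓ, res_sec, res_sec]
  · intro U hU r W s a b hW hs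
    refine twist_sec_basicOpen_eq hP hL'' U hU r W s _ _ (fun y hy hy' => ?_) hs
    refine (val_mulΓ hk _ _ _ _).trans ?_
    refine Eq.trans ?_ (congrArg _ (val_mulΓ hk _ _ _ _)).symm
    rw [map_mul]
    exact congrArg₂ (· * ·) (hL.compat U hU r W a y hy hy') (hL'.compat U hU r W b y hy hy')

/-- Multiplication by `f ^ l` is bijective for the pairing of sections. -/
theorem bijective_mul (hL : IsRelTwist 𝒮 p chart m L lam) (hL'' : IsRelTwist 𝒮 p chart k L'' lam'')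
    (hk : m + n = k) (ν : ∀ W : P.Opens, Γ(L, W) →ₗ[Γ(P, W)] Γ(L', W) →ₗ[Γ(P, W)] Γ(L'', W))
    (hν : ∀ (W : P.Opens) (a : Γ(L, W)) (b : Γ(L', W)) (U : S.Opens) (hU : IsAffineOpen U),
        sec (emb p chart U hU) (lam'' U hU) W (ν W a b) =
          mulΓ hk (emb p chart U hU ⁻¹ᵁ W) (sec (emb p chart U hU) (lam U hU) W a)
            (sec (emb p chart U hU) (lam' U hU) W b))
    (U : S.Opens) (hU : IsAffineOpen U) {d : ℕ} (f : 𝒮.deg U hU d) (l : ℤ) (hn : l * d = n) (W : P.Opens)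
    (hWU : W ≤ p ⁻¹ᵁ U)
    (hW : ∀ y ∈ emb p chart U hU ⁻¹ᵁ W, f.1 ∉ (y : ProjectiveSpectrum (𝒮.deg U hU)).asHomogeneousIdeal)
    (e : Γ(L', W)) (he : sec (emb p chart U hU) (lam' U hU) W e = powFrac f l n hn (emb p chart U hU ⁻¹ᵁ W) hW) :
    Function.Bijective (fun a : Γ(L, W) => ν W a e) := by
  have h1 := bijective_mulΓ_powFrac hk f l hn (emb p chart U hU ⁻¹ᵁ W) hW
  have h2 : Function.Bijective (sec (emb p chart U hU) (lam U hU) W) := hL.bijective U hU W hWU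
  have h3 : Function.Bijective (sec (emb p chart U hU) (lam'' U hU) W) := hL''.bijective U hU W hWU
  have h4 : Function.Bijective (sec (emb p chart U hU) (lam'' U hU) W ∘ fun a : Γ(L, W) => ν W a e) := by
    have h5 : (sec (emb p chart U hU) (lam'' U hU) W ∘ fun a : Γ(L, W) => ν W a e) =
        (fun t => mulΓ hk (emb p chart U hU ⁻¹ᵁ W) t (powFrac f l n hn (emb p chart U hU ⁻¹ᵁ W) hW)) ∘
          sec (emb p chart U hU) (lam U hU) W := by
      funext a
      simp only [Function.comp_apply]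
      rw [hν, he]
    rw [h5]
    exact h1.comp h2
  exact (Function.Bijective.of_comp_iff' h3 _).1 h4

end mul

section tmul

variable {ℳ : GrModule 𝒮} {m n k : ℤ} {F L F' : P.Modules}
  {lam : ∀ (U : S.Opens) (hU : IsAffineOpen U),
    F ⟶ (Scheme.Modules.pushforward (emb p chart U hU)).obj (GrMod.tilde (𝒮.deg U hU) (ℳ.deg U hU) m)}
  {lam' : ∀ (U : S.Opens) (hU : IsAffineOpen U),
    L ⟶ (Scheme.Modules.pushforward (emb p chart U hU)).obj (GrTwist.twist (𝒮.deg U hU) n)}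
  {lam'' : ∀ (U : S.Opens) (hU : IsAffineOpen U),
    F' ⟶ (Scheme.Modules.pushforward (emb p chart U hU)).obj (GrMod.tilde (𝒮.deg U hU) (ℳ.deg U hU) k)}

/-- The pairing `(ℳ(m))~ × O_P(n) → (ℳ(m + n))~`. -/
theorem exists_tmul (hP : IsRelProj 𝒮 p chart) (hk : m + n = k) (hF : IsRelTilde 𝒮 p chart ℳ m F lam)
    (hL : IsRelTwist 𝒮 p chart n L lam') (hF' : IsRelTilde 𝒮 p chart ℳ k F' lam'') :
    ∃ ν : ∀ W : P.Opens, Γ(F, W) →ₗ[Γ(P, W)] Γ(L, W) →ₗ[Γ(P, W)] Γ(F', W),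
      (∀ (W V : P.Opens) (i : W ⟶ V) (m : Γ(F, V)) (n : Γ(L, V)),
        F'.presheaf.map i.op (ν V m n) = ν W (F.presheaf.map i.op m) (L.presheaf.map i.op n)) ∧
      ∀ (W : P.Opens) (a : Γ(F, W)) (b : Γ(L, W)) (U : S.Opens) (hU : IsAffineOpen U),
        sec (emb p chart U hU) (lam'' U hU) W (ν W a b) =
          tmulΓ hk (emb p chart U hU ⁻¹ᵁ W) (sec (emb p chart U hU) (lam U hU) W a)
            (sec (emb p chart U hU) (lam' U hU) W b) := by
  refine exists_pairing p lam'' hF'.bijective (fun U hU => K35.RelProjBasic.emb_preimage U hU)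
    (fun U hU W a b => tmulΓ hk (emb p chart U hU ⁻¹ᵁ W) (sec (emb p chart U hU) (lam U hU) W a)
            (sec (emb p chart U hU) (lam' U hU) W b)) ?_ ?_ ?_ ?_ ?_ ?_
  · intro U hU W a b c
    rw [map_add, tmulΓ_add_left]
  · intro U hU W a b c
    rw [map_add, tmulΓ_add_right]
  · intro U hU W c a b
    rw [sec_smul, tmulΓ_smul_left]
  · intro U hU W c a b
    rw [sec_smul, tmulΓ_smul_right]
  · intro U hU W W' h a b
    rw [res_tmulΓ, res_sec, res_sec]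
  · intro U hU r W s a b hW hs
    refine tilde_sec_basicOpen_eq hP hF' U hU r W s _ _ (fun y hy hy' => ?_) hs
    refine (val_tmulΓ hk _ _ _ _).trans ?_
    refine Eq.trans ?_ (congrArg _ (val_tmulΓ hk _ _ _ _)).symm
    rw [GrMod.locModMap_smul]
    exact congrArg₂ (· • ·) (hL.compat U hU r W b y hy hy') (hF.compat U hU r W a y hy hy')

/-- Multiplication by `f ^ l` is bijective for the pairing of sections. -/
theorem bijective_tmul (hF : IsRelTilde 𝒮 p chart ℳ m F lam) (hF' : IsRelTilde 𝒮 p chart ℳ k F' lam'')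
    (hk : m + n = k) (ν : ∀ W : P.Opens, Γ(F, W) →ₗ[Γ(P, W)] Γ(L, W) →ₗ[Γ(P, W)] Γ(F', W))
    (hν : ∀ (W : P.Opens) (a : Γ(F, W)) (b : Γ(L, W)) (U : S.Opens) (hU : IsAffineOpen U),
        sec (emb p chart U hU) (lam'' U hU) W (ν W a b) =
          tmulΓ hk (emb p chart U hU ⁻¹ᵁ W) (sec (emb p chart U hU) (lam U hU) W a)
            (sec (emb p chart U hU) (lam' U hU) W b))
    (U : S.Opens) (hU : IsAffineOpen U) {d : ℕ} (f : 𝒮.deg U hU d) (l : ℤ) (hn : l * d = n) (W : P.Opens)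
    (hWU : W ≤ p ⁻¹ᵁ U)
    (hW : ∀ y ∈ emb p chart U hU ⁻¹ᵁ W, f.1 ∉ (y : ProjectiveSpectrum (𝒮.deg U hU)).asHomogeneousIdeal)
    (e : Γ(L, W)) (he : sec (emb p chart U hU) (lam' U hU) W e = powFrac f l n hn (emb p chart U hU ⁻¹ᵁ W) hW) :
    Function.Bijective (fun a : Γ(F, W) => ν W a e) := by
  have h1 := bijective_tmulΓ_powFrac (ℳ := ℳ.deg U hU) hk (emb p chart U hU ⁻¹ᵁ W) f l hn hW
  have h2 : Function.Bijective (sec (emb p chart U hU) (lam U hU) W) := hF.bijective U hU W hWU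
  have h3 : Function.Bijective (sec (emb p chart U hU) (lam'' U hU) W) := hF'.bijective U hU W hWU
  have h4 : Function.Bijective (sec (emb p chart U hU) (lam'' U hU) W ∘ fun a : Γ(F, W) => ν W a e) := by
    have h5 : (sec (emb p chart U hU) (lam'' U hU) W ∘ fun a : Γ(F, W) => ν W a e) =
        (fun t => tmulΓ hk (emb p chart U hU ⁻¹ᵁ W) t (powFrac f l n hn (emb p chart U hU ⁻¹ᵁ W) hW)) ∘
          sec (emb p chart U hU) (lam U hU) W := by
      funext a
      simp only [Function.comp_apply]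
      rw [hν, he]
    rw [h5]
    exact h1.comp h2
  exact (Function.Bijective.of_comp_iff' h3 _).1 h4

end tmul

/-- `O_P(m) ⊗ O_P(n) ≅ O_P(m + n)` for `𝒮` generated in degree one. -/
theorem nonempty_iso_twist (hP : IsRelProj 𝒮 p chart) (hgen : 𝒮.IsGenDegOne) {m n k : ℤ} (hk : m + n = k)
    {L L' L'' : P.Modules}
    {lam : ∀ (U : S.Opens) (hU : IsAffineOpen U),
      L ⟶ (Scheme.Modules.pushforward (emb p chart U hU)).obj (GrTwist.twist (𝒮.deg U hU) m)}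
    {lam' : ∀ (U : S.Opens) (hU : IsAffineOpen U),
      L' ⟶ (Scheme.Modules.pushforward (emb p chart U hU)).obj (GrTwist.twist (𝒮.deg U hU) n)}
    {lam'' : ∀ (U : S.Opens) (hU : IsAffineOpen U),
      L'' ⟶ (Scheme.Modules.pushforward (emb p chart U hU)).obj (GrTwist.twist (𝒮.deg U hU) k)}
    (hL : IsRelTwist 𝒮 p chart m L lam) (hL' : IsRelTwist 𝒮 p chart n L' lam')
    (hL'' : IsRelTwist 𝒮 p chart k L'' lam'') : Nonempty (CohB1.tensorMod L L' ≅ L'') := by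
  obtain ⟨ν, hν, hν'⟩ := exists_mul hP hk hL hL' hL''
  have : IsIso (Groth.Agent.Ega2.TensHom.tensDesc ν hν) := by
    refine K31.TildeMul.isIso_tensDesc_right ν hν fun x => ?_
    obtain ⟨U, hU, f, W, hxW, hWU, hW⟩ := exists_degOne (p := p) (chart := chart) hgen x
    obtain ⟨e, he, hg⟩ := exists_powFrac hL' U hU f n (by simp) W hWU hW
    refine ⟨W, e, hxW, hg, fun V hV => ?_⟩
    refine bijective_mul hL hL'' hk ν hν' U hU f n (by simp) V (hV.trans hWU) (fun y hy => hW y (hV hy)) _ ?_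
    change sec (emb p chart U hU) (lam' U hU) V (res L' hV e) = _
    rw [← res_sec, he]
    rfl
  exact ⟨asIso (Groth.Agent.Ega2.TensHom.tensDesc ν hν)⟩

/-- `(ℳ(m))~ ⊗ O_P(n) ≅ (ℳ(m + n))~` for `𝒮` generated in degree one. -/
theorem nonempty_iso_tilde (hP : IsRelProj 𝒮 p chart) (hgen : 𝒮.IsGenDegOne) {ℳ : GrModule 𝒮} {m n k : ℤ}
    (hk : m + n = k) {F L F' : P.Modules}
    {lam : ∀ (U : S.Opens) (hU : IsAffineOpen U),
      F ⟶ (Scheme.Modules.pushforward (emb p chart U hU)).obj (GrMod.tilde (𝒮.deg U hU) (ℳ.deg U hU) m)}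
    {lam' : ∀ (U : S.Opens) (hU : IsAffineOpen U),
      L ⟶ (Scheme.Modules.pushforward (emb p chart U hU)).obj (GrTwist.twist (𝒮.deg U hU) n)}
    {lam'' : ∀ (U : S.Opens) (hU : IsAffineOpen U),
      F' ⟶ (Scheme.Modules.pushforward (emb p chart U hU)).obj (GrMod.tilde (𝒮.deg U hU) (ℳ.deg U hU) k)}
    (hF : IsRelTilde 𝒮 p chart ℳ m F lam) (hL : IsRelTwist 𝒮 p chart n L lam')
    (hF' : IsRelTilde 𝒮 p chart ℳ k F' lam'') : Nonempty (CohB1.tensorMod F L ≅ F') := by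
  obtain ⟨ν, hν, hν'⟩ := exists_tmul hP hk hF hL hF'
  have : IsIso (Groth.Agent.Ega2.TensHom.tensDesc ν hν) := by
    refine K31.TildeMul.isIso_tensDesc_right ν hν fun x => ?_
    obtain ⟨U, hU, f, W, hxW, hWU, hW⟩ := exists_degOne (p := p) (chart := chart) hgen x
    obtain ⟨e, he, hg⟩ := exists_powFrac hL U hU f n (by simp) W hWU hW
    refine ⟨W, e, hxW, hg, fun V hV => ?_⟩
    refine bijective_tmul hF hF' hk ν hν' U hU f n (by simp) V (hV.trans hWU) (fun y hy => hW y (hV hy)) _ ?_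
    change sec (emb p chart U hU) (lam' U hU) V (res L hV e) = _
    rw [← res_sec, he]
    rfl
  exact ⟨asIso (Groth.Agent.Ega2.TensHom.tensDesc ν hν)⟩

end K40.RelMul

end
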