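import Mathlib.AlgebraicGeometry.Gluing
import Mathlib.AlgebraicGeometry.Cover.Open
import Mathlib.AlgebraicGeometry.Morphisms.OpenImmersion

/-!
# Gluing morphisms along an open family with refinements
-/

set_option autoImplicit false
universe u v
open CategoryTheory CategoryTheory.Limits AlgebraicGeometry

namespace K40.GlueHom

/-- Morphisms of schemes which agree locally on the source are equal. -/
theorem hom_ext_local {W T : Scheme.{u}} {p q : W ⟶ T}
    (h : ∀ w : W, ∃ (V : Scheme.{u}) (j : V ⟶ W), IsOpenImmersion j ∧ w ∈ Set.range j.base ∧ j ≫ p = j ≫ q) :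
    p = q := by
  choose V j hj hw he using h
  let 𝒱 : W.OpenCover :=
    { I₀ := W
      X := V
      f := j
      mem₀ := by
        rw [Scheme.presieve₀_mem_precoverage_iff]
        exact ⟨fun x => ⟨x, hw x⟩, hj⟩ }
  exact 𝒱.hom_ext _ _ he

section

variable {X T : Scheme.{u}} {ι : Type v} (Z : ι → Scheme.{u}) (i : ∀ a, Z a ⟶ X) (φ : ∀ a, Z a ⟶ T)

/-- the chart `c` refines the chart `a`, compatibly with the morphisms to `T`. -/
def Refines (c a : ι) : Prop := ∃ k : Z c ⟶ Z a, k ≫ i a = i c ∧ k ≫ φ a = φ c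

variable {Z i φ} in
theorem Refines.refl (a : ι) : Refines Z i φ a a := ⟨𝟙 _, Category.id_comp _, Category.id_comp _⟩

variable {Z i φ} in
theorem Refines.trans {a b c : ι} (h : Refines Z i φ c b) (h' : Refines Z i φ b a) : Refines Z i φ c a := by
  obtain ⟨k, h1, h2⟩ := h
  obtain ⟨l, h3, h4⟩ := h'
  exact ⟨k ≫ l, by rw [Category.assoc, h3, h1], by rw [Category.assoc, h4, h2]⟩

/-- **Gluing**: morphisms `φ a : Z a ⟶ T` on an open covering family `i a : Z a ⟶ X` such that any two charts have,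
around every common point, a common refinement, glue to a morphism `X ⟶ T`. -/
theorem exists_glue [∀ a, IsOpenImmersion (i a)] (hcov : ∀ x : X, ∃ a, x ∈ Set.range (i a).base)
    (h : ∀ (a b : ι) (x : X), x ∈ Set.range (i a).base → x ∈ Set.range (i b).base →
      ∃ c : ι, x ∈ Set.range (i c).base ∧ Refines Z i φ c a ∧ Refines Z i φ c b) :
    ∃ v : X ⟶ T, ∀ a, i a ≫ v = φ a := by
  choose a ha using hcov
  let 𝒱 : X.OpenCover :=
    { I₀ := X
      X := fun x => Z (a x)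
      f := fun x => i (a x)
      mem₀ := by
        rw [Scheme.presieve₀_mem_precoverage_iff]
        exact ⟨fun x => ⟨x, ha x⟩, fun x => inferInstance⟩ }
  have hcompat : ∀ x y : X, pullback.fst (𝒱.f x) (𝒱.f y) ≫ φ (a x) = pullback.snd (𝒱.f x) (𝒱.f y) ≫ φ (a y) := by
    intro x y
    apply hom_ext_local
    intro w
    have hw : (𝒱.f x).base ((pullback.fst (𝒱.f x) (𝒱.f y)).base w) =
        (𝒱.f y).base ((pullback.snd (𝒱.f x) (𝒱.f y)).base w) := by
      rw [← Scheme.Hom.comp_apply, ← Scheme.Hom.comp_apply, pullback.condition]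
    obtain ⟨c, ⟨z, hz⟩, ⟨k, hk1, hk2⟩, ⟨l, hl1, hl2⟩⟩ := h (a x) (a y)
      ((𝒱.f x).base ((pullback.fst (𝒱.f x) (𝒱.f y)).base w)) ⟨_, rfl⟩ ⟨_, hw.symm⟩
    let j : Z c ⟶ pullback (𝒱.f x) (𝒱.f y) := pullback.lift k l (hk1.trans hl1.symm)
    have hj1 : j ≫ pullback.fst (𝒱.f x) (𝒱.f y) = k := pullback.lift_fst _ _ _
    have hj2 : j ≫ pullback.snd (𝒱.f x) (𝒱.f y) = l := pullback.lift_snd _ _ _
    have hj3 : j ≫ pullback.fst (𝒱.f x) (𝒱.f y) ≫ 𝒱.f x = i c := by rw [reassoc_of% hj1]; exact hk1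
    have hj : IsOpenImmersion j := by
      have : IsOpenImmersion (j ≫ pullback.fst (𝒱.f x) (𝒱.f y) ≫ 𝒱.f x) := by rw [hj3]; infer_instance
      exact IsOpenImmersion.of_comp j (pullback.fst (𝒱.f x) (𝒱.f y) ≫ 𝒱.f x)
    refine ⟨Z c, j, hj, ⟨z, ?_⟩, ?_⟩
    · apply (pullback.fst (𝒱.f x) (𝒱.f y) ≫ 𝒱.f x).isOpenEmbedding.injective
      rw [← Scheme.Hom.comp_apply, hj3, hz]
      exact (Scheme.Hom.comp_apply _ _ _).symm
    · rw [reassoc_of% hj1, reassoc_of% hj2, hk2, hl2]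
  refine ⟨𝒱.glueMorphisms (fun x => φ (a x)) hcompat, fun b => ?_⟩
  apply hom_ext_local
  intro z
  obtain ⟨c, ⟨z', hz'⟩, ⟨k, hk1, hk2⟩, ⟨l, hl1, hl2⟩⟩ := h b (a ((i b).base z)) ((i b).base z) ⟨z, rfl⟩ (ha _)
  have hk : IsOpenImmersion k := by
    have : IsOpenImmersion (k ≫ i b) := by rw [hk1]; infer_instance
    exact IsOpenImmersion.of_comp k (i b)
  refine ⟨Z c, k, hk, ⟨z', ?_⟩, ?_⟩
  · apply (i b).isOpenEmbedding.injective
    rw [← Scheme.Hom.comp_apply, hk1, hz']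
  · have h1 : 𝒱.f ((i b).base z) ≫ 𝒱.glueMorphisms (fun x => φ (a x)) hcompat = φ (a ((i b).base z)) :=
      𝒱.ι_glueMorphisms _ _ _
    have h2 : i (a ((i b).base z)) ≫ 𝒱.glueMorphisms (fun x => φ (a x)) hcompat = φ (a ((i b).base z)) := h1
    rw [reassoc_of% hk1, ← reassoc_of% hl1, h2, hl2, hk2]

end

end K40.GlueHom
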