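import Groth.Agent.EGA2.K36.TildeEx
import Groth.Agent.EGA2.K34.ProjDegree
import Groth.Agent.EGA2.K34.RelAmpQuot
import Groth.Agent.EGA2.K32.ProjProper
import Groth.Agent.EGA2.K40.RelMul
import Groth.Agent.EGA2.K40.RelZero
import Groth.Agent.VarietyA.AmpleNegPow

/-!
# Relative Proj generated in degree one: `O(1)` is relatively ample, `O(1)^m = O(m)`, finite type modules are quotients of
`p^* G ⊗ O(-n)`
-/

set_option autoImplicit false
universe u v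

open CategoryTheory CategoryTheory.Limits AlgebraicGeometry TopologicalSpace Opposite
open scoped HomogeneousIdeal

noncomputable section

namespace K40.RelQuot

open RelProj Groth.Agent Groth.Agent.Ega2.RelAmp

variable {Y P : Scheme.{u}} {𝒮 : RelProj.QCGrAlg Y} {p : P ⟶ Y}
    {chart : ∀ (U : Y.Opens) (hU : IsAffineOpen U), (((p ⁻¹ᵁ U : P.Opens) : Scheme.{u}) ≅ Proj (𝒮.deg U hU))}

theorem exists_deg_one_notMem (hgen : 𝒮.IsGenDegOne) (U : Y.Opens) (hU : IsAffineOpen U)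
    (z : ProjectiveSpectrum (𝒮.deg U hU)) : ∃ f : 𝒮.deg U hU 1, f.1 ∉ z.asHomogeneousIdeal := by
  have h1 := K35.Dehom.irrelevant_le_span (hgen U hU)
  by_contra h
  push Not at h
  have h2 : Ideal.span (𝒮.deg U hU 1 : Set (𝒮.presheaf.obj (op U))) ≤ z.asHomogeneousIdeal.toIdeal :=
    Ideal.span_le.2 fun f hf => h ⟨f, hf⟩
  exact z.not_irrelevant_le fun a ha => h2 (h1 ha)

/-- `O_P(1)` is relatively ample, for `𝒮` generated in degree one with `𝒮_1` of finite type. -/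
theorem isRelAmple_one (hP : IsRelProj 𝒮 p chart) (hgen : 𝒮.IsGenDegOne) (hft : 𝒮.IsFTDeg 1) {L : P.Modules}
    {lam : ∀ (U : Y.Opens) (hU : IsAffineOpen U),
      L ⟶ (Scheme.Modules.pushforward (emb p chart U hU)).obj (GrTwist.twist (𝒮.deg U hU) 1)}
    (hL : IsRelTwist 𝒮 p chart 1 L lam) : RelAmple.IsRelAmple p L := by
  have hpr : IsProper p := EGA2.K32.ProjProper.isProper_of_isRelProj hP hgen hft
  refine isRelAmple_of_forall_exists fun y => ?_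
  obtain ⟨V, hyV⟩ := TopologicalSpace.Opens.mem_iSup.mp ((iSup_affineOpens_eq_top Y).ge (Set.mem_univ y))
  exact ⟨V, V.2, hyV, K34.ProjDegree.ampleOn one_pos hL V.2 (exists_deg_one_notMem hgen V V.2)⟩

/-- `O(0) ≅ O`. -/
theorem nonempty_iso_zero (hP : IsRelProj 𝒮 p chart) (hgen : 𝒮.IsGenDegOne) {L : P.Modules}
    {lam : ∀ (U : Y.Opens) (hU : IsAffineOpen U),
      L ⟶ (Scheme.Modules.pushforward (emb p chart U hU)).obj (GrTwist.twist (𝒮.deg U hU) 0)}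
    (hL : IsRelTwist 𝒮 p chart 0 L lam) : Nonempty (Coh.structureModule P ≅ L) := by
  obtain ⟨e⟩ := K40.RelMul.nonempty_iso_twist hP hgen (add_zero 0) (K40.RelZero.isRelTwist_zero hP) hL
    (K40.RelZero.isRelTwist_zero hP)
  exact ⟨e.symm ≪≫ Ega2.Tens.lunit L⟩

/-- `O(1)^m ≅ O(m)`. -/
theorem nonempty_iso_pow (hP : IsRelProj 𝒮 p chart) (hgen : 𝒮.IsGenDegOne) {O1 : P.Modules}
    {lam1 : ∀ (U : Y.Opens) (hU : IsAffineOpen U),
      O1 ⟶ (Scheme.Modules.pushforward (emb p chart U hU)).obj (GrTwist.twist (𝒮.deg U hU) 1)}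
    (hO1 : IsRelTwist 𝒮 p chart 1 O1 lam1) (m : ℕ) {L : P.Modules}
    {lam : ∀ (U : Y.Opens) (hU : IsAffineOpen U),
      L ⟶ (Scheme.Modules.pushforward (emb p chart U hU)).obj (GrTwist.twist (𝒮.deg U hU) (m : ℤ))}
    (hL : IsRelTwist 𝒮 p chart (m : ℤ) L lam) : Nonempty (CohB1.tensorPow O1 m ≅ L) := by
  induction m generalizing L with
  | zero => exact nonempty_iso_zero hP hgen hL
  | succ m ih =>
    obtain ⟨Lm, lamm, hLm⟩ := K36.TildeEx.exists_isRelTwist hP (m : ℤ)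
    obtain ⟨e⟩ := ih hLm
    obtain ⟨e'⟩ := K40.RelMul.nonempty_iso_twist hP hgen (by push_cast; ring) hLm hO1 hL
    exact ⟨Ega2.Tens.mapTIso e (Iso.refl _) ≪≫ e'⟩

theorem exists_quot (hP : IsRelProj 𝒮 p chart) [CompactSpace Y] [QuasiSeparatedSpace Y]
    (hgen : 𝒮.IsGenDegOne) (hft : 𝒮.IsFTDeg 1) {F : P.Modules} (hFq : Coh.IsQCoh F) (hFt : CohB1.IsFT F) :
    ∃ m₀ : ℕ, ∀ m : ℕ, m₀ ≤ m → ∀ (L : P.Modules)
      (lam : ∀ (U : Y.Opens) (hU : IsAffineOpen U),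
      L ⟶ (Scheme.Modules.pushforward (RelProj.emb p chart U hU)).obj (GrTwist.twist (𝒮.deg U hU) (-(m : ℤ)))),
      RelProj.IsRelTwist 𝒮 p chart (-(m : ℤ)) L lam →
        ∃ (G : Y.Modules) (π : CohB1.tensorMod ((Scheme.Modules.pullback p).obj G) L ⟶ F),
          Coh.IsQCoh G ∧ CohB1.IsFT G ∧ Epi π := by
  obtain ⟨O1, lam1, hO1⟩ := K36.TildeEx.exists_isRelTwist hP 1
  obtain ⟨m₀, hm₀⟩ := K34.RelAmpQuot.exists_quot_of_isRelAmple p (isRelAmple_one hP hgen hft hO1) ⟨hFq, hFt⟩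
  refine ⟨m₀, fun m hm L lam hL => ?_⟩
  obtain ⟨G, φ, hG, hG', hφ⟩ := hm₀ m hm
  obtain ⟨Lm, lamm, hLm⟩ := K36.TildeEx.exists_isRelTwist hP (m : ℤ)
  obtain ⟨e₁⟩ := nonempty_iso_pow hP hgen hO1 m hLm
  obtain ⟨e₂⟩ := K40.RelMul.nonempty_iso_twist hP hgen (add_neg_cancel (m : ℤ)) hLm hL (K40.RelZero.isRelTwist_zero hP)
  let e : CohB1.tensorMod (CohB1.tensorPow O1 m) L ≅ Coh.structureModule P :=
    Ega2.Tens.mapTIso e₁ (Iso.refl _) ≪≫ e₂
  let Φ := DCoh.tensorRightMod L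
  let θ : Φ.obj (CohB1.tensorMod F (CohB1.tensorPow O1 m)) ≅ F := (PerfB.TensInv.tensorInvIso e).app F
  have h1 : Epi (Φ.map φ) := inferInstance
  have h2 : Epi (Φ.map φ ≫ θ.hom) := epi_comp (Φ.map φ) θ.hom
  exact ⟨G, Φ.map φ ≫ θ.hom, hG, hG', h2⟩

end K40.RelQuot

end
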