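import Groth.Agent.EGA2.K40.GrExact
import Groth.Agent.Ega1.ExtendAff

/-!
# `GrMod.comap` of a bijective semilinear map is an isomorphism onto the direct image
-/

set_option autoImplicit false
universe u
open CategoryTheory CategoryTheory.Limits AlgebraicGeometry Opposite TopologicalSpace
open scoped HomogeneousIdeal

noncomputable section

namespace K40.GrComapBij

open K31.GrSect K40.GrExact

variable {A σ : Type u} [CommRing A] [SetLike σ A] [AddSubgroupClass σ A] {𝒜 : ℕ → σ} [GradedRing 𝒜]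
  {B σ' : Type u} [CommRing B] [SetLike σ' B] [AddSubgroupClass σ' B] {ℬ : ℕ → σ'} [GradedRing ℬ]
  (ψ : 𝒜 →+*ᵍ ℬ) (hψ : ℬ₊ ≤ (𝒜₊).map ψ)
  {M τ : Type u} [AddCommGroup M] [Module A M] [SetLike τ M] [AddSubgroupClass τ M] {ℳ : ℕ → τ}
  [SetLike.GradedSMul 𝒜 ℳ] [DirectSum.Decomposition ℳ]
  {N τ' : Type u} [AddCommGroup N] [Module B N] [SetLike τ' N] [AddSubgroupClass τ' N] {𝒩 : ℕ → τ'}
  [SetLike.GradedSMul ℬ 𝒩] [DirectSum.Decomposition 𝒩]

/-- The basic opens `D_+(f)` with `f` homogeneous of positive degree form a basis. -/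
theorem isBasis : Opens.IsBasis (Set.range fun p : Σ' (f : A) (d : ℕ), 0 < d ∧ f ∈ 𝒜 d =>
    (Proj.basicOpen 𝒜 p.1 : (Proj 𝒜).Opens)) := by
  rw [Opens.isBasis_iff_nbhd]
  intro V x hx
  obtain ⟨d, g, hd, hg, hgx, hV⟩ := exists_basicOpen_le 𝒜 x hx
  exact ⟨_, ⟨⟨g, d, hd, hg⟩, rfl⟩, hgx, fun y hy => hV y hy⟩

theorem bijective_app (v : M →ₛₗ[ψ.toRingHom] N) (hv : ∀ (i : ℕ) (m : M), m ∈ ℳ i → v m ∈ 𝒩 i)
    (hbij : Function.Bijective v) (n : ℤ) {d : ℕ} (hd : 0 < d) {f : A} (hf : f ∈ 𝒜 d) :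
    Function.Bijective ((GrMod.comap ψ hψ v hv n).app (Proj.basicOpen 𝒜 f)) := by
  have hψf : ψ f ∈ ℬ d := ψ.map_mem hf
  constructor
  · rw [injective_iff_map_eq_zero]
    intro s hs
    obtain ⟨k, m, hm, hsm⟩ := exists_frac_basicOpen (ℳ := ℳ) n hd hf s
    have h0 : ∀ y : ProjectiveSpectrum ℬ, ψ f ∉ y.asHomogeneousIdeal →
        ∃ a : B, a ∉ y.asHomogeneousIdeal ∧ a • v m = 0 := by
      intro y hy
      have h1 := GrMod.comap_app_val ψ hψ v hv n (Proj.basicOpen 𝒜 f) s ⟨y, hy⟩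
      rw [hs] at h1
      have h2 : GrMod.val s ⟨ProjectiveSpectrum.comap ψ hψ y, hy⟩ =
          LocalizedModule.mk m ⟨f ^ k, pow_notMem (x := ProjectiveSpectrum.comap ψ hψ y) hy k⟩ := hsm ⟨_, hy⟩
      rw [h2, GrMod.locModMap_mk] at h1
      exact exists_smul_of_mk_eq_zero h1.symm
    obtain ⟨e, he⟩ := exists_pow_smul_eq_zero ℬ (ℳ := 𝒩) hd hψf (map_mem_zdeg v hv hm) h0
    have he' : v (f ^ e • m) = 0 := by
      rw [LinearMap.map_smulₛₗ]
      simpa using he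
    have he'' : f ^ e • m = 0 := hbij.1 (he'.trans (map_zero v).symm)
    refine Subtype.ext (funext fun x => Subtype.ext ?_)
    refine (hsm x).trans ?_
    refine Eq.trans ?_ (LocalizedModule.zero_mk (1 : x.1.asHomogeneousIdeal.toIdeal.primeCompl))
    refine mk_eq_of_smul_eq (f ^ e) (pow_notMem x.2 e) ?_
    rw [smul_zero, smul_zero, one_smul, he'']
  · intro t
    obtain ⟨k, m', hm', htm⟩ := exists_frac_basicOpen (ℳ := 𝒩) n hd hψf t
    obtain ⟨m₀, rfl⟩ := hbij.2 m'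
    obtain ⟨m, hm, hmv⟩ := exists_lift_zdeg v hv hm'
    have hfk : f ^ k ∈ 𝒜 (k * d) := by simpa using SetLike.pow_mem_graded k hf
    refine ⟨frac (ℳ := ℳ) n (ProjectiveSpectrum.basicOpen 𝒜 f) hfk (fun x hx => pow_notMem hx _) hm, ?_⟩
    refine Subtype.ext (funext fun y => Subtype.ext ?_)
    refine (GrMod.locModMap_mk ψ hψ v y.1 m _).trans ?_
    refine Eq.trans ?_ (htm y).symm
    rw [hmv]
    congr 1
    exact Subtype.ext (map_pow ψ f k)

theorem isIso_comap (v : M →ₛₗ[ψ.toRingHom] N) (hv : ∀ (i : ℕ) (m : M), m ∈ ℳ i → v m ∈ 𝒩 i)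
    (hbij : Function.Bijective v) (n : ℤ) : IsIso (GrMod.comap ψ hψ v hv n) :=
  Groth.Agent.Ega1.ExtendAff.isIso_of_basis _ (isBasis (𝒜 := 𝒜))
    fun p => bijective_app ψ hψ v hv hbij n p.2.2.1 p.2.2.2

end K40.GrComapBij

end
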