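import Groth.Agent.EGA2.K31.GrSect
import Groth.Agent.EGA2.K36.RelComap

/-!
# Exactness of `GrMod.map` on the basic opens `D_+(f)`
-/

set_option autoImplicit false
universe u
open CategoryTheory CategoryTheory.Limits AlgebraicGeometry Opposite TopologicalSpace

noncomputable section

namespace K40.GrExact

open K31.GrSect

variable {A σ : Type u} [CommRing A] [SetLike σ A] [AddSubgroupClass σ A] {𝒜 : ℕ → σ} [GradedRing 𝒜]
  {M τ : Type u} [AddCommGroup M] [Module A M] [SetLike τ M] [AddSubgroupClass τ M] {ℳ : ℕ → τ}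
  [SetLike.GradedSMul 𝒜 ℳ] [DirectSum.Decomposition ℳ]
  {N τ' : Type u} [AddCommGroup N] [Module A N] [SetLike τ' N] [AddSubgroupClass τ' N] {𝒩 : ℕ → τ'}
  [SetLike.GradedSMul 𝒜 𝒩] [DirectSum.Decomposition 𝒩]

omit [Module A N] [SetLike.GradedSMul 𝒜 ℳ] [DirectSum.Decomposition ℳ] [SetLike.GradedSMul 𝒜 𝒩] [DirectSum.Decomposition 𝒩] in
theorem map_mem_zdeg {B : Type u} [CommRing B] [Module B N] {ρ : A →+* B} (u : M →ₛₗ[ρ] N)
    (hu : ∀ (i : ℕ) (m : M), m ∈ ℳ i → u m ∈ 𝒩 i) {k : ℤ} {m : M} (hm : m ∈ zdeg ℳ k) : u m ∈ zdeg 𝒩 k := by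
  rcases mem_zdeg_iff.mp hm with ⟨i, hi, h⟩ | rfl
  · exact mem_zdeg_of_eq hi (hu i m h)
  · rw [map_zero]; exact zero_mem _

omit [Module A N] [SetLike.GradedSMul 𝒜 ℳ] [SetLike.GradedSMul 𝒜 𝒩] in
/-- An element of degree `k` in the image is the image of an element of degree `k`. -/
theorem exists_lift_zdeg {B : Type u} [CommRing B] [Module B N] {ρ : A →+* B} (u : M →ₛₗ[ρ] N)
    (hu : ∀ (i : ℕ) (m : M), m ∈ ℳ i → u m ∈ 𝒩 i) {k : ℤ} {m : M} (hm : u m ∈ zdeg 𝒩 k) :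
    ∃ m' ∈ zdeg ℳ k, u m' = u m := by
  rcases mem_zdeg_iff.mp hm with ⟨i, hi, h⟩ | h
  · refine ⟨DirectSum.decompose ℳ m i, mem_zdeg_of_eq hi (SetLike.coe_mem _), ?_⟩
    have := K36.RelComap.map_decompose ℳ 𝒩 u.toAddMonoidHom hu m i
    refine this.trans ?_
    exact DirectSum.decompose_of_mem_same 𝒩 h
  · exact ⟨0, zero_mem _, by rw [map_zero, h]⟩

omit [DirectSum.Decomposition ℳ] in
/-- The criterion for a fraction `m / f ^ k` to vanish on `D_+(f)`. -/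
theorem exists_smul_of_mk_eq_zero {x : ProjectiveSpectrum 𝒜} {m : M} {g : A} {hg : g ∉ x.asHomogeneousIdeal}
    (h : (LocalizedModule.mk m ⟨g, hg⟩ : GrMod.LocMod 𝒜 (M := M) x) = 0) :
    ∃ a : A, a ∉ x.asHomogeneousIdeal ∧ a • m = 0 := by
  rw [← LocalizedModule.zero_mk ⟨g, hg⟩] at h
  obtain ⟨a, ha, h'⟩ := exists_of_mk_eq h
  rw [smul_zero, sub_zero, smul_smul] at h'
  exact ⟨a * g, mul_notMem ha hg, h'⟩

variable {M' τ'' : Type u} [AddCommGroup M'] [Module A M'] [SetLike τ'' M'] [AddSubgroupClass τ'' M'] {ℳ' : ℕ → τ''}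
  [SetLike.GradedSMul 𝒜 ℳ'] [DirectSum.Decomposition ℳ']

theorem exact (u : M →ₗ[A] N) (hu : ∀ (i : ℕ) (m : M), m ∈ ℳ i → u m ∈ 𝒩 i)
    (v : N →ₗ[A] M') (hv : ∀ (i : ℕ) (m : N), m ∈ 𝒩 i → v m ∈ ℳ' i)
    (hex : Function.Exact u v) (n : ℤ) {d : ℕ} (hd : 0 < d) (f : A) (hf : f ∈ 𝒜 d) :
    Function.Exact ((GrMod.map 𝒜 u hu n).app (Proj.basicOpen 𝒜 f))
      ((GrMod.map 𝒜 v hv n).app (Proj.basicOpen 𝒜 f)) := by
  intro s
  constructor
  · intro hs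
    obtain ⟨k, m, hm, hsm⟩ := exists_frac_basicOpen (ℳ := 𝒩) n hd hf s
    have h0 : ∀ x : ProjectiveSpectrum 𝒜, f ∉ x.asHomogeneousIdeal →
        ∃ a : A, a ∉ x.asHomogeneousIdeal ∧ a • v m = 0 := by
      intro x hx
      have h1 := GrMod.map_app_val v hv n (Proj.basicOpen 𝒜 f) s ⟨x, hx⟩
      rw [hs] at h1
      have h2 : GrMod.val s ⟨x, hx⟩ = LocalizedModule.mk m ⟨f ^ k, pow_notMem hx k⟩ := hsm ⟨x, hx⟩
      rw [h2, GrMod.locMap_mk] at h1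
      exact exists_smul_of_mk_eq_zero h1.symm
    obtain ⟨e, he⟩ := exists_pow_smul_eq_zero 𝒜 (ℳ := ℳ') hd hf (map_mem_zdeg (𝒩 := ℳ') v hv hm) h0
    rw [← map_smul] at he
    obtain ⟨m', hm'⟩ := (hex _).1 he
    have hfm : f ^ e • m ∈ zdeg 𝒩 ((((e + k) * d : ℕ) : ℤ) + n) :=
      smul_mem_zdeg_of_eq 𝒜 (SetLike.pow_mem_graded e hf) hm (by push_cast; rw [smul_eq_mul]; push_cast; ring)
    rw [← hm'] at hfm
    obtain ⟨m'', hm'', hu'⟩ := exists_lift_zdeg (ℳ := ℳ) (𝒩 := 𝒩) u hu hfm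
    have hfe : f ^ (e + k) ∈ 𝒜 ((e + k) * d) := by simpa using SetLike.pow_mem_graded (e + k) hf
    refine ⟨frac (ℳ := ℳ) n (ProjectiveSpectrum.basicOpen 𝒜 f) hfe (fun x hx => pow_notMem hx _) hm'', ?_⟩
    refine Subtype.ext (funext fun x => Subtype.ext ?_)
    refine (GrMod.locMap_mk u x.1 m'' _).trans ?_
    rw [hu', hm']
    refine Eq.trans ?_ (hsm x).symm
    refine mk_eq_of_smul_eq 1 (one_notMem _) ?_
    rw [one_smul, one_smul, smul_smul, pow_add, mul_comm]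
  · rintro ⟨t, rfl⟩
    refine Subtype.ext (funext fun x => Subtype.ext ?_)
    change GrMod.locMap v x.1 (GrMod.locMap u x.1 (GrMod.val t x)) = 0
    generalize GrMod.val t x = q
    induction q using LocalizedModule.induction_on with
    | h m s =>
      rw [GrMod.locMap_mk, GrMod.locMap_mk, (hex (u m)).2 ⟨m, rfl⟩, LocalizedModule.zero_mk]

end K40.GrExact

end
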