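import Groth.Agent.EGA2.K40.UnivLoc
import Groth.Agent.EGA2.K37.TwistQCoh
import Groth.Agent.EGA2.K31.TwistBC

/-!
# The twisting sheaves under base change, for gradings by additive subgroups
-/

set_option autoImplicit false
universe u v

open CategoryTheory CategoryTheory.Limits AlgebraicGeometry TopologicalSpace Opposite
open scoped HomogeneousIdeal

noncomputable section

namespace K40.GrTwBC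

open Groth.Agent.CohqA.PullbackUniv K40.UnivLoc GrTwist

section sub

variable {R A R' B : Type u} [CommRing R'] [CommRing R] [Algebra R' R]
    [CommRing B] [Algebra R' B] {ℬ : ℕ → Submodule R' B} [GradedAlgebra ℬ]
    [CommRing A] [Algebra R A] [Algebra R' A] [IsScalarTower R' R A] {𝒜 : ℕ → Submodule R A}
    [GradedAlgebra 𝒜]
    [Algebra B A] [IsScalarTower R' B A]
    (φ : ℬ →+*ᵍ 𝒜) (hφ : HomogeneousIdeal.irrelevant 𝒜 ≤ (HomogeneousIdeal.irrelevant ℬ).map φ)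
    (hφA : ∀ b : B, φ b = algebraMap B A b)

include hφA in
theorem isUniv_comap_sub [h : Algebra.IsPushout R' R B A] (n : ℤ) : IsUniv (Proj.map φ hφ) (GrTwist.comap φ hφ n) :=
  (isUniv_iff_isIso _ _).2 (K31.TwistBC.isIso_cmp φ hφ hφA n)

end sub

section square

variable {A B₁ B₂ C σ τ₁ τ₂ ρ : Type u} [CommRing A] [SetLike σ A] [AddSubgroupClass σ A] {𝒜 : ℕ → σ} [GradedRing 𝒜]
  [CommRing B₁] [SetLike τ₁ B₁] [AddSubgroupClass τ₁ B₁] {ℬ₁ : ℕ → τ₁} [GradedRing ℬ₁]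
  [CommRing B₂] [SetLike τ₂ B₂] [AddSubgroupClass τ₂ B₂] {ℬ₂ : ℕ → τ₂} [GradedRing ℬ₂]
  [CommRing C] [SetLike ρ C] [AddSubgroupClass ρ C] {𝒞 : ℕ → ρ} [GradedRing 𝒞]

theorem map_comp_map (ψ₁ : 𝒜 →+*ᵍ ℬ₁) (h₁ : ℬ₁₊ ≤ (𝒜₊).map ψ₁) (χ₁ : ℬ₁ →+*ᵍ 𝒞) (k₁ : 𝒞₊ ≤ (ℬ₁₊).map χ₁)
    (ψ₂ : 𝒜 →+*ᵍ ℬ₂) (h₂ : ℬ₂₊ ≤ (𝒜₊).map ψ₂) (χ₂ : ℬ₂ →+*ᵍ 𝒞) (k₂ : 𝒞₊ ≤ (ℬ₂₊).map χ₂)
    (H : ∀ a, χ₁ (ψ₁ a) = χ₂ (ψ₂ a)) :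
    Proj.map χ₁ k₁ ≫ Proj.map ψ₁ h₁ = Proj.map χ₂ k₂ ≫ Proj.map ψ₂ h₂ := by
  have e : χ₁.comp ψ₁ = χ₂.comp ψ₂ := by ext a; exact H a
  rw [← Proj.map_comp, ← Proj.map_comp]
  congr 1

theorem compMap_comap (ψ₁ : 𝒜 →+*ᵍ ℬ₁) (h₁ : ℬ₁₊ ≤ (𝒜₊).map ψ₁) (χ₁ : ℬ₁ →+*ᵍ 𝒞) (k₁ : 𝒞₊ ≤ (ℬ₁₊).map χ₁)
    (ψ₂ : 𝒜 →+*ᵍ ℬ₂) (h₂ : ℬ₂₊ ≤ (𝒜₊).map ψ₂) (χ₂ : ℬ₂ →+*ᵍ 𝒞) (k₂ : 𝒞₊ ≤ (ℬ₂₊).map χ₂)
    (H : ∀ a, χ₁ (ψ₁ a) = χ₂ (ψ₂ a)) (n : ℤ) :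
    compMap (comap ψ₁ h₁ n) (comap χ₁ k₁ n) ≫
        (Scheme.Modules.pushforwardCongr (map_comp_map ψ₁ h₁ χ₁ k₁ ψ₂ h₂ χ₂ k₂ H)).hom.app (twist 𝒞 n) =
      compMap (comap ψ₂ h₂ n) (comap χ₂ k₂ n) := by
  ext V s
  refine Subtype.ext (funext fun y => Subtype.ext ?_)
  have m₂ : ProjectiveSpectrum.comap ψ₂ h₂ (ProjectiveSpectrum.comap χ₂ k₂ y.1) ∈ V := y.2
  have m₁ : ProjectiveSpectrum.comap ψ₁ h₁ (ProjectiveSpectrum.comap χ₁ k₁ y.1) ∈ V := by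
    rw [K37.TwistComp.comap_comap_eq ψ₁ h₁ χ₁ k₁ ψ₂ h₂ χ₂ k₂ H]
    exact m₂
  exact K37.TwistComp.locMap_locMap_eq ψ₁ h₁ χ₁ k₁ ψ₂ h₂ χ₂ k₂ H y.1 V s m₁ m₂

theorem isUniv_square (ψ₁ : 𝒜 →+*ᵍ ℬ₁) (h₁ : ℬ₁₊ ≤ (𝒜₊).map ψ₁) (χ₁ : ℬ₁ →+*ᵍ 𝒞) (k₁ : 𝒞₊ ≤ (ℬ₁₊).map χ₁)
    (ψ₂ : 𝒜 →+*ᵍ ℬ₂) (h₂ : ℬ₂₊ ≤ (𝒜₊).map ψ₂) (χ₂ : ℬ₂ →+*ᵍ 𝒞) (k₂ : 𝒞₊ ≤ (ℬ₂₊).map χ₂)
    (H : ∀ a, χ₁ (ψ₁ a) = χ₂ (ψ₂ a)) (n : ℤ)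
    (h : IsUniv (Proj.map χ₂ k₂ ≫ Proj.map ψ₂ h₂) (compMap (comap ψ₂ h₂ n) (comap χ₂ k₂ n))) :
    IsUniv (Proj.map χ₁ k₁ ≫ Proj.map ψ₁ h₁) (compMap (comap ψ₁ h₁ n) (comap χ₁ k₁ n)) := by
  rw [← compMap_comap ψ₁ h₁ χ₁ k₁ ψ₂ h₂ χ₂ k₂ H] at h
  exact (isUniv_congr _ _).1 h

end square

section main

open K35.Regrade

variable {R R' A B σ τ : Type u} [CommRing R] [CommRing R'] [CommRing A] [SetLike σ A] [AddSubgroupClass σ A]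
  {𝒜 : ℕ → σ} [GradedRing 𝒜] [CommRing B] [SetLike τ B] [AddSubgroupClass τ B] {ℬ : ℕ → τ} [GradedRing ℬ]

variable (𝒜) in
theorem isUniv_toSub [Algebra R A] (h0 : ∀ r : R, algebraMap R A r ∈ 𝒜 0) (n : ℤ) :
    IsUniv (Proj.map (toSub 𝒜 h0) (irr_toSub 𝒜 h0)) (comap (toSub 𝒜 h0) (irr_toSub 𝒜 h0) n) := by
  have : IsIso (Proj.map (toSub 𝒜 h0) (irr_toSub 𝒜 h0)) := (projIso 𝒜 h0).isIso_hom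
  exact isUniv_of_bijective _ _ fun W _ =>
    K37.TwistQCoh.comapApp_bijective _ _ (ofSub 𝒜 h0) (irr_ofSub 𝒜 h0) (fun _ => rfl) (fun _ => rfl) n W

/-- If `B = A ⊗_R R'` with the induced grading, `Φ^* O(n) = O(n)` for `Φ : Proj B ⟶ Proj A`. -/
theorem isUniv_comap (φ : 𝒜 →+*ᵍ ℬ) (hφ : ℬ₊ ≤ (𝒜₊).map φ) (ρ : R →+* R') (c : R →+* A) (c' : R' →+* B)
    (h0 : ∀ r, c r ∈ 𝒜 0) (h0' : ∀ r, c' r ∈ ℬ 0)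
    (hpo : IsPushout (CommRingCat.ofHom ρ) (CommRingCat.ofHom c) (CommRingCat.ofHom c') (CommRingCat.ofHom φ.toRingHom))
    (n : ℤ) : IsUniv (Proj.map φ hφ) (comap φ hφ n) := by
  let _ : Algebra R R' := ρ.toAlgebra
  let _ : Algebra R A := c.toAlgebra
  let _ : Algebra R' B := c'.toAlgebra
  let _ : Algebra R B := (c'.comp ρ).toAlgebra
  let _ : Algebra A B := φ.toRingHom.toAlgebra
  have i1 : IsScalarTower R R' B := .of_algebraMap_eq fun _ => rfl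
  have i2 : IsScalarTower R A B := .of_algebraMap_eq fun r => congr($(congrArg CommRingCat.Hom.hom hpo.w) r)
  have i3 : Algebra.IsPushout R R' A B := CommRingCat.isPushout_iff_isPushout.mp hpo
  have h0a : ∀ r : R, algebraMap R A r ∈ 𝒜 0 := h0
  have h0b : ∀ r : R', algebraMap R' B r ∈ ℬ 0 := h0'
  have hφ' : (subm ℬ h0b)₊ ≤ ((subm 𝒜 h0a)₊).map ((toSub ℬ h0b).comp (φ.comp (ofSub 𝒜 h0a))) :=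
    HomogeneousIdeal.irrelevant_le_map_comp (HomogeneousIdeal.irrelevant_le_map_comp (irr_ofSub 𝒜 h0a) hφ)
      (irr_toSub ℬ h0b)
  have key : IsUniv (Proj.map _ hφ') (comap _ hφ' n) := isUniv_comap_sub _ hφ' (fun _ => rfl) n
  have : IsIso (Proj.map (toSub ℬ h0b) (irr_toSub ℬ h0b)) := (projIso ℬ h0b).isIso_hom
  refine isUniv_of_cover (Proj.map φ hφ) (comap φ hφ n) (ι := PUnit.{1})
    (Z := fun _ => Proj (subm ℬ h0b)) (fun _ => Proj.map (toSub ℬ h0b) (irr_toSub ℬ h0b)) (fun x => ⟨⟨⟩, ?_⟩)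
    (T := fun _ => twist (subm ℬ h0b) n) (fun _ => comap (toSub ℬ h0b) (irr_toSub ℬ h0b) n)
    (fun _ => isUniv_toSub ℬ h0b n) fun _ => ?_
  · rw [Scheme.Hom.opensRange_of_isIso]
    trivial
  · exact isUniv_square φ hφ (toSub ℬ h0b) (irr_toSub ℬ h0b) (toSub 𝒜 h0a) (irr_toSub 𝒜 h0a) _ hφ' (fun _ => rfl) n
      ((isUniv_toSub 𝒜 h0a n).comp key)

end main

end K40.GrTwBC

end
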