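import Groth.Agent.EGA2.K40.RelGlue
import Groth.Agent.EGA2.K35.RelProjMap

/-!
# The comparison of twisting sheaves over a morphism of relative Proj's induced by a graded homomorphism
-/

set_option autoImplicit false
universe u v

open CategoryTheory CategoryTheory.Limits AlgebraicGeometry TopologicalSpace Opposite
open scoped HomogeneousIdeal

noncomputable section

namespace K40.RelComap

open K34.OpenMap K40.RelSec K40.RelGlue RelProj
open Groth.Agent.Fdesc.LocGen hiding sec res_sec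

variable {Y PA PB : Scheme.{u}} {𝒜 ℬ : RelProj.QCGrAlg Y}
    {φ : 𝒜.toQCAlg ⟶ ℬ.toQCAlg} {hφ : RelProj.IsGradedHom φ}
    {hirr : ∀ (U : Y.Opens) (hU : IsAffineOpen U),
      (ℬ.deg U hU)₊ ≤ ((𝒜.deg U hU)₊).map (RelProj.gradedHomAt φ hφ U hU)}
    {pA : PA ⟶ Y} {pB : PB ⟶ Y}
    {chartA : ∀ (U : Y.Opens) (hU : IsAffineOpen U), (((pA ⁻¹ᵁ U : PA.Opens) : Scheme.{u}) ≅ Proj (𝒜.deg U hU))}
    {chartB : ∀ (U : Y.Opens) (hU : IsAffineOpen U), (((pB ⁻¹ᵁ U : PB.Opens) : Scheme.{u}) ≅ Proj (ℬ.deg U hU))}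
    {h : PB ⟶ PA} (hh : RelProj.IsRelProjMap φ hφ hirr chartA chartB h)

/-- The module `T` on `Proj ℬ(U)`, pushed to `PA` in two ways. -/
def swap (U : Y.Opens) (hU : IsAffineOpen U) (T : (Proj (ℬ.deg U hU)).Modules) :
    (Scheme.Modules.pushforward (emb pA chartA U hU)).obj
      ((Scheme.Modules.pushforward (Proj.map (gradedHomAt φ hφ U hU) (hirr U hU))).obj T) ⟶
    (Scheme.Modules.pushforward h).obj ((Scheme.Modules.pushforward (emb pB chartB U hU)).obj T) :=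
  (Scheme.Modules.pushforwardComp _ _).hom.app T ≫
    (Scheme.Modules.pushforwardCongr (K35.RelProjMap.emb_map hh U hU).symm).hom.app T ≫
      (Scheme.Modules.pushforwardComp _ _).inv.app T

variable {n : ℤ} {LA : PA.Modules}
    (lamA : ∀ (U : Y.Opens) (hU : IsAffineOpen U),
      LA ⟶ (Scheme.Modules.pushforward (RelProj.emb pA chartA U hU)).obj (GrTwist.twist (𝒜.deg U hU) n))
    {LB : PB.Modules}
    (lamB : ∀ (U : Y.Opens) (hU : IsAffineOpen U),
      LB ⟶ (Scheme.Modules.pushforward (RelProj.emb pB chartB U hU)).obj (GrTwist.twist (ℬ.deg U hU) n))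

/-- The chart of the comparison. -/
def tau (U : Y.Opens) (hU : IsAffineOpen U) :
    LA ⟶ (Scheme.Modules.pushforward h).obj ((Scheme.Modules.pushforward (emb pB chartB U hU)).obj
      (GrTwist.twist (ℬ.deg U hU) n)) :=
  lamA U hU ≫ (Scheme.Modules.pushforward (emb pA chartA U hU)).map
    (GrTwist.comap (gradedHomAt φ hφ U hU) (hirr U hU) n) ≫ swap hh U hU _

include hh in
theorem comap_mem_of_mem (U : Y.Opens) (hU : IsAffineOpen U) (W : PA.Opens) (y : ProjectiveSpectrum (ℬ.deg U hU))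
    (hy : (emb pB chartB U hU).base y ∈ h ⁻¹ᵁ W) :
    (emb pA chartA U hU).base (ProjectiveSpectrum.comap (gradedHomAt φ hφ U hU) (hirr U hU) y) ∈ W := by
  have h1 : (emb pB chartB U hU ≫ h).base y = (Proj.map (gradedHomAt φ hφ U hU) (hirr U hU) ≫ emb pA chartA U hU).base y := by
    rw [K35.RelProjMap.emb_map hh U hU]
  have h2 : (emb pB chartB U hU ≫ h).base y ∈ W := hy
  rw [h1] at h2
  exact h2

theorem val_tau (U : Y.Opens) (hU : IsAffineOpen U) (W : PA.Opens) (s : Γ(LA, W))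
    (y : ProjectiveSpectrum (ℬ.deg U hU)) (hy : (emb pB chartB U hU).base y ∈ h ⁻¹ᵁ W)
    (hy' : (emb pA chartA U hU).base (ProjectiveSpectrum.comap (gradedHomAt φ hφ U hU) (hirr U hU) y) ∈ W) :
    GrTwist.val (V := emb pB chartB U hU ⁻¹ᵁ (h ⁻¹ᵁ W)) (sec2 (emb pB chartB U hU) h (tau hh lamA U hU) W s) ⟨y, hy⟩ =
      GrTwist.locMap (gradedHomAt φ hφ U hU) (hirr U hU) y
        (GrTwist.val (V := emb pA chartA U hU ⁻¹ᵁ W) (sec (emb pA chartA U hU) (lamA U hU) W s) ⟨_, hy'⟩) :=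
  rfl

variable {lamA lamB}

theorem gradedHomAt_res (U : Y.Opens) (hU : IsAffineOpen U) (D : Y.Opens) (hD : IsAffineOpen D) (hle : D ≤ U) :
    (gradedHomAt φ hφ D hD).comp (𝒜.res hU hD hle) = (ℬ.res hU hD hle).comp (gradedHomAt φ hφ U hU) := by
  ext a
  exact congr($(φ.hom.naturality (homOfLE hle).op) a)

/-- A section of `O_{Proj ℬ}(n)` reading the comparison over `U` reads it over the basic opens of `U`. -/
theorem sec_eq_of_sec_eq (hA : IsRelProj 𝒜 pA chartA) (hB : IsRelProj ℬ pB chartB)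
    (hLA : IsRelTwist 𝒜 pA chartA n LA lamA) (hLB : IsRelTwist ℬ pB chartB n LB lamB)
    (U : Y.Opens) (hU : IsAffineOpen U) (r : Γ(Y, U)) (D : Y.Opens) (hD : IsAffineOpen D) (hr : Y.basicOpen r = D)
    (hle : D ≤ U) (W : PA.Opens) (a : Γ(LA, W)) (W' : PB.Opens) (hW' : W' ≤ h ⁻¹ᵁ W) (s : Γ(LB, W'))
    (hs : sec (emb pB chartB U hU) (lamB U hU) W' s =
      res _ ((emb pB chartB U hU).preimage_mono hW') (sec2 (emb pB chartB U hU) h (tau hh lamA U hU) W a)) :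
    sec (emb pB chartB D hD) (lamB D hD) W' s =
      res _ ((emb pB chartB D hD).preimage_mono hW') (sec2 (emb pB chartB D hD) h (tau hh lamA D hD) W a) := by
  have hirrA := K40.RelGlue.irr_le (𝒮 := 𝒜) U hU r D hD hr hle
  have hirrB := K40.RelGlue.irr_le (𝒮 := ℬ) U hU r D hD hr hle
  refine Subtype.ext (funext fun y => Subtype.ext ?_)
  have hyB := comap_mem hB U hU r D hD hr hle hirrB W' y.1 y.2
  have hyA : (emb pA chartA D hD).base (ProjectiveSpectrum.comap (gradedHomAt φ hφ D hD) (hirr D hD) y.1) ∈ W :=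
    comap_mem_of_mem hh D hD W y.1 (hW' y.2)
  have hyA' : (emb pA chartA U hU).base (ProjectiveSpectrum.comap (𝒜.res hU hD hle) hirrA
      (ProjectiveSpectrum.comap (gradedHomAt φ hφ D hD) (hirr D hD) y.1)) ∈ W :=
    comap_mem hA U hU r D hD hr hle hirrA W _ hyA
  have hyB' : (emb pA chartA U hU).base (ProjectiveSpectrum.comap (gradedHomAt φ hφ U hU) (hirr U hU)
      (ProjectiveSpectrum.comap (ℬ.res hU hD hle) hirrB y.1)) ∈ W :=
    comap_mem_of_mem hh U hU W _ (hW' hyB)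
  refine (compat_twist hLB U hU r D hD hr hle hirrB W' s y.1 y.2 hyB).trans ?_
  rw [hs]
  change GrTwist.locMap (ℬ.res hU hD hle) hirrB y.1 (GrTwist.locMap (gradedHomAt φ hφ U hU) (hirr U hU) _
    (GrTwist.val (V := emb pA chartA U hU ⁻¹ᵁ W) (sec (emb pA chartA U hU) (lamA U hU) W a) ⟨_, hyB'⟩)) =
    GrTwist.locMap (gradedHomAt φ hφ D hD) (hirr D hD) y.1
      (GrTwist.val (V := emb pA chartA D hD ⁻¹ᵁ W) (sec (emb pA chartA D hD) (lamA D hD) W a) ⟨_, hyA⟩)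
  rw [compat_twist hLA U hU r D hD hr hle hirrA W a _ hyA hyA']
  have hc := HomogeneousIdeal.irrelevant_le_map_comp hirrA (hirr D hD)
  have hc' : (ℬ.deg D hD)₊ ≤ ((𝒜.deg U hU)₊).map ((ℬ.res hU hD hle).comp (gradedHomAt φ hφ U hU)) :=
    HomogeneousIdeal.irrelevant_le_map_comp (hirr U hU) hirrB
  have e := gradedHomAt_res (φ := φ) (hφ := hφ) U hU D hD hle
  have hyc : (emb pA chartA U hU).base (ProjectiveSpectrum.comap ((gradedHomAt φ hφ D hD).comp (𝒜.res hU hD hle)) hc y.1) ∈ W :=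
    hyA'
  refine (locMap_comp e hc (hirr U hU) hirrB y.1 (fun x => (emb pA chartA U hU).base x ∈ W)
    (fun x hx => GrTwist.val (V := emb pA chartA U hU ⁻¹ᵁ W) (sec (emb pA chartA U hU) (lamA U hU) W a) ⟨x, hx⟩)
    hyc hyB').trans ?_
  exact (locMap_comp rfl hc hirrA (hirr D hD) y.1 (fun x => (emb pA chartA U hU).base x ∈ W)
    (fun x hx => GrTwist.val (V := emb pA chartA U hU ⁻¹ᵁ W) (sec (emb pA chartA U hU) (lamA U hU) W a) ⟨x, hx⟩)
    hyc hyA').symm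

theorem existsUnique_hom (hA : IsRelProj 𝒜 pA chartA) (hB : IsRelProj ℬ pB chartB)
    (hLA : IsRelTwist 𝒜 pA chartA n LA lamA) (hLB : IsRelTwist ℬ pB chartB n LB lamB) :
    ∃! θ : LA ⟶ (Scheme.Modules.pushforward h).obj LB, ∀ (U : Y.affineOpens) (W : PA.Opens) (a : Γ(LA, W)),
      sec (emb pB chartB U.1 U.2) (lamB U.1 U.2) (h ⁻¹ᵁ W) (θ.app W a) =
        sec2 (emb pB chartB U.1 U.2) h (tau hh lamA U.1 U.2) W a := by
  refine existsUnique_hom_of_cover (V := fun U : Y.affineOpens => pB ⁻¹ᵁ U.1) (fun x => ?_)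
    (fun U : Y.affineOpens => lamB U.1 U.2) (fun U W hW => hLB.bijective U.1 U.2 W hW)
    (fun U => K35.RelProjBasic.emb_preimage U.1 U.2) h (fun U => tau hh lamA U.1 U.2) ?_
  · obtain ⟨U, hxU⟩ := TopologicalSpace.Opens.mem_iSup.mp ((iSup_affineOpens_eq_top Y).ge (Set.mem_univ (pB x)))
    exact ⟨U, hxU⟩
  · rintro ⟨U₁, hU₁⟩ ⟨U₂, hU₂⟩ W a x hx hx1 hx2
    obtain ⟨f, g, hfg, hxf⟩ := exists_basicOpen_le_affine_inter hU₁ hU₂ (pB x) ⟨hx1, hx2⟩
    refine ⟨pB ⁻¹ᵁ (Y.basicOpen f), hxf, fun W' hW' hN _ _ s s' hs hs' => ?_⟩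
    have hD : IsAffineOpen (Y.basicOpen f) := hU₁.basicOpen f
    refine (hLB.bijective _ hD W' hN).1 ?_
    change sec (emb pB chartB _ hD) (lamB _ hD) W' s = sec (emb pB chartB _ hD) (lamB _ hD) W' s'
    rw [sec_eq_of_sec_eq hh hA hB hLA hLB U₁ hU₁ f _ hD rfl (Y.basicOpen_le f) W a W' hW' s hs,
      sec_eq_of_sec_eq hh hA hB hLA hLB U₂ hU₂ g _ hD hfg.symm (hfg ▸ Y.basicOpen_le g) W a W' hW' s' hs']

end K40.RelComap

end
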