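import Groth.Agent.EGA2.K43.RelTw
import Groth.Agent.EGA2.K35.Dehom
import Groth.Agent.Ega2.AmpleTransfer

/-!
# The open `P_f` of a relative Proj is the nonvanishing locus of the section `f / 1` of `O_P(d)`
-/

set_option autoImplicit false
universe u

open CategoryTheory CategoryTheory.Limits AlgebraicGeometry TopologicalSpace Opposite
open scoped HomogeneousIdeal

noncomputable section

namespace K40.RelNv

open RelProj K43.GrFrac K43.RelTw Groth.Agent.Ega2.Nv Groth.Agent.Ega2.Ample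
open Groth.Agent.Fdesc.LocGen

variable {A σ : Type u} [CommRing A] [SetLike σ A] [AddSubgroupClass σ A] {𝒜 : ℕ → σ} [GradedRing 𝒜]

theorem exists_deg_notMem (hgen : Subring.closure ((𝒜 0 : Set A) ∪ (𝒜 1 : Set A)) = ⊤) (d : ℕ)
    (y : ProjectiveSpectrum 𝒜) : ∃ b : 𝒜 d, b.1 ∉ y.asHomogeneousIdeal := by
  obtain ⟨f, hf⟩ : ∃ f : 𝒜 1, f.1 ∉ y.asHomogeneousIdeal := by
    by_contra h
    push Not at h
    refine y.not_irrelevant_le ?_
    exact (K35.Dehom.irrelevant_le_span hgen).trans (Ideal.span_le.2 fun a ha => h ⟨a, ha⟩)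
  exact ⟨⟨f.1 ^ d, by simpa using SetLike.pow_mem_graded d f.2⟩, fun h => hf (y.isPrime.mem_of_pow_mem d h)⟩

variable {S P : Scheme.{u}} {𝒮 : RelProj.QCGrAlg S} {p : P ⟶ S}
  {chart : ∀ (U : S.Opens) (hU : IsAffineOpen U), (((p ⁻¹ᵁ U : P.Opens) : Scheme.{u}) ≅ Proj (𝒮.deg U hU))}

theorem image_eq_Dp (U : S.Opens) (hU : IsAffineOpen U) (f : 𝒮.presheaf.obj (op U)) :
    (p ⁻¹ᵁ U).ι ''ᵁ ((chart U hU).hom ⁻¹ᵁ Proj.basicOpen (𝒮.deg U hU) f) = Dp chart hU f := by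
  rw [Dp]
  change _ = ((chart U hU).inv ≫ (p ⁻¹ᵁ U).ι) ''ᵁ Proj.basicOpen (𝒮.deg U hU) f
  rw [Scheme.Hom.comp_image]
  congr 1
  exact (Scheme.Hom.inv_image (chart U hU) _).symm

theorem eq_genLocus (hgen : 𝒮.IsGenDegOne) {d : ℕ}
    (f : 𝒮.presheaf.obj (op ⊤))
    (hf : ∀ (U : S.Opens) (hU : IsAffineOpen U), (𝒮.presheaf.map (homOfLE le_top).op).hom f ∈ 𝒮.deg U hU d)
    (Xf : P.Opens)
    (hXf : ∀ (U : S.Opens) (hU : IsAffineOpen U), Xf ⊓ p ⁻¹ᵁ U = Dp chart hU ((𝒮.presheaf.map (homOfLE le_top).op).hom f))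
    (L : P.Modules)
    (lam : ∀ (U : S.Opens) (hU : IsAffineOpen U),
      L ⟶ (Scheme.Modules.pushforward (RelProj.emb p chart U hU)).obj (GrTwist.twist (𝒮.deg U hU) (d : ℤ)))
    (hL : RelProj.IsRelTwist 𝒮 p chart (d : ℤ) L lam) (s : Γ(L, (⊤ : P.Opens)))
    (hs : ∀ (U : S.Opens) (hU : IsAffineOpen U) (y : Proj (𝒮.deg U hU)),
      GrTwist.val (V := RelProj.emb p chart U hU ⁻¹ᵁ ⊤) ((lam U hU).app ⊤ s) ⟨y, Set.mem_univ _⟩ =
        Localization.mk ((𝒮.presheaf.map (homOfLE le_top).op).hom f) 1) :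
    Xf = nv L s := by
  have key : ∀ (U : S.Opens) (hU : IsAffineOpen U), Xf ⊓ p ⁻¹ᵁ U = nv L s ⊓ p ⁻¹ᵁ U := by
    intro U hU
    rw [hXf U hU, inf_comm, ← nv_res L s le_top]
    have e : res L (le_top : p ⁻¹ᵁ U ≤ ⊤) s =
        can hL hU rfl ⟨(𝒮.presheaf.map (homOfLE le_top).op).hom f, hf U hU⟩ := by
      refine rdU_injective hL hU le_rfl ?_
      dsimp only
      rw [rdU_can, rdU, rd_res]
      refine K43.GrFrac.sec_ext fun y => ?_
      rw [val_globSec, ← Localization.mk_one_eq_algebraMap]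
      exact hs U hU y.1
    rw [e, nv_can hL hU rfl (fun y => exists_deg_notMem (hgen U hU) d y)]
  refine TopologicalSpace.Opens.ext (Set.ext fun x => ?_)
  obtain ⟨U, hxU⟩ := TopologicalSpace.Opens.mem_iSup.mp ((iSup_affineOpens_eq_top S).ge (Set.mem_univ (p x)))
  have h := congrArg (fun W : P.Opens => x ∈ W) (key U.1 U.2)
  have hx : x ∈ p ⁻¹ᵁ U.1 := hxU
  simpa [TopologicalSpace.Opens.mem_inf, hx] using h

end K40.RelNv

end
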