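import Groth.Agent.EGA2.K37.ProjBase
import Groth.Agent.EGA2.K37.ProjRing
import Groth.Agent.EGA2.K37.SpecBase
import Groth.Agent.EGA2.K37.LocTarget
import Groth.Agent.EGA2.K35.RelProjBasic
import Groth.Agent.EGA2.K41.LineRing

/-!
# `Spec 𝒜 ≅ Proj 𝒜[T]`
-/

set_option autoImplicit false
universe u
open CategoryTheory CategoryTheory.Limits AlgebraicGeometry TopologicalSpace Opposite
open scoped HomogeneousIdeal
noncomputable section

namespace K40.SpecPoly

open RelProj K41.LineRing HomogeneousLocalization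

variable {Y P : Scheme.{u}} {𝒜 : RelSpec.QCAlg Y} {Sh : RelProj.QCGrAlg Y}
    (ι : 𝒜 ⟶ Sh.toQCAlg)
    (hι : ∀ (U : Y.Opens) (hU : IsAffineOpen U) (a : 𝒜.presheaf.obj (op U)), (ι.hom.app (op U)).hom a ∈ Sh.deg U hU 0)
    (z : Sh.presheaf.obj (op ⊤))
    (hz : ∀ (U : Y.Opens) (hU : IsAffineOpen U), (Sh.presheaf.map (homOfLE le_top).op).hom z ∈ Sh.deg U hU 1)
    (hpoly : ∀ (U : Y.Opens) (_ : IsAffineOpen U),
      Function.Bijective (Polynomial.eval₂RingHom (ι.hom.app (op U)).hom ((Sh.presheaf.map (homOfLE le_top).op).hom z)))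

/-- `z` over `U`. -/
abbrev zAt (U : Y.Opens) : Sh.presheaf.obj (op U) := (Sh.presheaf.map (homOfLE le_top).op).hom z

include hι hz hpoly in
theorem isLine (U : Y.Opens) (hU : IsAffineOpen U) : IsLine (Sh.deg U hU) (ι.hom.app (op U)).hom (zAt z U) :=
  IsLine.of_bijective (hz U hU) (hι U hU) (hpoly U hU)

/-- The ring homomorphism `𝒜(U) → Ŝ(U)_(z)`. -/
def kap (U : Y.Opens) (hU : IsAffineOpen U) :
    𝒜.presheaf.obj (op U) ⟶ CommRingCat.of (Away (Sh.deg U hU) (zAt z U)) :=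
  CommRingCat.ofHom ((fromZeroRingHom (Sh.deg U hU) (Submonoid.powers (zAt z U))).comp
      (toZero (Sh.deg U hU) (ι.hom.app (op U)).hom (hι U hU)))

theorem val_kap (U : Y.Opens) (hU : IsAffineOpen U) (a : 𝒜.presheaf.obj (op U)) :
    ((kap ι hι z U hU).hom a).val = Localization.mk ((ι.hom.app (op U)).hom a) 1 := rfl

include hz hpoly in
theorem isIso_kap (U : Y.Opens) (hU : IsAffineOpen U) : IsIso (kap ι hι z U hU) :=
  (ConcreteCategory.isIso_iff_bijective _).mpr (bijective_toAway (isLine ι hι z hz hpoly U hU))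

variable
    (θ : ∀ (U : Y.Opens) (hU : IsAffineOpen U),
      CommRingCat.of (HomogeneousLocalization.Away (Sh.deg U hU) ((Sh.presheaf.map (homOfLE le_top).op).hom z)) ⟶
        𝒜.presheaf.obj (op U))
    (hθ : ∀ (U : Y.Opens) (hU : IsAffineOpen U)
      (q : HomogeneousLocalization.Away (Sh.deg U hU) ((Sh.presheaf.map (homOfLE le_top).op).hom z))
      (k : ℕ) (a : 𝒜.presheaf.obj (op U)),
        q.val = Localization.mk ((ι.hom.app (op U)).hom a * (Sh.presheaf.map (homOfLE le_top).op).hom z ^ k)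
          ⟨(Sh.presheaf.map (homOfLE le_top).op).hom z ^ k,
            pow_mem (Submonoid.mem_powers ((Sh.presheaf.map (homOfLE le_top).op).hom z)) k⟩ →
        (θ U hU).hom q = a)

include hθ in
theorem kap_θ (U : Y.Opens) (hU : IsAffineOpen U) : kap ι hι z U hU ≫ θ U hU = 𝟙 _ := by
  ext a
  refine hθ U hU _ 0 a ?_
  refine (val_kap ι hι z U hU a).trans ?_
  rw [Localization.mk_eq_mk_iff, Localization.r_iff_exists]
  exact ⟨1, by simp⟩

include hι hθ hz hpoly in
theorem isIso_θ (U : Y.Opens) (hU : IsAffineOpen U) : IsIso (θ U hU) := by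
  have := isIso_kap ι hι z hz hpoly U hU
  have h : θ U hU = inv (kap ι hι z U hU) := by
    rw [← cancel_epi (kap ι hι z U hU), kap_θ ι hι z θ hθ U hU, IsIso.hom_inv_id]
  rw [h]; infer_instance

theorem res_zAt (U V : Y.Opens) (hV : V ≤ U) :
    (Sh.presheaf.map (homOfLE hV).op).hom (zAt z U) = zAt z V := by
  rw [zAt, zAt, ← CommRingCat.comp_apply, ← Functor.map_comp]
  rfl

variable {p : P ⟶ Y}
    {chart : ∀ (U : Y.Opens) (hU : IsAffineOpen U), (((p ⁻¹ᵁ U : P.Opens) : Scheme.{u}) ≅ Proj (Sh.deg U hU))}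

/-- The chart of the morphism. -/
def f (U : Y.Opens) (hU : IsAffineOpen U) : Spec (𝒜.presheaf.obj (op U)) ⟶ P :=
  Spec.map (θ U hU) ≫
    Proj.awayι (Sh.deg U hU) ((Sh.presheaf.map (homOfLE le_top).op).hom z) (hz U hU) one_pos ≫
      RelProj.emb p chart U hU

include hι hθ hpoly in
theorem f_res (hP : IsRelProj Sh p chart) (U : Y.Opens) (hU : IsAffineOpen U) (r : Γ(Y, U)) :
    Spec.map (𝒜.presheaf.map (homOfLE (Y.basicOpen_le r)).op) ≫ f z hz θ (p := p) (chart := chart) U hU =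
      f z hz θ (p := p) (chart := chart) (Y.basicOpen r) (hU.basicOpen r) := by
  have := isIso_kap ι hι z hz hpoly U hU
  have e := K37.ProjRing.awayι_comp_map' (𝒜 := Sh.deg U hU) (Sh.res hU (hU.basicOpen r) (Y.basicOpen_le r))
    (Sh.irrelevant_le_map U hU r) one_pos (hz U hU) (res_zAt z U _ (Y.basicOpen_le r)) (hz _ (hU.basicOpen r))
  rw [f, f, ← map_res_emb hP U hU r, reassoc_of% e, ← Spec.map_comp_assoc, ← Spec.map_comp_assoc]
  congr 2
  rw [← cancel_epi (kap ι hι z U hU), ← Category.assoc, kap_θ ι hι z θ hθ, Category.id_comp]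
  ext a
  symm
  refine hθ _ (hU.basicOpen r) _ 0 _ ?_
  have h1 : (kap ι hι z U hU).hom a = Away.mk (Sh.deg U hU) (hz U hU) 0 ((ι.hom.app (op U)).hom a)
      (by rw [zero_smul]; exact hι U hU a) := by
    apply val_injective
    rw [val_kap, Away.val_mk]
    congr 1
    exact Subtype.ext (by simp)
  change (K37.ProjRing.awayMapTo _ (res_zAt z U _ (Y.basicOpen_le r)) ((kap ι hι z U hU).hom a)).val = _
  rw [h1, K37.ProjRing.awayMapTo_mk _ _ (hz U hU) (hz _ (hU.basicOpen r)), Away.val_mk,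
    Localization.mk_eq_mk_iff, Localization.r_iff_exists]
  refine ⟨1, ?_⟩
  have h2 : (Sh.res hU (hU.basicOpen r) (Y.basicOpen_le r)) ((ι.hom.app (op U)).hom a) =
      (ι.hom.app (op (Y.basicOpen r))).hom ((𝒜.presheaf.map (homOfLE (Y.basicOpen_le r)).op).hom a) :=
    congr($((ι.hom.naturality (homOfLE (Y.basicOpen_le r)).op).symm) a)
  simp [h2]

include hι hθ hpoly in
theorem existsUnique (hP : IsRelProj Sh p chart) :
    ∃! i : 𝒜.spec ⟶ P, ∀ (U : Y.Opens) (hU : IsAffineOpen U), 𝒜.ι U hU ≫ i = f z hz θ (p := p) (chart := chart) U hU :=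
  K37.SpecBase.existsUnique_desc 𝒜 _ (f_res ι hι z hz hpoly θ hθ hP)

theorem strZero_fromZero (U : Y.Opens) (hU : IsAffineOpen U) :
    Sh.strZero U hU ≫ CommRingCat.ofHom (fromZeroRingHom (Sh.deg U hU) (Submonoid.powers (zAt z U))) =
      𝒜.str.app (op U) ≫ kap ι hι z U hU := by
  ext r
  change Localization.mk ((Sh.strZero U hU).hom r : Sh.presheaf.obj (op U)) 1 =
    Localization.mk ((ι.hom.app (op U)).hom ((𝒜.str.app (op U)).hom r)) 1
  rw [Sh.strZero_apply_coe, ← ι.comm]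
  rfl

include hι hθ in
theorem f_p (hP : IsRelProj Sh p chart) (U : Y.Opens) (hU : IsAffineOpen U) :
    f z hz θ (p := p) (chart := chart) U hU ≫ p = 𝒜.ι U hU ≫ 𝒜.π := by
  rw [𝒜.ι_π, f, Category.assoc, Category.assoc, K35.RelProjBasic.emb_p hP, Proj.awayι_toSpecZero_assoc,
    ← Spec.map_comp_assoc, ← Spec.map_comp_assoc, ← Category.assoc, strZero_fromZero ι hι z, Category.assoc,
    kap_θ ι hι z θ hθ, Category.comp_id]

include hι hθ in
theorem comp_p (hP : IsRelProj Sh p chart) (i : 𝒜.spec ⟶ P)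
    (hi : ∀ (U : Y.Opens) (hU : IsAffineOpen U), 𝒜.ι U hU ≫ i = f z hz θ (p := p) (chart := chart) U hU) :
    i ≫ p = 𝒜.π := by
  apply K37.SpecBase.hom_ext 𝒜
  intro U hU
  rw [← Category.assoc, hi, f_p ι hι z hz θ hθ hP]

include hι hθ hpoly in
theorem isIso (hP : IsRelProj Sh p chart) (i : 𝒜.spec ⟶ P)
    (hi : ∀ (U : Y.Opens) (hU : IsAffineOpen U), 𝒜.ι U hU ≫ i = f z hz θ (p := p) (chart := chart) U hU) :
    IsIso i := by
  have hsq : ∀ U : {U : Y.Opens // IsAffineOpen U}, IsPullback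
      (Spec.map (θ U.1 U.2) ≫ Proj.awayι (Sh.deg U.1 U.2) (zAt z U.1) (hz U.1 U.2) one_pos)
      (𝒜.ι U.1 U.2) (emb p chart U.1 U.2) i := by
    intro U
    refine IsOpenImmersion.isPullback _ _ _ _ ?_ ?_
    · rw [hi, f, Category.assoc]
    · rw [K35.RelProjBasic.opensRange_emb, ← Scheme.Hom.comp_preimage, comp_p ι hι z hz θ hθ hP i hi, 𝒜.π_preimage]
  refine K37.LocTarget.of_squares i (K37.ProjBase.cover p chart) _ _ _ hsq (MorphismProperty.isomorphisms Scheme.{u})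
    fun U => ?_
  have h1 := isIso_θ ι hι z hz hpoly θ hθ U.1 U.2
  have h2 := isIso_awayι (isLine ι hι z hz hpoly U.1 U.2)
  change IsIso (Spec.map (θ U.1 U.2) ≫ Proj.awayι (Sh.deg U.1 U.2) (zAt z U.1) (hz U.1 U.2) one_pos)
  infer_instance

end K40.SpecPoly

end
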