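import Mathlib.RingTheory.GradedAlgebra.FiniteType
import Mathlib.RingTheory.MvPolynomial.Basic
import Mathlib.Algebra.Algebra.Operations
import Mathlib.Data.Finsupp.Interval
import Mathlib.Algebra.Algebra.Subalgebra.Lattice

/-!
# Veronese subrings of a finitely generated graded ring are generated in degree one

For a ring graded by additive subgroups and of finite type over its degree-zero part: for all large divisible `d`
one has `A_{nd} = (A_d)^n` (`n > 0`), and every `A_d` (`d` arbitrary) is a finitely generated `A_0`-module.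
-/

set_option autoImplicit false
set_option linter.unusedSectionVars false
universe u

namespace K40.Veronese

open DirectSum

variable {A : Type u} [CommRing A] (𝒜 : ℕ → AddSubgroup A) [GradedRing 𝒜]

section mono

variable {s : Finset A} (n : A → ℕ)

/-- the monomial with exponents `m`. -/
noncomputable def mon (m : s →₀ ℕ) : A := m.prod fun i k => (i : A) ^ k

/-- the weight of the exponents `m`. -/
noncomputable def wt (m : s →₀ ℕ) : ℕ := m.sum fun i k => k * n i

theorem mon_mem (hn : ∀ i ∈ s, i ∈ 𝒜 (n i)) (m : s →₀ ℕ) : mon m ∈ 𝒜 (wt n m) := by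
  classical
  unfold mon wt Finsupp.prod Finsupp.sum
  refine SetLike.prod_mem_graded (A := 𝒜) _ _ fun i _ => ?_
  have := SetLike.pow_mem_graded (A := 𝒜) (m i) (hn i.1 i.2)
  simpa [smul_eq_mul] using this

theorem mon_add (m m' : s →₀ ℕ) : mon (m + m') = mon m * mon m' := by
  classical
  exact Finsupp.prod_add_index' (fun i => pow_zero _) (fun i a b => pow_add _ _ _)

theorem wt_add (m m' : s →₀ ℕ) : wt n (m + m') = wt n m + wt n m' := by
  classical
  exact Finsupp.sum_add_index' (fun i => by simp) (fun i a b => by ring)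

theorem mon_single (i : s) (k : ℕ) : mon (Finsupp.single i k) = (i : A) ^ k := by
  simp [mon]

theorem wt_single (i : s) (k : ℕ) : wt n (Finsupp.single i k) = k * n i := by
  simp [wt]

/-- Every homogeneous element is a combination, with coefficients of degree zero, of the monomials of the same
weight. -/
theorem exists_eq_sum (hs : Algebra.adjoin (𝒜 0) (s : Set A) = ⊤) (hn : ∀ i ∈ s, i ∈ 𝒜 (n i)) {N : ℕ} {y : A}
    (hy : y ∈ 𝒜 N) : ∃ (S : Finset (s →₀ ℕ)) (c : (s →₀ ℕ) → 𝒜 0), (∀ m ∈ S, wt n m = N) ∧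
      y = ∑ m ∈ S, (c m : A) * mon m := by
  classical
  have h1 : y ∈ Algebra.adjoin (𝒜 0) (Set.range (Subtype.val : s → A)) := by
    have : (Set.range (Subtype.val : s → A)) = (s : Set A) := by simp
    rw [this, hs]; trivial
  rw [Algebra.adjoin_range_eq_range_aeval] at h1
  obtain ⟨p, hp⟩ := h1
  have hp' : y = ∑ m ∈ p.support, ((p.coeff m : 𝒜 0) : A) * mon m := by
    rw [← hp]
    change MvPolynomial.aeval _ p = _
    rw [MvPolynomial.aeval_def, MvPolynomial.eval₂_eq]
    rfl
  refine ⟨p.support.filter fun m => wt n m = N, fun m => p.coeff m, fun m hm => (Finset.mem_filter.mp hm).2, ?_⟩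
  have h2 := DirectSum.decompose_of_mem_same 𝒜 hy
  conv_lhs => rw [← h2]
  rw [hp', DirectSum.decompose_sum, DFinsupp.finsetSum_apply, AddSubmonoidClass.coe_finsetSum, Finset.sum_filter]
  refine Finset.sum_congr rfl fun m _ => ?_
  have hm : ((p.coeff m : 𝒜 0) : A) * mon m ∈ 𝒜 (wt n m) := by
    have := SetLike.mul_mem_graded (A := 𝒜) (p.coeff m).2 (mon_mem 𝒜 n hn m)
    simpa using this
  split_ifs with h
  · subst h
    exact DirectSum.decompose_of_mem_same 𝒜 hm
  · exact DirectSum.decompose_of_mem_ne 𝒜 hm h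

/-- A monomial of large weight is divisible by a monomial in one variable of weight `q`. -/
theorem exists_split {q : ℕ} (m : s →₀ ℕ)
    (hm : s.card * q < wt n m) : ∃ (i : s) (m' : s →₀ ℕ), m = Finsupp.single i (q / n i) + m' := by
  classical
  by_contra! H
  have h1 : ∀ i : s, m i * n i ≤ q := by
    intro i
    by_contra! h
    have h2 : q / n i ≤ m i := by
      apply Nat.div_le_of_le_mul
      rw [mul_comm]; exact h.le
    refine H i (m - Finsupp.single i (q / n i)) ?_
    rw [add_tsub_cancel_of_le]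
    rwa [Finsupp.single_le_iff]
  have h2 : wt n m ≤ s.card * q := by
    unfold wt Finsupp.sum
    calc ∑ i ∈ m.support, m i * n i ≤ ∑ i ∈ m.support, q := Finset.sum_le_sum fun i _ => h1 i
      _ = m.support.card * q := by simp
      _ ≤ s.card * q := by
        gcongr
        calc m.support.card ≤ Fintype.card s := Finset.card_le_univ _
          _ = s.card := by simp
  omega

end mono

theorem toInt_mul_le (a b : ℕ) : AddSubgroup.toIntSubmodule (𝒜 a) * AddSubgroup.toIntSubmodule (𝒜 b) ≤
    AddSubgroup.toIntSubmodule (𝒜 (a + b)) := by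
  rw [Submodule.mul_le]
  intro x hx y hy
  exact SetLike.mul_mem_graded (A := 𝒜) hx hy

theorem toInt_pow_le (a k : ℕ) (hk : 0 < k) : AddSubgroup.toIntSubmodule (𝒜 a) ^ k ≤
    AddSubgroup.toIntSubmodule (𝒜 (k * a)) := by
  induction k with
  | zero => omega
  | succ k ih =>
    rcases Nat.eq_zero_or_pos k with rfl | hk'
    · simp
    · rw [pow_succ, Nat.succ_mul]
      exact (mul_le_mul' (ih hk') le_rfl).trans (toInt_mul_le 𝒜 _ _)

/-- **EGA II 2.1.6 (iv), (v)**: if `A` is of finite type over `A_0`, then there is `q > 0` such that for every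
positive multiple `d` of `q` and every `n > 0` one has `A_{nd} = (A_d)^n`. -/
theorem exists_period [Algebra.FiniteType (𝒜 0) A] : ∃ q : ℕ, 0 < q ∧ ∀ c : ℕ, 0 < c → ∀ k : ℕ, 0 < k →
    AddSubgroup.toIntSubmodule (𝒜 (k * (c * q))) = AddSubgroup.toIntSubmodule (𝒜 (c * q)) ^ k := by
  classical
  obtain ⟨s, hs, hdeg⟩ := GradedAlgebra.exists_finset_adjoin_eq_top_and_homogeneous_ne_zero 𝒜
  choose! n hn0 hn using hdeg
  let q₀ : ℕ := ∏ i ∈ s, n i
  have hq₀ : 0 < q₀ := Finset.prod_pos fun i hi => Nat.pos_of_ne_zero (hn0 i hi)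
  have hq : ∀ i ∈ s, n i ∣ q₀ := fun i hi => Finset.dvd_prod_of_mem n hi
  have step : ∀ N : ℕ, s.card * q₀ ≤ N → AddSubgroup.toIntSubmodule (𝒜 (N + q₀)) ≤
      AddSubgroup.toIntSubmodule (𝒜 q₀) * AddSubgroup.toIntSubmodule (𝒜 N) := by
    intro N hN y hy
    obtain ⟨S, c, hS, rfl⟩ := exists_eq_sum 𝒜 n hs hn (N := N + q₀) hy
    refine sum_mem fun m hm => ?_
    obtain ⟨i, m', rfl⟩ := exists_split n (q := q₀) m (by rw [hS m hm]; omega)
    have hw : wt n m' = N := by
      have h1 := hS _ hm
      rw [wt_add, wt_single, Nat.div_mul_cancel (hq i i.2)] at h1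
      omega
    rw [mon_add, mon_single, ← mul_assoc, mul_comm ((c _ : 𝒜 0) : A), mul_assoc]
    refine Submodule.mul_mem_mul ?_ ?_
    · have := SetLike.pow_mem_graded (A := 𝒜) (q₀ / n i) (hn i.1 i.2)
      rw [smul_eq_mul, Nat.div_mul_cancel (hq i i.2)] at this
      exact this
    · have := SetLike.mul_mem_graded (A := 𝒜) (c (Finsupp.single i (q₀ / n i) + m')).2 (mon_mem 𝒜 n hn m')
      rw [zero_add, hw] at this
      exact this
  have step' : ∀ (j N : ℕ), s.card * q₀ ≤ N → AddSubgroup.toIntSubmodule (𝒜 (N + j * q₀)) ≤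
      AddSubgroup.toIntSubmodule (𝒜 q₀) ^ j * AddSubgroup.toIntSubmodule (𝒜 N) := by
    intro j N hN
    induction j with
    | zero => simp
    | succ j ih =>
      have e : N + (j + 1) * q₀ = N + j * q₀ + q₀ := by ring
      rw [e, pow_succ', mul_assoc]
      exact (step _ (by omega)).trans (mul_le_mul' le_rfl ih)
  refine ⟨(s.card + 1) * q₀, by positivity, fun c hc k hk => ?_⟩
  set d := c * ((s.card + 1) * q₀) with hd
  have hdq : d = (c * (s.card + 1)) * q₀ := by rw [hd]; ring
  have hdN : s.card * q₀ ≤ d := by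
    rw [hdq]
    gcongr
    nlinarith
  refine le_antisymm ?_ (toInt_pow_le 𝒜 _ _ hk)
  induction k with
  | zero => omega
  | succ k ih =>
    rcases Nat.eq_zero_or_pos k with rfl | hk'
    · simp
    · have h1 := step' (c * (s.card + 1)) (k * d) (hdN.trans (Nat.le_mul_of_pos_left d hk'))
      rw [← hdq] at h1
      rw [Nat.succ_mul]
      refine h1.trans ?_
      rw [pow_succ']
      refine mul_le_mul' ?_ (ih hk')
      have h2 := toInt_pow_le 𝒜 q₀ (c * (s.card + 1)) (by positivity)
      rwa [← hdq] at h2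

/-- If `A` is of finite type over `A_0`, then every `A_d` is a finitely generated `A_0`-module. -/
theorem exists_finset [Algebra.FiniteType (𝒜 0) A] (d : ℕ) : ∃ T : Finset A, (T : Set A) ⊆ (𝒜 d : Set A) ∧
    AddSubgroup.toIntSubmodule (𝒜 d) = AddSubgroup.toIntSubmodule (𝒜 0) * Submodule.span ℤ (T : Set A) := by
  classical
  obtain ⟨s, hs, hdeg⟩ := GradedAlgebra.exists_finset_adjoin_eq_top_and_homogeneous_ne_zero 𝒜
  choose! n hn0 hn using hdeg
  have hfin : {m : s →₀ ℕ | wt n m = d}.Finite := by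
    refine (Set.finite_Iic (Finsupp.equivFunOnFinite.symm (fun _ : s => d))).subset fun m hm => ?_
    intro i
    have h1 : m i * n i ≤ wt n m := by
      unfold wt Finsupp.sum
      by_cases h : i ∈ m.support
      · exact Finset.single_le_sum (f := fun i => m i * n i) (fun _ _ => Nat.zero_le _) h
      · rw [Finsupp.notMem_support_iff.mp h]; simp
    have h2 : m i ≤ m i * n i := Nat.le_mul_of_pos_right _ (Nat.pos_of_ne_zero (hn0 i.1 i.2))
    have h3 : wt n m = d := hm
    simp only [Finsupp.equivFunOnFinite_symm_apply_apply]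
    omega
  refine ⟨hfin.toFinset.image mon, ?_, le_antisymm ?_ ?_⟩
  · intro x hx
    obtain ⟨m, hm, rfl⟩ := Finset.mem_image.mp (Finset.mem_coe.mp hx)
    have := mon_mem 𝒜 n hn m
    rw [hfin.mem_toFinset.mp hm] at this
    exact this
  · intro y hy
    obtain ⟨S, c, hS, rfl⟩ := exists_eq_sum 𝒜 n hs hn (N := d) hy
    refine sum_mem fun m hm => Submodule.mul_mem_mul (c m).2 (Submodule.subset_span ?_)
    exact Finset.mem_coe.mpr (Finset.mem_image.mpr ⟨m, hfin.mem_toFinset.mpr (hS m hm), rfl⟩)
  · rw [Submodule.mul_le]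
    intro x hx y hy
    have h1 : Submodule.span ℤ ((hfin.toFinset.image mon : Finset A) : Set A) ≤ AddSubgroup.toIntSubmodule (𝒜 d) := by
      rw [Submodule.span_le]
      intro x hx
      obtain ⟨m, hm, rfl⟩ := Finset.mem_image.mp (Finset.mem_coe.mp hx)
      have := mon_mem 𝒜 n hn m
      rw [hfin.mem_toFinset.mp hm] at this
      exact this
    have := SetLike.mul_mem_graded (A := 𝒜) hx (h1 hy)
    rwa [zero_add] at this

end K40.Veronese
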